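import Cfsg.Agent.PushUpB.Setup

/-!
Pushing up: `Ω₁(Z(J(T)))` lies in `O_p(G)`, and `O_p(G) ∩ B(T)` is normal.
-/

set_option autoImplicit false
set_option linter.style.haveILetI false
set_option linter.unusedSectionVars false

namespace CfsgLib.PushUpB

open Subgroup CfsgLib.PMinFF CfsgLib.OffGen
open CfsgLib.Thompson (maxIn)

universe u

variable {G : Type u} [Group G] [Finite G] {p : ℕ} [Fact p.Prime] {T : Sylow p G} {M : Subgroup G}
  {P : Type u} [Group P] [Finite P] {π : G →* P} {W : Type u} [AddCommGroup W] [Finite W]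
  [DistribMulAction P W] {e : W ≃ Vo p G} {T' : Sylow p P} {𝓔 : Set (Subgroup P)}

theorem Q_normal : (Cfsg.pCore p G).Normal := CfsgLib.Solvable.pCore_normal p

theorem mem_Yt {U : Subgroup G} {y : G} (h : y ∈ Yt p U) :
    y ∈ Cfsg.thompsonSubgroupOf p U ∧
      (∀ j ∈ Cfsg.thompsonSubgroupOf p U, j * y = y * j) ∧ y ^ p = 1 := by
  have h1 := CfsgLib.Thompson.omegaOne_le _ h
  refine ⟨h1.1, mem_centralizer_iff.1 h1.2, ?_⟩
  exact (CfsgLib.Thompson.elab_omegaOne (H := Cfsg.centerThompsonOf p U)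
    fun x hx z hz => mem_centralizer_iff.1 hz.2 x hx.1).2 y h

theorem maxIn_le_thompson {U A : Subgroup G} (hA : A ∈ maxIn p U) :
    A ≤ Cfsg.thompsonSubgroupOf p U := by
  rw [CfsgLib.Thompson.thompsonSubgroupOf_eq]; exact le_sSup hA

theorem mem_of_commute_maxIn {U A : Subgroup G} (hA : A ∈ maxIn p U) {x : G} (hxU : x ∈ U)
    (hx : x ^ p = 1) (hc : ∀ a ∈ A, a * x = x * a) : x ∈ A := by
  have hel := CfsgLib.Thompson.elab_sup (CfsgLib.Thompson.elab_zpowers hx) hA.2.1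
    (zpowers_le.2 (mem_centralizer_iff.2 hc))
  have h := CfsgLib.Solvable.eq_of_le_of_card_le (le_sup_right (a := zpowers x))
    (hA.2.2 _ (sup_le (zpowers_le.2 hxU) hA.1) hel)
  rw [h]; exact le_sup_left (b := A) (mem_zpowers x)

theorem card_map_mul_ker (f : G →* P) (A : Subgroup G) :
    Nat.card A = Nat.card (A.map f) * Nat.card ↥(A ⊓ f.ker) := by
  rw [Subgroup.card_eq_card_quotient_mul_card_subgroup (f.ker.subgroupOf A)]
  congr 1
  · rw [← MonoidHom.ker_restrict,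
      Nat.card_congr (QuotientGroup.quotientKerEquivRange _).toEquiv, MonoidHom.restrict_range]
  · rw [← inf_subgroupOf_left, Nat.card_congr (Subgroup.subgroupOfEquivOfLe inf_le_left).toEquiv]

/-- The maximal elementary abelian subgroups of the whole group come from those of `T`. -/
theorem maxE_conj {D : Subgroup G} (T : Sylow p G)
    (hD : D ∈ Cfsg.maxElementaryAbelianSubgroups p G) :
    ∃ g : G, cj g D ∈ maxIn p (T : Subgroup G) := by
  obtain ⟨R, hR⟩ := (CfsgLib.Thompson.elab_isPGroup hD.1).exists_le_sylow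
  obtain ⟨g, hg⟩ := MulAction.exists_smul_eq G R T
  exact ⟨g, hg ▸ (smul_coe g R).symm ▸ cj_mono g hR, CfsgLib.Thompson.elab_map _ hD.1,
    fun K _ hK => by rw [card_cj]; exact hD.2 K hK⟩

theorem maxIn_maxE {A : Subgroup G} (T : Sylow p G) (hA : A ∈ maxIn p (T : Subgroup G)) :
    A ∈ Cfsg.maxElementaryAbelianSubgroups p G := by
  refine ⟨hA.2.1, fun D hD => ?_⟩
  obtain ⟨R, hR⟩ := (CfsgLib.Thompson.elab_isPGroup hD).exists_le_sylow
  obtain ⟨g, hg⟩ := MulAction.exists_smul_eq G R T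
  rw [← card_cj g D]
  exact hA.2.2 _ (hg ▸ (smul_coe g R).symm ▸ cj_mono g hR) (CfsgLib.Thompson.elab_map _ hD)

theorem cj_maxIn {A : Subgroup G} (hA : A ∈ maxIn p (T : Subgroup G)) (g : G)
    (h : cj g A ≤ (T : Subgroup G)) : cj g A ∈ maxIn p (T : Subgroup G) :=
  ⟨h, CfsgLib.Thompson.elab_map _ hA.2.1, fun K hK hK' => by rw [card_cj]; exact hA.2.2 K hK hK'⟩

theorem thompsonSubgroup_normal : (Cfsg.thompsonSubgroup p G).Normal := inferInstance

namespace PU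

variable (D : PU T M π e T' 𝓔)
include D

theorem Q_le_T : Cfsg.pCore p G ≤ (T : Subgroup G) := CfsgLib.Fitting.pCore_le_sylow T

theorem Q_le_ker : Cfsg.pCore p G ≤ π.ker := D.quot.ker ▸ pCore_le_centralizer_Vo

theorem V_le_Q : Vo p G ≤ Cfsg.pCore p G := fun _ hv => (mem_omegaOneCenter hv).1

theorem V_le_T : Vo p G ≤ (T : Subgroup G) := D.V_le_Q.trans D.Q_le_T

theorem V_le_ker : Vo p G ≤ π.ker := D.V_le_Q.trans D.Q_le_ker

theorem eq_one {x : G} (hx : x ∈ π.ker) : π x = 1 := hx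

theorem ker_commute {c v : G} (hc : c ∈ π.ker) (hv : v ∈ Vo p G) : c * v = v * c :=
  (mem_centralizer_iff.1 (D.quot.ker.le hc) v hv).symm

/-- The trade: every largest elementary abelian subgroup moves into `O_p(G)`. -/
theorem trade {A : Subgroup G} (hA : A ∈ maxIn p (T : Subgroup G)) :
    A ⊓ π.ker ⊔ Vo p G ∈ maxIn p (T : Subgroup G) ∧ A ⊓ π.ker ⊔ Vo p G ≤ Cfsg.pCore p G ∧
      Nat.card W ≤ meas W (A.map π) ∧ Elem p (A.map π) := by
  set A' := A ⊓ π.ker ⊔ Vo p G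
  have hel : Elem p (A.map π) := by
    refine ⟨?_, ?_⟩
    · rintro - ⟨a, ha, rfl⟩ - ⟨b, hb, rfl⟩
      rw [← map_mul, CfsgLib.Thompson.elab_commute hA.2.1 ha hb, map_mul]
    · rintro - ⟨a, ha, rfl⟩
      rw [← map_pow, hA.2.1.2 a ha, map_one]
  have hAT : A' ≤ (T : Subgroup G) := sup_le (inf_le_left.trans hA.1) D.V_le_T
  have helA : Cfsg.IsElementaryAbelian p A' :=
    CfsgLib.Thompson.elab_sup (CfsgLib.Thompson.elab_mono hA.2.1 inf_le_left) elab_Vo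
      (inf_le_right.trans D.quot.ker.le)
  have hle := hA.2.2 A' hAT helA
  have hAQ : A' ≤ Cfsg.pCore p G :=
    sup_le ((le_inf (inf_le_left.trans hA.1) inf_le_right).trans D.inf_C) D.V_le_Q
  haveI := Vo_normal (p := p) (G := G)
  have hsup : Nat.card A' * Nat.card ↥(A ⊓ Vo p G) =
      Nat.card ↥(A ⊓ π.ker) * Nat.card (Vo p G) := by
    have := CfsgLib.Solvable.card_sup_mul_card_inf (A := A ⊓ π.ker) (K := Vo p G)
      Subgroup.le_normalizer_of_normal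
    rwa [inf_assoc, inf_eq_right.2 D.V_le_ker] at this
  have hcard := card_map_mul_ker π A
  have hfix : Nat.card ↥(A ⊓ Vo p G) ≤ Nat.card (fix W (A.map π)) := by
    refine Nat.card_le_card_of_injective (fun a => ⟨e.symm ⟨a.1, a.2.2⟩, ?_⟩) fun a b h => ?_
    · rintro - ⟨b, hb, rfl⟩
      rw [D.quot.smul_eq_iff, e.apply_symm_apply]
      exact CfsgLib.Thompson.elab_commute hA.2.1 hb a.2.1
    · exact Subtype.ext (congrArg Subtype.val (e.symm.injective (congrArg Subtype.val h :)) :)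
  have hm : meas W (A.map π) ≤ Nat.card W := D.hyp.meas_le hel
  have hW : Nat.card W = Nat.card (Vo p G) := Nat.card_congr e
  have h1 : Nat.card A * Nat.card ↥(A ⊓ Vo p G) ≤ Nat.card A' * Nat.card ↥(A ⊓ Vo p G) := by
    rw [hsup, hcard, ← hW, mul_right_comm, mul_comm (Nat.card ↥(A ⊓ π.ker)) (Nat.card W)]
    refine Nat.mul_le_mul_right _ (le_trans ?_ hm)
    exact Nat.mul_le_mul_left _ hfix
  refine ⟨⟨hAT, helA, fun K hK hK' => (hA.2.2 K hK hK').trans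
    (Nat.le_of_mul_le_mul_right h1 Nat.card_pos)⟩, hAQ, ?_, hel⟩
  have h2 : Nat.card W * Nat.card ↥(A ⊓ π.ker) ≤ meas W (A.map π) * Nat.card ↥(A ⊓ π.ker) := by
    calc Nat.card W * Nat.card ↥(A ⊓ π.ker) = Nat.card A' * Nat.card ↥(A ⊓ Vo p G) := by
          rw [hsup, hW, mul_comm]
      _ ≤ Nat.card A * Nat.card (fix W (A.map π)) := Nat.mul_le_mul hle hfix
      _ = _ := by rw [hcard, meas, mul_right_comm]
  exact Nat.le_of_mul_le_mul_right h2 Nat.card_pos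

theorem J_le_T : Cfsg.thompsonSubgroupOf p (T : Subgroup G) ≤ (T : Subgroup G) :=
  CfsgLib.Thompson.thompsonSubgroupOf_le _

theorem V_le_J : Vo p G ≤ Cfsg.thompsonSubgroupOf p (T : Subgroup G) := by
  obtain ⟨A, hA⟩ := CfsgLib.Thompson.exists_maxIn (p := p) (T : Subgroup G)
  exact le_sup_right.trans (maxIn_le_thompson (D.trade hA).1)

theorem J_le_JG : Cfsg.thompsonSubgroupOf p (T : Subgroup G) ≤ Cfsg.thompsonSubgroup p G := by
  rw [CfsgLib.Thompson.thompsonSubgroupOf_eq]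
  exact sSup_le fun A hA => CfsgLib.Thompson.le_thompsonSubgroup (maxIn_maxE T hA)

theorem J_le_B : Cfsg.thompsonSubgroupOf p (T : Subgroup G) ≤
    Cfsg.baumannSubgroupOf p (T : Subgroup G) := CfsgLib.Baumann.thompson_le_baumann _

theorem Y_mem_maxIn {A : Subgroup G} (hA : A ∈ maxIn p (T : Subgroup G)) :
    Yt p (T : Subgroup G) ≤ A := fun _ hy =>
  mem_of_commute_maxIn hA (D.J_le_T (mem_Yt hy).1) (mem_Yt hy).2.2
    fun a ha => (mem_Yt hy).2.1 a (maxIn_le_thompson hA ha)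

theorem Y_le_Q : Yt p (T : Subgroup G) ≤ Cfsg.pCore p G := by
  obtain ⟨A, hA⟩ := CfsgLib.Thompson.exists_maxIn (p := p) (T : Subgroup G)
  exact (D.Y_mem_maxIn (D.trade hA).1).trans (D.trade hA).2.1

theorem mem_B {x : G} : x ∈ Cfsg.baumannSubgroupOf p (T : Subgroup G) ↔
    x ∈ (T : Subgroup G) ∧ ∀ y ∈ Yt p (T : Subgroup G), y * x = x * y := by
  rw [Cfsg.baumannSubgroupOf, Subgroup.mem_inf, mem_centralizer_iff]; rfl

theorem mem_Qz {x : G} : x ∈ Qz p (T : Subgroup G) ↔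
    x ∈ Cfsg.pCore p G ∧ ∀ y ∈ Yt p (T : Subgroup G), y * x = x * y :=
  ⟨fun h => ⟨h.1, (D.mem_B.1 h.2).2⟩, fun h => ⟨h.1, D.mem_B.2 ⟨D.Q_le_T h.1, h.2⟩⟩⟩

theorem Y_le_Qz : Yt p (T : Subgroup G) ≤ Qz p (T : Subgroup G) := fun y hy =>
  D.mem_Qz.2 ⟨D.Y_le_Q hy, fun _ hz =>
    ((mem_Yt hy).2.1 _ (mem_Yt hz).1)⟩

theorem V_le_Qz : Vo p G ≤ Qz p (T : Subgroup G) := fun _ hv =>
  D.mem_Qz.2 ⟨D.V_le_Q hv, fun y hy => D.ker_commute (D.Q_le_ker (D.Y_le_Q hy)) hv⟩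

/-- Elements of `T` fixed on `Y` and the module: fixed vectors of `J(T)` lie in `Y`. -/
theorem fix_le_Y {x : W} (hx : x ∈ fix W ((Cfsg.thompsonSubgroupOf p (T : Subgroup G)).map π)) :
    (e x : G) ∈ Yt p (T : Subgroup G) := by
  refine CfsgLib.Thompson.mem_omegaOne ⟨D.V_le_J (e x).2, mem_centralizer_iff.2 fun j hj => ?_⟩
    (elab_Vo.2 _ (e x).2)
  exact D.quot.smul_eq_iff.1 (hx _ (Subgroup.mem_map_of_mem π hj))

/-- A conjugate of `Y` moves only into `V` under the largest elementary abelian subgroups. -/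
theorem shift {A : Subgroup G} (hA : A ∈ maxIn p (T : Subgroup G)) {y : G}
    (hy : y ∈ Yt p (T : Subgroup G)) (g : G) {a : G} (ha : a ∈ A) :
    a * (g * y * g⁻¹) * a⁻¹ * (g * y * g⁻¹)⁻¹ ∈ Vo p G := by
  set z := g * y * g⁻¹ with hz
  obtain ⟨hA', hA'Q, -, -⟩ := D.trade hA
  set A' := A ⊓ π.ker ⊔ Vo p G with hA'def
  haveI := Q_normal (p := p) (G := G)
  have hzA : z ∈ A' := by
    refine mem_of_commute_maxIn hA' (D.Q_le_T ((Q_normal).conj_mem y (D.Y_le_Q hy) g))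
      (by rw [conj_pow, (mem_Yt hy).2.2, mul_one, mul_inv_cancel]) fun b hb => ?_
    have hc : cj g⁻¹ A' ∈ maxIn p (T : Subgroup G) := cj_maxIn hA' _ (by
      rintro - ⟨c, hc, rfl⟩
      exact D.Q_le_T ((Q_normal).conj_mem c (hA'Q hc) g⁻¹))
    have h1 := (mem_Yt hy).2.1 _ (maxIn_le_thompson hc (conj_mem_cj (g := g⁻¹) hb))
    rw [inv_inv] at h1
    calc b * z = g * (g⁻¹ * b * g * y) * g⁻¹ := by rw [hz]; group
      _ = z * b := by rw [h1, hz]; group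
  haveI := Vo_normal (p := p) (G := G)
  obtain ⟨c, hc, v, hv, hcv⟩ := Subgroup.mem_sup_of_normal_right.1 hzA
  rw [← hcv, show a * (c * v) * a⁻¹ * (c * v)⁻¹ = (a * c) * v * a⁻¹ * v⁻¹ * c⁻¹ by group,
    CfsgLib.Thompson.elab_commute hA.2.1 ha hc.1,
    show c * a * v * a⁻¹ * v⁻¹ * c⁻¹ = c * (a * v * a⁻¹ * v⁻¹) * c⁻¹ by group]
  exact (Vo_normal).conj_mem _ (mul_mem ((Vo_normal).conj_mem v hv a) (inv_mem hv)) c

/-- `J(G)` moves the conjugates of `Y` only by `V`. -/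
theorem comm_JG {g : G} (hg : g ∈ Cfsg.thompsonSubgroup p G) :
    ∀ y ∈ Yt p (T : Subgroup G), ∀ h : G,
      g * (h * y * h⁻¹) * g⁻¹ * (h * y * h⁻¹)⁻¹ ∈ Vo p G := by
  haveI := Vo_normal (p := p) (G := G)
  let S : Subgroup G :=
    { carrier := {g | ∀ y ∈ Yt p (T : Subgroup G), ∀ h : G,
        g * (h * y * h⁻¹) * g⁻¹ * (h * y * h⁻¹)⁻¹ ∈ Vo p G}
      one_mem' := fun y _ h => by simp
      mul_mem' := fun {a b} ha hb y hy h => by
        rw [show a * b * (h * y * h⁻¹) * (a * b)⁻¹ * (h * y * h⁻¹)⁻¹ =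
          a * (b * (h * y * h⁻¹) * b⁻¹ * (h * y * h⁻¹)⁻¹) * a⁻¹ *
            (a * (h * y * h⁻¹) * a⁻¹ * (h * y * h⁻¹)⁻¹) by group]
        exact mul_mem ((Vo_normal).conj_mem _ (hb y hy h) a) (ha y hy h)
      inv_mem' := fun {a} ha y hy h => by
        have h1 := (Vo_normal).conj_mem _ (inv_mem (ha y hy h)) a⁻¹
        rw [inv_inv, show a⁻¹ * (a * (h * y * h⁻¹) * a⁻¹ * (h * y * h⁻¹)⁻¹)⁻¹ * a =
          a⁻¹ * (h * y * h⁻¹) * a⁻¹⁻¹ * (h * y * h⁻¹)⁻¹ by group] at h1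
        exact h1 }
  refine (sSup_le fun A hA a ha => ?_ : Cfsg.thompsonSubgroup p G ≤ S) hg
  obtain ⟨k, hk⟩ := maxE_conj T hA
  intro y hy h
  have h1 := (Vo_normal).conj_mem _ (D.shift hk hy (k * h) (conj_mem_cj (g := k) ha)) k⁻¹
  rw [show k⁻¹ * (k * a * k⁻¹ * (k * h * y * (k * h)⁻¹) * (k * a * k⁻¹)⁻¹ *
    (k * h * y * (k * h)⁻¹)⁻¹) * k⁻¹⁻¹ = a * (h * y * h⁻¹) * a⁻¹ * (h * y * h⁻¹)⁻¹ by group] at h1
  exact h1

theorem sup_T : Cfsg.thompsonSubgroup p G ⊔ (T : Subgroup G) = ⊤ := by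
  refine (D.hover.2.2 _ le_sup_right).resolve_right fun h => D.hyp.hover.2.1 (top_le_iff.1 ?_)
  rw [← D.blk.top, ← D.image, D.hT', ← Subgroup.map_sup]
  exact Subgroup.map_mono h

theorem T_le_normalizer_Y : (T : Subgroup G) ≤ normalizer (Yt p (T : Subgroup G) : Set G) := by
  intro t ht
  refine mem_normalizer_of_le ?_
  have h1 : cj t (T : Subgroup G) = (T : Subgroup G) := PMinFF.cj_self ht
  rw [Yt, cj, CfsgLib.Thompson.map_omegaOne _ (MulAut.conj t).injective]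
  refine CfsgLib.Thompson.omegaOne_mono ?_
  have h2 : cj t (Cfsg.thompsonSubgroupOf p (T : Subgroup G)) =
      Cfsg.thompsonSubgroupOf p (T : Subgroup G) :=
    (CfsgLib.Thompson.map_thompsonSubgroupOf (MulAut.conj t) _).trans (congrArg _ h1)
  rintro - ⟨z, hz, rfl⟩
  refine ⟨h2.le ⟨z, hz.1, rfl⟩, mem_centralizer_iff.2 fun j hj => ?_⟩
  obtain ⟨j₀, hj₀, rfl⟩ := h2.ge hj
  simp only [MulEquiv.coe_toMonoidHom, MulAut.conj_apply]
  rw [show t * j₀ * t⁻¹ * (t * z * t⁻¹) = t * (j₀ * z) * t⁻¹ by group,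
    mem_centralizer_iff.1 hz.2 j₀ hj₀]
  group

theorem Qz_normal : (Qz p (T : Subgroup G)).Normal := by
  haveI := Vo_normal (p := p) (G := G)
  have hyv : ∀ g : G, ∀ y ∈ Yt p (T : Subgroup G), ∃ y' ∈ Yt p (T : Subgroup G), ∃ v ∈ Vo p G,
      g * y * g⁻¹ = v * y' := by
    intro g y hy
    haveI := thompsonSubgroup_normal (p := p) (G := G)
    obtain ⟨j, hj, t, ht, rfl⟩ := Subgroup.mem_sup_of_normal_left.1 (D.sup_T.ge (mem_top g))
    refine ⟨t * y * t⁻¹, (mem_normalizer_iff.1 (D.T_le_normalizer_Y ht) y).1 hy, _,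
      D.comm_JG hj _ ((mem_normalizer_iff.1 (D.T_le_normalizer_Y ht) y).1 hy) 1, by group⟩
  refine ⟨fun x hx g => D.mem_Qz.2 ⟨(Q_normal).conj_mem x hx.1 g, fun y hy => ?_⟩⟩
  obtain ⟨y', hy', v, hv, h⟩ := hyv g⁻¹ y hy
  have h1 : (g⁻¹ * y * g⁻¹⁻¹) * x = x * (g⁻¹ * y * g⁻¹⁻¹) := by
    rw [h, mul_assoc, (D.mem_Qz.1 hx).2 y' hy', ← mul_assoc,
      ← D.ker_commute (D.Q_le_ker hx.1) hv, mul_assoc]
  calc y * (g * x * g⁻¹) = g * ((g⁻¹ * y * g⁻¹⁻¹) * x) * g⁻¹ := by group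
    _ = g * x * g⁻¹ * y := by rw [h1]; group

theorem Lt_normal : (Lt p (T : Subgroup G)).Normal := by
  haveI := thompsonSubgroup_normal (p := p) (G := G)
  haveI := D.Qz_normal
  exact Subgroup.sup_normal _ _

theorem map_Qz : (Qz p (T : Subgroup G)).map π = ⊥ :=
  (Subgroup.map_eq_bot_iff _).2 (inf_le_left.trans D.Q_le_ker)

theorem map_Lt : (Lt p (T : Subgroup G)).map π = sSup 𝓔 := by
  rw [Lt, Subgroup.map_sup, D.map_Qz, sup_bot_eq, D.image]

end PU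

end CfsgLib.PushUpB
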