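import Cfsg.Agent.SpecBlow.CoxeterA
import Cfsg.Agent.Transfer.PResidual
import Cfsg.Prelude.Def_Transfer

/-!
Pushing up: extensions of symmetric groups by two-groups centralised by lifts of transpositions.
-/

set_option autoImplicit false
set_option linter.style.haveILetI false
set_option linter.unusedSectionVars false

namespace CfsgLib.PushUpB

open Subgroup

theorem map_pResidual_surj {H K : Type*} [Group H] [Group K] [Finite H] {p : ℕ} [Fact p.Prime]
    (f : H →* K) (hf : Function.Surjective f) :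
    (Cfsg.pResidual p H).map f = Cfsg.pResidual p K := by
  haveI : Finite K := Finite.of_surjective f hf
  haveI : (Cfsg.pResidual p H).Normal := inferInstance
  haveI : ((Cfsg.pResidual p H).map f).Normal := Subgroup.Normal.map inferInstance _ hf
  obtain ⟨k, hk⟩ := PResidual.exists_index_pResidual (G := H) (p := p)
  obtain ⟨j, -, hj⟩ := (Nat.dvd_prime_pow Fact.out).1 (hk ▸ (Cfsg.pResidual p H).index_map_dvd hf)
  exact le_antisymm (PResidual.map_pResidual_le f) (PResidual.pResidual_le hj)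

theorem pResidual_perm {N : ℕ} :
    Cfsg.pResidual 2 (Equiv.Perm (Fin N)) = alternatingGroup (Fin N) := by
  refine le_antisymm ((closure_le _).2 fun x hx => ?_) ?_
  · show Equiv.Perm.sign x = 1
    rcases Int.units_eq_one_or (Equiv.Perm.sign x) with h | h
    · exact h
    · have h1 : (Equiv.Perm.sign x) ^ orderOf x = 1 := by rw [← map_pow, pow_orderOf_eq_one, map_one]
      rw [h, (Nat.coprime_two_right.1 hx).neg_one_pow] at h1
      exact absurd h1 (by decide)
  · rw [← Equiv.Perm.closure_three_cycles_eq_alternating, closure_le]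
    intro x hx
    refine PResidual.mem_pResidual 2 ?_
    rw [Equiv.Perm.IsThreeCycle.orderOf hx]
    decide

/-- Four points can be moved anywhere. -/
theorem exists_perm_four {α : Type*} [DecidableEq α] {a b c d a' b' c' d' : α} (hab : a ≠ b)
    (hac : a ≠ c) (had : a ≠ d) (hbc : b ≠ c) (hbd : b ≠ d) (hcd : c ≠ d) (hab' : a' ≠ b')
    (hac' : a' ≠ c') (had' : a' ≠ d') (hbc' : b' ≠ c') (hbd' : b' ≠ d') (hcd' : c' ≠ d') :
    ∃ σ : Equiv.Perm α, σ a = a' ∧ σ b = b' ∧ σ c = c' ∧ σ d = d' := by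
  have step : ∀ (σ : Equiv.Perm α) (x x' y y' : α), σ x = x' → x ≠ y → x' ≠ y' →
      (Equiv.swap (σ y) y' * σ) x = x' := by
    intro σ x x' y y' h hne hne'
    rw [Equiv.Perm.mul_apply, h,
      Equiv.swap_apply_of_ne_of_ne (fun e => hne (σ.injective (h.trans e))) hne']
  have top : ∀ (σ : Equiv.Perm α) (y y' : α), (Equiv.swap (σ y) y' * σ) y = y' := fun σ y y' => by
    rw [Equiv.Perm.mul_apply, Equiv.swap_apply_left]
  set σ1 := Equiv.swap ((1 : Equiv.Perm α) a) a' * 1
  set σ2 := Equiv.swap (σ1 b) b' * σ1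
  set σ3 := Equiv.swap (σ2 c) c' * σ2
  set σ4 := Equiv.swap (σ3 d) d' * σ3
  have a2 : σ2 a = a' := step σ1 a a' b b' (top 1 a a') hab hab'
  have b3 : σ3 b = b' := step σ2 b b' c c' (top σ1 b b') hbc hbc'
  have a3 : σ3 a = a' := step σ2 a a' c c' a2 hac hac'
  exact ⟨σ4, step σ3 a a' d d' a3 had had', step σ3 b b' d d' b3 hbd hbd',
    step σ3 c c' d d' (top σ2 c c') hcd hcd', top σ3 d d'⟩

section Split

variable {M : Type*} [Group M] [Finite M] {n : ℕ} (f : M →* Equiv.Perm (Fin (n + 1)))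

/-- An involution centralising the kernel. -/
def GoodLift (s : M) : Prop := s ^ 2 = 1 ∧ ∀ k ∈ f.ker, s * k = k * s

variable {f}

theorem GoodLift.conj {s : M} (hs : GoodLift f s) (g : M) : GoodLift f (g * s * g⁻¹) := by
  refine ⟨by rw [conj_pow, hs.1, mul_one, mul_inv_cancel], fun k hk => ?_⟩
  have h := hs.2 _ ((inferInstance : f.ker.Normal).conj_mem k hk g⁻¹)
  rw [inv_inv] at h
  calc g * s * g⁻¹ * k = g * (s * (g⁻¹ * k * g)) * g⁻¹ := by group
    _ = g * ((g⁻¹ * k * g) * s) * g⁻¹ := by rw [h]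
    _ = _ := by group

theorem GoodLift.diff {s s' : M} (hs : GoodLift f s) (hs' : GoodLift f s') (he : f s = f s') :
    ∃ u ∈ f.ker, (∀ k ∈ f.ker, u * k = k * u) ∧ s' = s * u := by
  refine ⟨s⁻¹ * s', by rw [MonoidHom.mem_ker, map_mul, map_inv, he, inv_mul_cancel], fun k hk => ?_,
    (mul_inv_cancel_left _ _).symm⟩
  have h1 : s⁻¹ = s := inv_eq_of_mul_eq_one_right (by rw [← pow_two]; exact hs.1)
  rw [h1, mul_assoc, hs'.2 k hk, ← mul_assoc, hs.2 k hk, mul_assoc]

theorem GoodLift.far {s r t t' : M} (hs : GoodLift f s) (hr : GoodLift f r) (ht : GoodLift f t) (ht' : GoodLift f t')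
    (hc : t * t' = t' * t) (g : M) (hfs : f s = f (g * t * g⁻¹)) (hfr : f r = f (g * t' * g⁻¹)) :
    s * r = r * s := by
  obtain ⟨u, hu, huc, rfl⟩ := (ht.conj g).diff hs hfs.symm
  obtain ⟨v, hv, hvc, rfl⟩ := (ht'.conj g).diff hr hfr.symm
  have hA : Commute (g * t * g⁻¹) (g * t' * g⁻¹) :=
    (show Commute t t' from hc).map (MulAut.conj g).toMonoidHom
  have hB : Commute (g * t * g⁻¹) v := (ht.conj g).2 v hv
  have hC : Commute u (g * t' * g⁻¹) := ((ht'.conj g).2 u hu).symm
  have hD : Commute u v := huc v hv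
  exact ((hA.mul_right hB).mul_left (hC.mul_right hD)).eq

variable (hp : IsPGroup 2 f.ker) (hsurj : Function.Surjective f)
  (h1 : ∃ t a b, a ≠ b ∧ GoodLift f t ∧ f t = Equiv.swap a b)
  (h2 : 3 ≤ n → ∃ t t' : M, ∃ a b c d : Fin (n + 1), a ≠ b ∧ a ≠ c ∧ a ≠ d ∧ b ≠ c ∧ b ≠ d ∧
    c ≠ d ∧ GoodLift f t ∧ GoodLift f t' ∧ f t = Equiv.swap a b ∧ f t' = Equiv.swap c d ∧ t * t' = t' * t)

include hsurj h1

theorem exists_good {x y : Fin (n + 1)} (hxy : x ≠ y) : ∃ s, GoodLift f s ∧ f s = Equiv.swap x y := by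
  obtain ⟨t, a, b, hab, ht, hft⟩ := h1
  set σ1 : Equiv.Perm (Fin (n + 1)) := Equiv.swap a x
  obtain ⟨g, hg⟩ := hsurj (Equiv.swap (σ1 b) y * σ1)
  refine ⟨g * t * g⁻¹, ht.conj g, ?_⟩
  have e1 : f g a = x := by
    rw [hg, Equiv.Perm.mul_apply, show σ1 a = x from Equiv.swap_apply_left a x]
    refine Equiv.swap_apply_of_ne_of_ne (fun e => hab (σ1.injective ?_)) hxy
    rw [show σ1 a = x from Equiv.swap_apply_left a x]; exact e
  have e2 : f g b = y := by rw [hg, Equiv.Perm.mul_apply, Equiv.swap_apply_left]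
  rw [map_mul, map_mul, map_inv, hft, ← Equiv.swap_apply_apply, e1, e2]

include hp h2

/-- The elements of odd order generate a subgroup meeting the kernel trivially. -/
theorem residual_inf_ker {x : M} (hx : x ∈ Cfsg.pResidual 2 M) (hfx : f x = 1) : x = 1 := by
  classical
  have hlift : ∀ i, i < n → ∃ s, GoodLift f s ∧ f s = CfsgLib.CoxeterA.adj n i := fun i hi => by
    rw [CfsgLib.CoxeterA.adj, dif_pos hi]
    refine exists_good hsurj h1 ?_
    simp [Fin.ext_iff]
  obtain ⟨ab, abr, abf⟩ := CfsgLib.CoxeterA.adj_rel n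
  let P : ℕ → M → Prop := fun i s => GoodLift f s ∧ f s = CfsgLib.CoxeterA.adj n i
  have step : ∀ i, i + 1 < n → ∀ s, P i s → ∃ r, P (i + 1) r ∧ (s * r) ^ 3 = 1 := by
    intro i hi s ⟨hs, hfs⟩
    obtain ⟨r, hr, hfr⟩ := hlift (i + 1) hi
    set z := (s * r) ^ 3 with hz
    have hzk : z ∈ f.ker := by
      rw [MonoidHom.mem_ker, hz, map_pow, map_mul, hfs, hfr]; exact abr i hi
    have hsi : s⁻¹ = s := inv_eq_of_mul_eq_one_right (by rw [← pow_two]; exact hs.1)
    have hri : r⁻¹ = r := inv_eq_of_mul_eq_one_right (by rw [← pow_two]; exact hr.1)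
    have hsr : ∀ k ∈ f.ker, Commute (s * r) k := fun k hk =>
      (show Commute s k from hs.2 k hk).mul_left (hr.2 k hk)
    have hinv : s * z * s⁻¹ = z⁻¹ := by
      rw [hz, ← conj_pow, ← inv_pow]
      refine congrArg (· ^ 3) ?_
      rw [mul_inv_rev, hsi, hri, show s * (s * r) * s = (s * s) * r * s by group, ← pow_two, hs.1,
        one_mul]
    rw [hs.2 z hzk, mul_inv_cancel_right] at hinv
    refine ⟨r * z, ⟨⟨?_, fun k hk => ?_⟩, ?_⟩, ?_⟩
    · rw [(show Commute r z from hr.2 z hzk).mul_pow, hr.1, one_mul, pow_two]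
      nth_rw 1 [hinv]
      exact inv_mul_cancel z
    · exact ((show Commute r k from hr.2 k hk).mul_left ((hsr k hk).pow_left 3)).eq
    · rw [map_mul, hfr, MonoidHom.mem_ker.1 hzk, mul_one]
    · have hzz : z * z = 1 := by
        nth_rw 2 [hinv]
        exact mul_inv_cancel z
      rw [← mul_assoc, (hsr z hzk).mul_pow, ← hz, pow_succ' z 2, pow_two, hzz, mul_one, hzz]
  let F : ℕ → M := fun i => Nat.rec (if h : ∃ s, P 0 s then h.choose else 1)
    (fun i s => if h : ∃ r, P (i + 1) r ∧ (s * r) ^ 3 = 1 then h.choose else 1) i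
  have hF : ∀ i, i < n → P i (F i) := by
    intro i hi
    induction i with
    | zero =>
      have h : ∃ s, P 0 s := hlift 0 hi
      show P 0 (if h : ∃ s, P 0 s then h.choose else 1)
      rw [dif_pos h]; exact h.choose_spec
    | succ i ih =>
      have h := step i hi (F i) (ih (by omega))
      show P (i + 1) (if h : ∃ r, P (i + 1) r ∧ (F i * r) ^ 3 = 1 then h.choose else 1)
      rw [dif_pos h]; exact h.choose_spec.1
  have hrel : CfsgLib.CoxeterA.Rel F n := by
    refine ⟨fun i hi => (hF i hi).1.1, fun i hi => ?_, fun i j hij hj => ?_⟩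
    · have h := step i hi (F i) (hF i (by omega))
      show (F i * (if h : ∃ r, P (i + 1) r ∧ (F i * r) ^ 3 = 1 then h.choose else 1)) ^ 3 = 1
      rw [dif_pos h]; exact h.choose_spec.2
    · obtain ⟨t, t', a, b, c, d, n1, n2, n3, n4, n5, n6, ht, ht', e1, e2, hc⟩ := h2 (by omega)
      obtain ⟨σ, s1, s2, s3, s4⟩ := exists_perm_four n1 n2 n3 n4 n5 n6
        (a' := (⟨i, by omega⟩ : Fin n).castSucc) (b' := (⟨i, by omega⟩ : Fin n).succ)
        (c' := (⟨j, hj⟩ : Fin n).castSucc) (d' := (⟨j, hj⟩ : Fin n).succ)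
        (by simp [Fin.ext_iff]) (by simp [Fin.ext_iff]; omega) (by simp [Fin.ext_iff]; omega)
        (by simp [Fin.ext_iff]; omega) (by simp [Fin.ext_iff]; omega) (by simp [Fin.ext_iff])
      obtain ⟨g, rfl⟩ := hsurj σ
      refine (hF i (by omega)).1.far (hF j hj).1 ht ht' hc g ?_ ?_
      · rw [(hF i (by omega)).2, map_mul, map_mul, map_inv, e1, ← Equiv.swap_apply_apply, s1, s2,
          CfsgLib.CoxeterA.adj, dif_pos]
      · rw [(hF j hj).2, map_mul, map_mul, map_inv, e2, ← Equiv.swap_apply_apply, s3, s4,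
          CfsgLib.CoxeterA.adj, dif_pos]
  obtain ⟨φ, hφr, hφ⟩ := CfsgLib.CoxeterA.exists_hom F hrel
  have hid : f.comp φ = MonoidHom.id _ := by
    refine MonoidHom.ext fun σ => ?_
    have hσ : σ ∈ Submonoid.closure (Set.range fun i : Fin n => Equiv.swap i.castSucc i.succ) := by
      rw [Equiv.Perm.mclosure_swap_castSucc_succ]; trivial
    induction hσ using Submonoid.closure_induction with
    | mem y hy =>
      obtain ⟨k, rfl⟩ := hy
      have e : CfsgLib.CoxeterA.adj n k.1 = Equiv.swap k.castSucc k.succ := by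
        rw [CfsgLib.CoxeterA.adj, dif_pos k.2]
      show f (φ (Equiv.swap k.castSucc k.succ)) = Equiv.swap k.castSucc k.succ
      rw [← e, hφ k.1 k.2, (hF k.1 k.2).2]
    | one => simp
    | mul y z _ _ hy hz => simp only [map_mul, hy, hz]
  have hleft : ∀ σ, f (φ σ) = σ := fun σ => DFunLike.congr_fun hid σ
  have hcent : φ.range ≤ centralizer (f.ker : Set M) := by
    rw [hφr, closure_le]
    rintro _ ⟨i, hi, rfl⟩
    exact mem_centralizer_iff.2 fun k hk => ((hF i hi).1.2 k hk).symm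
  have hle : Cfsg.pResidual 2 M ≤ φ.range := (closure_le _).2 fun y hy => by
    set k := (φ (f y))⁻¹ * y with hk
    have hkk : k ∈ f.ker := by rw [MonoidHom.mem_ker, hk, map_mul, map_inv, hleft, inv_mul_cancel]
    have hc : Commute (φ (f y)) k :=
      (mem_centralizer_iff.1 (hcent ⟨f y, rfl⟩) k hkk).symm
    have hy' : y = φ (f y) * k := by rw [hk, mul_inv_cancel_left]
    have h3 : k ^ orderOf y = 1 := by
      have h4 := hc.mul_pow (orderOf y)
      rw [← hy', pow_orderOf_eq_one, ← map_pow, ← map_pow, pow_orderOf_eq_one, map_one, map_one,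
        one_mul] at h4
      exact h4.symm
    obtain ⟨j, hj⟩ := hp ⟨k, hkk⟩
    have h5 : k = 1 := orderOf_eq_one_iff.1 (Nat.eq_one_of_dvd_coprimes
      (Nat.Coprime.pow_right j (show (orderOf y).Coprime 2 from hy)) (orderOf_dvd_of_pow_eq_one h3)
      (orderOf_dvd_of_pow_eq_one (congrArg Subtype.val hj)))
    exact ⟨f y, by conv_rhs => rw [hy', h5, mul_one]⟩
  obtain ⟨σ, rfl⟩ := hle hx
  rw [hleft] at hfx
  rw [hfx, map_one]

end Split

end CfsgLib.PushUpB
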