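import Cfsg.Agent.PushUpB.Dom
import Cfsg.Agent.PushUpB.SplitPerm
import Cfsg.Agent.LocalB.BlockCore

/-!
Pushing up: the pieces of a symmetric block.
-/

set_option autoImplicit false
set_option linter.style.haveILetI false
set_option linter.unusedSectionVars false

namespace CfsgLib.PushUpB

open Subgroup Matrix CfsgLib.PMinFF CfsgLib.OffGen CfsgLib.BlockPermCombi
open scoped commutatorElement

universe u

variable {G : Type u} [Group G] [Finite G] {p : ℕ} [Fact p.Prime] {T : Sylow p G} {M : Subgroup G}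
  {P : Type u} [Group P] [Finite P] {π : G →* P} {W : Type u} [AddCommGroup W] [Finite W]
  [DistribMulAction P W] {e : W ≃ Vo p G} {T' : Sylow p P} {𝓔 : Set (Subgroup P)}
  {E : Subgroup P} {N : ℕ}

theorem perm3_order : ∀ σ : Equiv.Perm (Fin 3), σ = 1 ∨ σ ^ 2 = 1 ∨
    σ = Equiv.swap 0 1 * Equiv.swap 1 2 ∨ σ * σ = Equiv.swap 0 1 * Equiv.swap 1 2 := by decide

theorem three_add_self : ∀ a : ZMod 2, a + a + a = 0 → a = 0 := by decide

/-- A vector of a three-point piece fixed by it vanishes. -/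
theorem com_inf_fix_three (Y : PMD W T' E N) (ι : Fin 3 ↪ Fin N) {x : W}
    (hx : x ∈ com W (three Y.ρ ι)) (hf : x ∈ fix W (three Y.ρ ι)) : x = 0 := by
  classical
  have hE' : three Y.ρ ι ≤ E := map_subtype_le _
  have hoff : ∀ z, z ∉ Set.range ι → Y.ψ x z = 0 := by
    intro z hz
    clear hf
    induction hx using AddSubgroup.closure_induction with
    | mem y hy =>
      obtain ⟨g, hg, w, rfl⟩ := hy
      obtain ⟨g', ⟨σ, hσ⟩, rfl⟩ := hg
      rw [map_sub, Pi.sub_apply, show ((E.subtype g') : P) = (g' : P) from rfl, Y.equi]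
      show Y.ψ w ((Y.ρ g')⁻¹ z) - Y.ψ w z = 0
      rw [show Y.ρ g' = Equiv.Perm.viaEmbeddingHom ι σ from hσ.symm, ← map_inv,
        via_apply_not ι _ z hz, sub_self]
    | zero => simp
    | add u v _ _ hu hv => rw [map_add, Pi.add_apply, hu, hv, add_zero]
    | neg u _ hu => rw [map_neg, Pi.neg_apply, hu, neg_zero]
  have hsw : ∀ i j, Y.ψ x (ι i) = Y.ψ x (ι j) := by
    intro i j
    let g : E := Y.ρ.symm (Equiv.Perm.viaEmbeddingHom ι (Equiv.swap i j))
    have hg : (g : P) ∈ three Y.ρ ι := ⟨g, ⟨Equiv.swap i j, (Y.ρ.apply_symm_apply _).symm⟩, rfl⟩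
    have h1 := congrArg Y.ψ (hf _ hg)
    rw [Y.equi, Y.ρ.apply_symm_apply] at h1
    have h2 := congrFun h1 (ι i)
    rw [pa, ← map_inv, Equiv.swap_inv, via_apply, Equiv.swap_apply_left] at h2
    exact h2.symm
  have hsum : ∑ z, Y.ψ x z = Y.ψ x (ι 0) + Y.ψ x (ι 0) + Y.ψ x (ι 0) := by
    rw [← Finset.sum_subset (Finset.subset_univ (Finset.univ.map ι)) (fun z _ hz => hoff z
      fun ⟨i, hi⟩ => hz (Finset.mem_map.2 ⟨i, Finset.mem_univ _, hi⟩)), Finset.sum_map,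
      Fin.sum_univ_three, hsw 1 0, hsw 2 0]
  have h0 : Y.ψ x = 0 := by
    funext z
    by_cases hz : z ∈ Set.range ι
    · obtain ⟨i, rfl⟩ := hz
      rw [hsw i 0]
      exact three_add_self _ (hsum.symm.trans (Y.zero x))
    · exact hoff z hz
  have h1 : x ∈ com W E ⊓ fix W E := ⟨com_mono hE' hx, (Y.ker x).1 h0⟩
  rw [Y.sep0] at h1
  exact h1

namespace PU

variable (D : PU T M π e T' 𝓔) (hE : E ∈ 𝓔) (Y : PMD W T' E N)

/-- The projection of a block preimage on the symmetric group. -/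
def prj (T : Sylow p G) (π : G →* P) {E : Subgroup P} (Y : PMD W T' E N) :
    ↥(dom T π E) →* Equiv.Perm (Fin N) :=
  Y.ρ.toMonoidHom.comp
    { toFun := fun x => ⟨π (x : G), x.2.1⟩
      map_one' := Subtype.ext (by simp)
      map_mul' := fun x y => Subtype.ext (by simp) }

theorem prj_apply (x : ↥(dom T π E)) : prj T π Y x = Y.ρ ⟨π (x : G), x.2.1⟩ := rfl

include D hE

theorem prj_surjective : Function.Surjective (prj T π Y) := fun σ => by
  obtain ⟨x, hx, hxe⟩ := (D.map_dom hE).ge (Y.ρ.symm σ).2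
  refine ⟨⟨x, hx⟩, ?_⟩
  rw [prj_apply, show (⟨π x, hx.1⟩ : E) = Y.ρ.symm σ from Subtype.ext hxe, Y.ρ.apply_symm_apply]

theorem mem_prj_ker {x : ↥(dom T π E)} :
    x ∈ (prj T π Y).ker ↔ (x : G) ∈ Qz p (T : Subgroup G) := by
  rw [MonoidHom.mem_ker, prj_apply, MulEquiv.map_eq_one_iff]
  exact ⟨fun h => D.mem_Qz_of_ker x.2.2 (congrArg Subtype.val h),
    fun h => Subtype.ext (D.eq_one (D.Q_le_ker h.1))⟩

omit hE in
theorem wc_mono {E₁ E₂ : Subgroup P} (h : E₁ ≤ E₂) : D.wc E₁ ≤ D.wc E₂ := by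
  rintro _ ⟨k, hk, rfl⟩
  exact ⟨k, com_mono h hk, rfl⟩

omit hE in
theorem dom_le_normalizer_wc : dom T π E ≤ normalizer (D.wc E : Set G) := by
  intro g hg
  have hg' : π g ∈ E := (mem_dom.1 hg).1
  refine mem_normalizer_fintype fun y hy => ?_
  obtain ⟨k, hk, hky⟩ : ∃ k ∈ com W E, (e k : G) = y := hy
  have h : (e (π g • k) : G) = g * y * g⁻¹ := by rw [D.quot.smul, hky]
  exact ⟨π g • k, smul_mem_com_self hg' hk, h⟩

/-- What each swap of `J(T)` gives. -/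
theorem perm_piece {a b : Fin N} (hab : a ≠ b) (hsw : Equiv.swap a b ∈ Swp T π Y) :
    ∃ (E' : Subgroup P) (X : Subgroup G) (t : ↥(dom T π E)) (g : ↥(dom T π E)),
      E' ≤ E ∧ (∀ w : W, (Y.ρ.symm (Equiv.swap a b) : P) • w - w ∈ com W E') ∧
      ex (p := p) X ≤ blG T π E ∧ D.wc E' ≤ ex (p := p) X ∧
      ⁅D.wc E', ex (p := p) X⁆ = D.wc E' ∧
      ⁅ex (p := p) X, Cfsg.baumannSubgroupOf p (T : Subgroup G)⁆ = ex (p := p) X ∧
      (t : G) ∈ Cfsg.baumannSubgroupOf p (T : Subgroup G) ∧ prj T π Y t = Equiv.swap a b ∧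
      t ^ 2 = 1 ∧
      (∀ y ∈ Cfsg.baumannSubgroupOf p (T : Subgroup G),
        (y : G) * t * y⁻¹ * (t : G)⁻¹ ∈ D.wc E) ∧
      (g : G) ∈ ex (p := p) X ∧ prj T π Y g = Equiv.swap a b * Equiv.swap b Y.c := by
  classical
  have hp2 := Y.p2
  subst hp2
  obtain ⟨ι, hι0, hι1, hι2, F, iF, iFt, hF2, ⟨Λ⟩⟩ := D.loc_perm hE Y hab hsw
  obtain ⟨X, hX⟩ := D.exists_LX Λ
  obtain ⟨S, M₀, hS, hU⟩ := D.exists_pc Λ hX
  set E' := three Y.ρ ι with hE'def
  have hE'E : E' ≤ E := map_subtype_le _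
  set B := Cfsg.baumannSubgroupOf 2 (T : Subgroup G) with hB
  have hwX : D.wc E' ≤ X := (D.wc_le_Vo E').trans (D.Vo_le_X Λ hX)
  have hUmap : ((D.wc E').subgroupOf X).map X.subtype = D.wc E' := by
    rw [Subgroup.subgroupOf_map_subtype, inf_eq_left.2 hwX]
  have hSB : (S : Subgroup ↥X).map X.subtype = B := by
    rw [hS, Subgroup.subgroupOf_map_subtype, inf_eq_left.2 hX.B_le]
  have hT : Piece.Twisted 2 S := by
    by_contra hn
    obtain ⟨α, h, E0, tw⟩ := Piece.exists_tw hU hn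
    haveI := tw.mid.lines.normalW
    exact absurd (tw.three (rfl : Nat.card F = Nat.card F)) (by norm_num)
  have hvia : Y.ρ.symm (Equiv.swap a b) = Y.ρ.symm (Equiv.Perm.viaEmbeddingHom ι (Equiv.swap 0 1)) := by
    rw [via_swap, hι0, hι1]
  have huE' : (Y.ρ.symm (Equiv.swap a b) : P) ∈ E' := by
    rw [hvia]; exact ⟨_, ⟨_, (Y.ρ.apply_symm_apply _).symm⟩, rfl⟩
  -- the involution
  obtain ⟨α, hα⟩ := hT
  obtain ⟨_, hy, hyQ⟩ := SetLike.not_le_iff_exists.1 hα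
  obtain ⟨v, hv, -, rfl⟩ := (PushL2.mem_img α).1 hy
  have hvS : v ∈ (S : Subgroup ↥X) := hU.nc.core.le_S (PushL2.omega_le hv)
  set t := PushL2.ap α v with ht
  have htB : (t : G) ∈ B := by rw [← hSB]; exact mem_map_of_mem _ (PushL2.ap_mem α hvS)
  have htU : ∀ y ∈ B, y * (t : G) * y⁻¹ * (t : G)⁻¹ ∈ D.wc E' := by
    intro y hy
    have h1 := hU.twist_move ⟨α, hα⟩ α hα hv (s := ⟨y, hX.B_le hy⟩) (by rw [hS]; exact hy)
    exact mem_subgroupOf.1 h1
  have ht2 : (t : G) ^ 2 = 1 := by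
    rw [← Subgroup.coe_pow, ht, ← PushL2.ap_pow α hvS, hv.2, PushL2.ap_one, Subgroup.coe_one]
  -- its image
  have hmove : ∀ w : W, π (t : G) • w - w ∈ com W E' := by
    intro w
    have hVB : (e w : G) ∈ B := (D.V_le_Qz (e w).2).2
    obtain ⟨k, hk, hke⟩ := htU _ hVB
    have h2 : π (t : G) • w - w = -k := by
      refine e.injective (Subtype.ext ?_)
      rw [D.quot.val_sub, D.quot.smul, ← zero_sub k, D.quot.val_sub, D.quot.val_zero, one_mul]
      change (e k : G) = _ at hke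
      rw [hke]; group
    rw [h2]; exact neg_mem hk
  have htJ : π (t : G) ∈ Jb T π := D.map_B ▸ mem_map_of_mem π htB
  obtain ⟨z, hz, hzc, hzm⟩ := Λ.split _ htJ
  have hzt : z⁻¹ * π (t : G) = 1 := D.hyp.faithful _ fun w => by
    refine sub_eq_zero.1 (com_inf_fix_three Y ι ?_ (hzm w))
    rw [mul_smul, show z⁻¹ • π (t : G) • w - w = z⁻¹ • (π (t : G) • w - w) + (z⁻¹ • w - w) by
      rw [smul_sub]; abel]
    exact add_mem (smul_mem_com_self (inv_mem hz.2) (hmove w)) (mem_com (inv_mem hz.2) w)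
  have htz : π (t : G) = z := by rw [← mul_inv_cancel_left z (π (t : G)), hzt, mul_one]
  have htL : (t : G) ∈ Lt 2 (T : Subgroup G) := hX.le_L t.2
  have htdom : (t : G) ∈ dom T π E := ⟨mem_comap.2 (htz ▸ hE'E hz.2), htL⟩
  have htY : prj T π Y ⟨t, htdom⟩ = Equiv.swap a b := by
    obtain ⟨z', ⟨σ, hσ⟩, hz'⟩ := hz.2
    have he : (⟨π (t : G), htdom.1⟩ : E) = z' := Subtype.ext (htz.trans hz'.symm)
    rw [prj_apply, he, show Y.ρ z' = Equiv.Perm.viaEmbeddingHom ι σ from hσ.symm]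
    have hσ2 : σ 2 = 2 := by
      refine ι.injective ?_
      rw [← via_apply ι σ 2, show Equiv.Perm.viaEmbeddingHom ι σ = Y.ρ z' from hσ, hι2]
      refine Y.fix_c z' ?_
      have h3 := hz.1
      rwa [← hz'] at h3
    rcases (by decide : ∀ σ : Equiv.Perm (Fin 3), σ 2 = 2 → σ = 1 ∨ σ = Equiv.swap 0 1) σ hσ2
      with rfl | rfl
    · exfalso
      have h4 : π (t : G) = 1 := by
        rw [htz, ← hz', show z' = 1 from Y.ρ.injective (hσ.symm.trans (by rw [map_one, map_one]))]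
        rfl
      exact hyQ (D.Qz_mem_core Λ hX (D.mem_Qz_of_ker htL h4) t.2)
    · rw [via_swap, hι0, hι1]
  -- the element of order three
  have hnle : ∃ x : ↥X, x ∈ Cfsg.pResidual 2 ↥X ∧ (orderOf x).Coprime 2 ∧ π (x : G) ≠ 1 := by
    by_contra hall
    push Not at hall
    refine Piece.PC.res_not_le hU ((closure_le _).2 fun x hx => ?_)
    have hxr := PResidual.mem_pResidual 2 hx
    have h1 : (x : G) ∈ Qz 2 (T : Subgroup G) :=
      D.mem_Qz_of_ker (hX.le_L x.2) (hall x hxr hx)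
    exact D.Qz_mem_core Λ hX h1 x.2
  obtain ⟨x, hxr, hxo, hxπ⟩ := hnle
  obtain ⟨z', ⟨σ, hσ⟩, hz'⟩ := D.res_image Λ hX hxr
  have hσ' : Y.ρ z' = Equiv.Perm.viaEmbeddingHom ι σ := hσ.symm
  have hxdom : (x : G) ∈ dom T π E :=
    ⟨mem_comap.2 (hz' ▸ hE'E ⟨z', ⟨σ, hσ⟩, rfl⟩), hX.le_L x.2⟩
  have hxY : prj T π Y ⟨x, hxdom⟩ = Equiv.Perm.viaEmbeddingHom ι σ := by
    rw [prj_apply, ← hσ', show (⟨π (x : G), hxdom.1⟩ : E) = z' from Subtype.ext hz'.symm]
  have hσo : (orderOf σ).Coprime 2 := by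
    rw [← orderOf_injective _ (Equiv.Perm.viaEmbeddingHom_injective ι) σ, ← hxY]
    refine Nat.Coprime.coprime_dvd_left ((orderOf_map_dvd _ _).trans (dvd_of_eq ?_)) hxo
    rw [← Subgroup.orderOf_coe (⟨(x : G), hxdom⟩ : ↥(dom T π E)), Subgroup.orderOf_coe x]
  have hσ1 : σ ≠ 1 := fun h => hxπ (by
    rw [← hz', show z' = 1 from Y.ρ.injective (hσ'.trans (by rw [h, map_one, map_one]))]
    rfl)
  have hcyc : Equiv.Perm.viaEmbeddingHom ι (Equiv.swap 0 1 * Equiv.swap 1 2) =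
      Equiv.swap a b * Equiv.swap b Y.c := by rw [map_mul, via_swap, via_swap, hι0, hι1, hι2]
  obtain ⟨g, hg, hgY⟩ : ∃ g : ↥(dom T π E), (g : G) ∈ ex (p := 2) X ∧
      prj T π Y g = Equiv.swap a b * Equiv.swap b Y.c := by
    rcases perm3_order σ with h | h | h | h
    · exact absurd h hσ1
    · exact absurd (orderOf_eq_one_iff.1 (Nat.eq_one_of_dvd_coprimes hσo dvd_rfl
        (orderOf_dvd_of_pow_eq_one h))) hσ1
    · exact ⟨⟨x, hxdom⟩, mem_map_of_mem X.subtype hxr, by rw [hxY, h, hcyc]⟩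
    · exact ⟨⟨x, hxdom⟩ * ⟨x, hxdom⟩, mul_mem (mem_map_of_mem X.subtype hxr)
        (mem_map_of_mem X.subtype hxr), by rw [map_mul, hxY, ← map_mul, h, hcyc]⟩
  refine ⟨E', X, ⟨t, htdom⟩, g, hE'E, fun w => mem_com huE' w, D.ex_le_blG Λ hX hE'E, ?_, ?_, ?_,
    htB, htY, Subtype.ext ht2, fun y hy => D.wc_mono hE'E (htU y hy), hg, hgY⟩
  · rw [← hUmap]; exact map_mono hU.U_le_res
  · rw [← hUmap, ← Subgroup.map_commutator, hU.com_res]
  · rw [← hSB, ← Subgroup.map_commutator, hU.res_eq_com]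

theorem hull_wc {a b : Fin N} (hab : a ≠ b) {E' : Subgroup P}
    (hv : ∀ w : W, (Y.ρ.symm (Equiv.swap a b) : P) • w - w ∈ com W E') {K : Subgroup G}
    (hK : dom T π E ≤ normalizer (K : Set G)) (hwK : D.wc E' ≤ K) : D.wc E ≤ K := by
  classical
  have hinv : ∀ x ∈ E, ∀ k : W, (e k : G) ∈ K → (e (x • k) : G) ∈ K := by
    intro x hx k hk
    obtain ⟨g, hg, rfl⟩ := (D.map_dom hE).ge hx
    rw [D.quot.smul]
    exact (mem_normalizer_iff.1 (hK hg) _).1 hk
  let K2 : AddSubgroup W :=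
    { carrier := {k | (e k : G) ∈ K}
      zero_mem' := by
        show (e 0 : G) ∈ K
        rw [D.quot.val_zero]; exact one_mem _
      add_mem' := fun {x y} (hx : _ ∈ K) (hy : _ ∈ K) => by
        show (e (x + y) : G) ∈ K
        rw [D.quot.add]
        exact mul_mem hx hy
      neg_mem' := fun {x} (hx : _ ∈ K) => by
        show (e (-x) : G) ∈ K
        rw [← zero_sub, D.quot.val_sub, D.quot.val_zero, one_mul]; exact inv_mem hx }
  let R : Subgroup E :=
    { carrier := {g | ∀ w : W, (g : P) • w - w ∈ K2}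
      one_mem' := fun w => by simp
      mul_mem' := fun {g h} hg hh w => by
        have h1 := K2.add_mem (hg ((h : P) • w)) (hh w)
        rwa [sub_add_sub_cancel, ← mul_smul, ← Subgroup.coe_mul] at h1
      inv_mem' := fun {g} hg w => by
        have h1 := K2.neg_mem (hg ((g : P)⁻¹ • w))
        rwa [smul_inv_smul, neg_sub, ← Subgroup.coe_inv] at h1 }
  have hR : (⊤ : Subgroup E) ≤ R := by
    intro g _
    have hg : Y.ρ g ∈ Subgroup.closure {σ : Equiv.Perm (Fin N) | σ.IsSwap} := by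
      rw [Equiv.Perm.closure_isSwap]; exact mem_top _
    have hle : Subgroup.closure {σ : Equiv.Perm (Fin N) | σ.IsSwap} ≤
        R.map Y.ρ.toMonoidHom := by
      rw [closure_le]
      rintro _ ⟨x, y, hxy, rfl⟩
      set σ1 := Equiv.swap a x
      set s := Equiv.swap (σ1 b) y * σ1 with hs
      have e1 : s a = x := by
        rw [hs, Equiv.Perm.mul_apply, show σ1 a = x from Equiv.swap_apply_left a x]
        refine Equiv.swap_apply_of_ne_of_ne (fun e => hab (σ1.injective ?_)) hxy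
        rw [show σ1 a = x from Equiv.swap_apply_left a x]; exact e
      have e2 : s b = y := by rw [hs, Equiv.Perm.mul_apply, Equiv.swap_apply_left]
      set u : E := Y.ρ.symm (Equiv.swap a b)
      set r : E := Y.ρ.symm s
      refine ⟨r * u * r⁻¹, fun w => ?_, ?_⟩
      · show ((r : P) * u * (r : P)⁻¹) • w - w ∈ K2
        have h1 : (u : P) • ((r : P)⁻¹ • w) - (r : P)⁻¹ • w ∈ K2 :=
          hwK ⟨_, hv _, rfl⟩
        have h2 : (r : P) • ((u : P) • ((r : P)⁻¹ • w) - (r : P)⁻¹ • w) ∈ K2 := hinv _ r.2 _ h1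
        rwa [smul_sub, smul_inv_smul, smul_smul, smul_smul] at h2
      · show Y.ρ (r * u * r⁻¹) = _
        rw [map_mul, map_mul, map_inv, Y.ρ.apply_symm_apply, Y.ρ.apply_symm_apply,
          ← Equiv.swap_apply_apply, e1, e2]
    obtain ⟨g', hg', hge⟩ := hle hg
    exact Y.ρ.injective hge ▸ hg'
  have hle : com W E ≤ K2 := com_le.2 fun x hx w => hR (mem_top (⟨x, hx⟩ : E)) w
  rintro _ ⟨k, hk, rfl⟩
  exact hle hk

theorem hull_alt {a b : Fin N} (hab : a ≠ b) (hac : a ≠ Y.c) (hbc : b ≠ Y.c) {K : Subgroup G}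
    (hK : dom T π E ≤ normalizer (K : Set G)) {g : ↥(dom T π E)} (hg : (g : G) ∈ K)
    (hgY : prj T π Y g = Equiv.swap a b * Equiv.swap b Y.c) {σ : Equiv.Perm (Fin N)}
    (hσ : σ ∈ alternatingGroup (Fin N)) :
    ∃ x : ↥(dom T π E), (x : G) ∈ K ∧ prj T π Y x = σ := by
  classical
  set R := (K.subgroupOf (dom T π E)).map (prj T π Y) with hR
  haveI : (K.subgroupOf (dom T π E)).Normal :=
    ⟨fun x hx y => mem_subgroupOf.2 ((mem_normalizer_iff.1 (hK y.2) _).1 hx)⟩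
  haveI : R.Normal := Subgroup.Normal.map inferInstance _ (D.prj_surjective hE Y)
  have hcyc : (Equiv.swap a b * Equiv.swap b Y.c).IsThreeCycle := by
    rw [Equiv.swap_comm a b]
    exact Equiv.Perm.isThreeCycle_swap_mul_swap_same hab.symm hbc hac
  have hle : alternatingGroup (Fin N) ≤ R := by
    rw [← Equiv.Perm.closure_three_cycles_eq_alternating, closure_le]
    intro τ hτ
    obtain ⟨r, hr⟩ := isConj_iff.1 (Equiv.Perm.isConj_iff_cycleType_eq.2 (hcyc.trans hτ.symm))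
    rw [← hr]
    exact (inferInstance : R.Normal).conj_mem _ ⟨g, hg, hgY⟩ r
  obtain ⟨x, hx, hxσ⟩ := hle hσ
  exact ⟨x, hx, hxσ⟩

omit hE in
/-- A swap from `J(T)`. -/
theorem exists_swp (hE : E ∈ 𝓔) : ∃ a b, a ≠ b ∧ a ≠ Y.c ∧ b ≠ Y.c ∧ Equiv.swap a b ∈ Swp T π Y := by
  obtain ⟨-, hcov, hnotc⟩ := D.pmd_swaps hE Y
  obtain ⟨a, ha, -⟩ := exists_third (show 3 ≤ N by
    rw [Y.hN]
    have := Nat.pow_le_pow_right (show 1 ≤ 2 by norm_num) Y.hn
    omega) Y.c Y.c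
  obtain ⟨b, hab, k, hk, ek⟩ := hcov a ha
  exact ⟨a, b, hab, ha, hnotc b a hab.symm ⟨k, hk, by rw [ek, Equiv.swap_comm]⟩,
    k, hk, ek, a, b, hab, rfl⟩

/-- The block meets the kernel in its piece of `Ω₁Z(O_p)`. -/
theorem blG_inf_ker {x : ↥(dom T π E)} (hx : (x : G) ∈ blG T π E) (h : prj T π Y x = 1) :
    (x : G) ∈ D.wc E := by
  classical
  have hp2 := Y.p2
  subst hp2
  obtain ⟨k, rfl⟩ : ∃ k, N = k + 1 := ⟨2 ^ Y.n, Y.hN⟩
  set Wd := (D.wc E).subgroupOf (dom T π E) with hWd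
  haveI : Wd.Normal := ⟨fun z hz y => mem_subgroupOf.2
    ((mem_normalizer_iff.1 (D.dom_le_normalizer_wc y.2) _).1 hz)⟩
  have hWker : Wd ≤ (prj T π Y).ker := fun z hz => by
    refine (D.mem_prj_ker hE Y).2 ?_
    exact D.V_le_Qz (D.wc_le_Vo E (mem_subgroupOf.1 hz))
  set f := QuotientGroup.lift Wd (prj T π Y) hWker with hf
  set mk := QuotientGroup.mk' Wd
  have hfmk : ∀ z, f (mk z) = prj T π Y z := fun z => rfl
  have hker : ∀ c, c ∈ f.ker → ∃ z : ↥(dom T π E), (z : G) ∈ Qz 2 (T : Subgroup G) ∧ mk z = c :=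
    fun c hc => by
      obtain ⟨z, rfl⟩ := QuotientGroup.mk'_surjective Wd c
      exact ⟨z, (D.mem_prj_ker hE Y).1 (by rw [MonoidHom.mem_ker, ← hfmk]; exact hc), rfl⟩
  have hp : IsPGroup 2 f.ker := by
    rintro ⟨c, hc⟩
    obtain ⟨z, hz, rfl⟩ := hker c hc
    obtain ⟨j, hj⟩ := (T.isPGroup'.to_le (D.Qz_le_core.trans D.Q_le_T)) ⟨_, hz⟩
    have h1 : z ^ 2 ^ j = 1 := Subtype.ext (congrArg Subtype.val hj :)
    exact ⟨j, Subtype.ext (by rw [Subgroup.coe_pow, ← map_pow, h1, map_one]; rfl)⟩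
  have hgood : ∀ t : ↥(dom T π E), t ^ 2 = 1 →
      (∀ y ∈ Cfsg.baumannSubgroupOf 2 (T : Subgroup G),
        (y : G) * t * y⁻¹ * (t : G)⁻¹ ∈ D.wc E) → GoodLift f (mk t) := by
    intro t ht htc
    refine ⟨by rw [← map_pow, ht, map_one], fun c hc => ?_⟩
    obtain ⟨z, hz, rfl⟩ := hker c hc
    rw [← map_mul, ← map_mul]
    refine (QuotientGroup.eq.2 (mem_subgroupOf.2 ?_)).symm
    have h1 := htc _ hz.2
    simp only [Subgroup.coe_mul, Subgroup.coe_inv] at h1 ⊢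
    have h2 := (mem_normalizer_iff.1 (D.dom_le_normalizer_wc (mul_mem z.2 t.2)) _).2
      (show ((z : G) * t) * (((z : G) * t)⁻¹ * ((t : G) * z)) * ((z : G) * t)⁻¹ ∈ D.wc E by
        rw [show ((z : G) * t) * (((z : G) * t)⁻¹ * ((t : G) * z)) * ((z : G) * t)⁻¹ =
          ((z : G) * t * (z : G)⁻¹ * (t : G)⁻¹)⁻¹ by group]
        exact inv_mem h1)
    exact h2
  obtain ⟨a, b, hab, hac, hbc, hsw⟩ := D.exists_swp Y hE
  have hres : mk x ∈ Cfsg.pResidual 2 (↥(dom T π E) ⧸ Wd) := by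
    obtain ⟨x', hx', he⟩ := hx
    have hxx : x' = x := Subtype.ext he
    subst hxx
    exact PResidual.map_pResidual_le mk (mem_map_of_mem _ hx')
  have h1 : mk x = 1 := by
    refine residual_inf_ker (f := f) hp (fun σ => ?_) ?_ (fun h3 => ?_) hres (by rw [hfmk, h])
    · obtain ⟨z, hz⟩ := D.prj_surjective hE Y σ
      exact ⟨mk z, (hfmk z).trans hz⟩
    · obtain ⟨-, -, t, -, -, -, -, -, -, -, -, htY, ht2, htc, -⟩ := D.perm_piece hE Y hab hsw
      exact ⟨mk t, a, b, hab, hgood t ht2 htc, (hfmk t).trans htY⟩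
    · obtain ⟨hdis, hcov, hnotc⟩ := D.pmd_swaps hE Y
      obtain ⟨-, -, t, -, -, -, -, -, -, -, htB, htY, ht2, htc, -⟩ := D.perm_piece hE Y hab hsw
      obtain ⟨a', ha'⟩ : ∃ a', a' ∉ ({a, b, Y.c} : Finset (Fin (k + 1))) := by
        by_contra hall
        push Not at hall
        have h4 := Finset.card_le_card (show (Finset.univ : Finset (Fin (k + 1))) ⊆ {a, b, Y.c}
          from fun z _ => hall z)
        rw [Finset.card_univ, Fintype.card_fin] at h4
        have h5 : ({a, b, Y.c} : Finset (Fin (k + 1))).card ≤ 3 := Finset.card_le_three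
        omega
      simp only [Finset.mem_insert, Finset.mem_singleton, not_or] at ha'
      obtain ⟨b', hab', l, hl, el⟩ := hcov a' ha'.2.2
      obtain ⟨m, hm, em, -⟩ := hsw
      have hb'a : b' ≠ a := fun e => by
        subst e
        exact ha'.2.1 (hdis b' a' b hab'.symm hab ⟨l, hl, by rw [el, Equiv.swap_comm]⟩ ⟨m, hm, em⟩)
      have hb'b : b' ≠ b := fun e => by
        subst e
        exact ha'.1 (hdis b' a' a hab'.symm hab.symm ⟨l, hl, by rw [el, Equiv.swap_comm]⟩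
          ⟨m, hm, by rw [em, Equiv.swap_comm]⟩)
      obtain ⟨-, -, t', -, -, -, -, -, -, -, ht'B, ht'Y, ht'2, ht'c, -⟩ :=
        D.perm_piece hE Y hab' ⟨l, hl, el, a', b', hab', rfl⟩
      refine ⟨mk t, mk t', a, b, a', b', hab, (Ne.symm ha'.1), hb'a.symm, (Ne.symm ha'.2.1), hb'b.symm,
        hab', hgood t ht2 htc, hgood t' ht'2 ht'c, (hfmk t).trans htY, (hfmk t').trans ht'Y, ?_⟩
      rw [← map_mul, ← map_mul]
      refine (QuotientGroup.eq.2 (mem_subgroupOf.2 ?_)).symm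
      have h1 := htc _ ht'B
      simp only [Subgroup.coe_mul, Subgroup.coe_inv] at h1 ⊢
      have h2 := (mem_normalizer_iff.1 (D.dom_le_normalizer_wc (mul_mem t'.2 t.2)) _).2
        (show ((t' : G) * t) * (((t' : G) * t)⁻¹ * ((t : G) * t')) * ((t' : G) * t)⁻¹ ∈ D.wc E by
          rw [show ((t' : G) * t) * (((t' : G) * t)⁻¹ * ((t : G) * t')) * ((t' : G) * t)⁻¹ =
            ((t' : G) * t * (t' : G)⁻¹ * (t : G)⁻¹)⁻¹ by group]
          exact inv_mem h1)
      exact h2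
  exact mem_subgroupOf.1 ((QuotientGroup.eq_one_iff x).1 h1)

end PU

end CfsgLib.PushUpB
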