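import Cfsg.Agent.PushUpB.BlockPerm

/-!
Pushing up: the symmetric blocks.
-/

set_option autoImplicit false
set_option linter.style.haveILetI false
set_option linter.unusedSectionVars false

namespace CfsgLib.PushUpB

open Subgroup Matrix CfsgLib.PMinFF CfsgLib.OffGen CfsgLib.BlockPermCombi
open scoped commutatorElement

universe u

/-- The alternating group of a point stabiliser. -/
theorem alt_stab {m : ℕ} (c : Fin (2 * m + 1)) (R : Subgroup ↥(alternatingGroup (Fin (2 * m + 1))))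
    (hR : ∀ σ, σ ∈ R ↔ (σ : Equiv.Perm (Fin (2 * m + 1))) c = c) :
    Nonempty (↥R ≃* ↥(alternatingGroup (Fin (2 * m)))) := by
  classical
  let ι : Fin (2 * m) ↪ Fin (2 * m + 1) := Fin.succAboveEmb c
  have hsign : ∀ τ : Equiv.Perm (Fin (2 * m)),
      Equiv.Perm.sign (Equiv.Perm.viaEmbeddingHom ι τ) = Equiv.Perm.sign τ := fun τ => by
    rw [Equiv.Perm.viaEmbeddingHom_apply, Equiv.Perm.viaEmbedding, Equiv.Perm.sign_extendDomain]
  let j : ↥(alternatingGroup (Fin (2 * m))) →* ↥(alternatingGroup (Fin (2 * m + 1))) :=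
    ((Equiv.Perm.viaEmbeddingHom ι).comp (alternatingGroup (Fin (2 * m))).subtype).codRestrict
      (alternatingGroup (Fin (2 * m + 1))) fun τ => (hsign τ.1).trans τ.2
  have hj : Function.Injective j := fun a b h =>
    Subtype.ext (Equiv.Perm.viaEmbeddingHom_injective ι (congrArg Subtype.val h))
  have hr : j.range = R := by
    ext σ
    rw [hR]
    constructor
    · rintro ⟨τ, rfl⟩
      show Equiv.Perm.viaEmbeddingHom ι τ.1 c = c
      refine Equiv.Perm.viaEmbedding_apply_of_notMem _ ι c ?_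
      rintro ⟨i, hi⟩
      exact Fin.succAbove_ne c i hi
    · intro hσ
      have hex : ∀ i, ∃ i', ι i' = σ.1 (ι i) := fun i => Fin.exists_succAbove_eq fun e =>
        Fin.succAbove_ne c i (σ.1.injective (e.trans hσ.symm))
      choose τ hτ using hex
      have hτi : Function.Injective τ := fun a b h =>
        ι.injective (σ.1.injective (by rw [← hτ, ← hτ, h]))
      let τ' := Equiv.ofBijective τ (Finite.injective_iff_bijective.1 hτi)
      have hσ' : Equiv.Perm.viaEmbeddingHom ι τ' = σ.1 := by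
        refine Equiv.ext fun x => ?_
        rcases eq_or_ne x c with rfl | hx
        · rw [hσ]
          refine Equiv.Perm.viaEmbedding_apply_of_notMem _ ι x ?_
          rintro ⟨i, hi⟩
          exact Fin.succAbove_ne x i hi
        · obtain ⟨i, rfl⟩ := Fin.exists_succAbove_eq hx
          show Equiv.Perm.viaEmbedding τ' ι (ι i) = σ.1 (ι i)
          rw [Equiv.Perm.viaEmbedding_apply, ← hτ i]
          rfl
      refine ⟨⟨τ', ?_⟩, Subtype.ext hσ'⟩
      show Equiv.Perm.sign τ' = 1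
      rw [← hsign, hσ']
      exact σ.2
  exact ⟨((MonoidHom.ofInjective hj).trans (MulEquiv.subgroupCongr hr)).symm⟩

theorem comm_le_normalizer {G : Type*} [Group G] [Finite G] {H K L : Subgroup G}
    (h1 : L ≤ normalizer (H : Set G)) (h2 : L ≤ normalizer (K : Set G)) :
    L ≤ normalizer ((⁅H, K⁆ : Subgroup G) : Set G) := fun g hg =>
  mem_normalizer_iff_cj.2 (by
    rw [PMinFF.cj, Subgroup.map_commutator]
    have e1 := mem_normalizer_iff_cj.1 (h1 hg)
    have e2 := mem_normalizer_iff_cj.1 (h2 hg)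
    rw [PMinFF.cj] at e1 e2
    rw [e1, e2])

variable {G : Type u} [Group G] [Finite G] {p : ℕ} [Fact p.Prime] {T : Sylow p G} {M : Subgroup G}
  {P : Type u} [Group P] [Finite P] {π : G →* P} {W : Type u} [AddCommGroup W] [Finite W]
  [DistribMulAction P W] {e : W ≃ Vo p G} {T' : Sylow p P} {𝓔 : Set (Subgroup P)}
  {E : Subgroup P}

namespace PU

variable (D : PU T M π e T' 𝓔) {N : ℕ} (hE : E ∈ 𝓔) (Y : PMD W T' E N)
include D hE Y

/-- The symmetric case of the definition of blocks, and the criterion for `C*`. -/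
theorem perm_data : Cfsg.IsBaumannBlock p (T : Subgroup G) (blG T π E) ∧
    (∀ g ∈ blG T π E, (∀ b ∈ Cfsg.baumannSubgroupOf p (T : Subgroup G), b ∈ dom T π E →
      g * b * g⁻¹ ∈ M) → g ∈ Cfsg.cStarOf p (T : Subgroup G)) ∧
    Nonempty (↥(blG T π E) ⧸ Cfsg.pCore p ↥(blG T π E) ≃* ↥(alternatingGroup (Fin N))) ∧
    (p = 2 ∧ ∃ m : ℕ, Nonempty (↥(blG T π E) ⧸ Cfsg.pCore p ↥(blG T π E) ≃*
        ↥(alternatingGroup (Fin (2 * m + 1)))) ∧
      Nonempty (↥(((Cfsg.cStarOf p (T : Subgroup G) ⊓ blG T π E).subgroupOf (blG T π E)).map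
        (QuotientGroup.mk' (Cfsg.pCore p ↥(blG T π E)))) ≃* ↥(alternatingGroup (Fin (2 * m))))) := by
  classical
  have hp2 := Y.p2
  subst hp2
  obtain ⟨m, hm, rfl⟩ : ∃ m, 1 ≤ m ∧ N = 2 * m + 1 := ⟨2 ^ (Y.n - 1), Nat.one_le_two_pow,
    Y.hN.trans (by rw [← pow_succ', Nat.sub_add_cancel Y.hn])⟩
  set H := blG T π E with hH
  set W0 := D.wc E with hW0
  set B := Cfsg.baumannSubgroupOf 2 (T : Subgroup G) with hB
  have hdH : dom T π E ≤ normalizer (H : Set G) :=
    dom_le_Lt.trans (D.Lt_le_normalizer_blG hE)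
  have hdW : dom T π E ≤ normalizer (W0 : Set G) := D.dom_le_normalizer_wc
  have hHd : H ≤ dom T π E := blG_le_dom
  obtain ⟨a, b, hab, hac, hbc, hsw⟩ := D.exists_swp Y hE
  obtain ⟨E', X, t, g, hE'E, hv, hexH, hwex, hwcom, hexB, htB, htY, -, -, hgex, hgY⟩ :=
    D.perm_piece hE Y hab hsw
  have heven : ∀ x : ↥(dom T π E), (x : G) ∈ H →
      prj T π Y x ∈ alternatingGroup (Fin (2 * m + 1)) := by
    intro x hx
    rw [hH] at hx
    obtain ⟨x', hx', he⟩ := hx
    rw [← pResidual_perm]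
    exact (Subtype.ext he : x' = x) ▸ PResidual.map_pResidual_le (prj T π Y) (mem_map_of_mem _ hx')
  have halt : ∀ σ ∈ alternatingGroup (Fin (2 * m + 1)),
      ∃ x : ↥(dom T π E), (x : G) ∈ H ∧ prj T π Y x = σ :=
    fun σ hσ => D.hull_alt hE Y hab hac hbc hdH (hexH hgex) hgY hσ
  have hWH : W0 ≤ H := D.hull_wc hE Y hab hv hdH (hwex.trans hexH)
  have hWcom : ⁅W0, H⁆ = W0 := le_antisymm
    (CfsgLib.Baumann.commutator_le_self_of_normalizer (hHd.trans hdW))
    (D.hull_wc hE Y hab hv (comm_le_normalizer hdW hdH)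
      (hwcom.ge.trans (commutator_mono (D.wc_mono hE'E) hexH)))
  -- `H = [H, B]`
  have hdecomp : ∀ x : ↥(dom T π E), (x : G) ∈ H ⊔ B := by
    intro x
    have key : ∀ z : ↥(dom T π E), prj T π Y z ∈ alternatingGroup (Fin (2 * m + 1)) →
        (z : G) ∈ H ⊔ B := fun z hz => by
      obtain ⟨y, hy, hye⟩ := halt _ hz
      have h1 : ((y⁻¹ * z : ↥(dom T π E)) : G) ∈ Qz 2 (T : Subgroup G) :=
        (D.mem_prj_ker hE Y).1 (by rw [MonoidHom.mem_ker, map_mul, map_inv, hye, inv_mul_cancel])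
      have h2 := (H ⊔ B).mul_mem (mem_sup_left hy) (mem_sup_right h1.2)
      simpa using h2
    rcases Int.units_eq_one_or (Equiv.Perm.sign (prj T π Y x)) with h | h
    · exact key x h
    · have h1 := key (x * t) (by
        show Equiv.Perm.sign _ = 1
        rw [map_mul, map_mul, h, htY, Equiv.Perm.sign_swap hab]; decide)
      have h2 := (H ⊔ B).mul_mem h1 ((H ⊔ B).inv_mem (mem_sup_right htB))
      simpa using h2
  have hHB : ⁅H, B⁆ = H := by
    have hle : ⁅H, B⁆ ≤ H := CfsgLib.Baumann.commutator_le_self_of_normalizer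
      (D.B_le_Lt.trans (D.Lt_le_normalizer_blG hE))
    have hn : dom T π E ≤ normalizer ((⁅H, B⁆ : Subgroup G) : Set G) := fun z hz =>
      (sup_le (CfsgLib.Baumann.le_normalizer_commutator_left _ _)
        (CfsgLib.Baumann.le_normalizer_commutator_right _ _) : H ⊔ B ≤ _) (hdecomp ⟨z, hz⟩)
    have hex : ex (p := 2) X ≤ ⁅H, B⁆ := hexB.ge.trans (commutator_mono hexH le_rfl)
    have hW' : W0 ≤ ⁅H, B⁆ := D.hull_wc hE Y hab hv hn (hwex.trans hex)
    refine le_antisymm hle fun x hx => ?_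
    obtain ⟨y, hy, hye⟩ := D.hull_alt hE Y hab hac hbc hn (hex hgex) hgY
      (heven ⟨x, hHd hx⟩ hx)
    have h1 : ((y⁻¹ * ⟨x, hHd hx⟩ : ↥(dom T π E)) : G) ∈ W0 :=
      D.blG_inf_ker hE Y (H.mul_mem (H.inv_mem (hle hy)) hx)
        (by rw [map_mul, map_inv, hye, inv_mul_cancel])
    have h2 := (⁅H, B⁆).mul_mem hy (hW' h1)
    simpa using h2
  -- the core
  have hWp : IsPGroup 2 W0 := (T.isPGroup').to_le ((D.wc_le_Vo E).trans D.V_le_T)
  have hcore : Cfsg.pCoreOf 2 H = W0 := by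
    refine le_antisymm (fun q hq => ?_) (CfsgLib.FrakM.le_pCoreOf hWH hWp (hHd.trans hdW))
    have hqH : q ∈ H := map_subtype_le _ hq
    have hKE : (Cfsg.pCoreOf 2 H).map π ≤ E := by
      rintro _ ⟨z, hz, rfl⟩
      exact (mem_dom.1 (hHd (map_subtype_le _ hz))).1
    have hK : (Cfsg.pCoreOf 2 H).map π ≤ Cfsg.pCore 2 P := by
      refine CfsgLib.CharP.subnormal_pGroup_le_pCore ?_
        ((CfsgLib.FrakM.isPGroup_pCoreOf H).map π)
      haveI := D.blk.normal
      refine Subgroup.IsSubnormal.step _ E hKE (.step E _ (le_sSup hE) (.step _ ⊤ le_top .top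
        (Subgroup.Normal.comap inferInstance _))
        (Subgroup.normal_subgroupOf_of_le_normalizer (N_le_normalizer D.blk hE))) ?_
      refine Subgroup.normal_subgroupOf_of_le_normalizer fun z hz => ?_
      obtain ⟨z', hz', rfl⟩ := (D.map_dom hE).ge hz
      exact Tp.map_normalizer_le π _ (mem_map_of_mem π
        (CfsgLib.FrakM.normalizer_le_normalizer_pCoreOf H (hdH hz')))
    rw [D.hyp.core] at hK
    refine D.blG_inf_ker hE Y (x := ⟨q, hHd hqH⟩) hqH ?_
    rw [prj_apply, MulEquiv.map_eq_one_iff]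
    exact Subtype.ext (mem_bot.1 (hK (mem_map_of_mem π hq)))
  have homega : Cfsg.omegaOneCenter 2 W0 = W0 := by
    refine le_antisymm (fun x hx => (mem_omegaOneCenter hx).1) fun x hx => ?_
    refine Subgroup.subset_closure ⟨⟨hx, mem_centralizer_iff.2 fun y hy => ?_⟩,
      (mem_omegaOneCenter (D.wc_le_Vo E hx)).2.2⟩
    exact CfsgLib.Thompson.elab_commute elab_Vo (D.wc_le_Vo E hy) (D.wc_le_Vo E hx)
  have hfix : W0 ⊓ centralizer (H : Set G) = ⊥ := by
    rw [eq_bot_iff]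
    rintro x ⟨hx, hxc⟩
    obtain ⟨k, hk, hkx⟩ : ∃ k ∈ com W E, (e k : G) = x := hx
    have hconst : ∀ i j, Y.ψ k i = Y.ψ k j := by
      intro i j
      rcases eq_or_ne i j with rfl | hij
      · rfl
      obtain ⟨l, hli, hlj⟩ := exists_third (show 3 ≤ 2 * m + 1 by omega) i j
      obtain ⟨y, hy, hye⟩ := halt (Equiv.swap i j * Equiv.swap i l)
        (Equiv.Perm.isThreeCycle_swap_mul_swap_same hij hli.symm hlj.symm).mem_alternatingGroup
      have h1 : π (y : G) • k = k := by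
        rw [D.quot.smul_eq_iff, hkx]
        exact (mem_centralizer_iff.1 hxc _ hy)
      have h2 := congrArg Y.ψ h1
      rw [show π (y : G) = ((⟨π (y : G), (mem_dom.1 y.2).1⟩ : E) : P) from rfl, Y.equi,
        ← prj_apply, hye] at h2
      have h3 := congrFun h2 i
      rw [pa, _root_.mul_inv_rev, Equiv.swap_inv, Equiv.swap_inv, Equiv.Perm.mul_apply,
        Equiv.swap_apply_left, Equiv.swap_apply_of_ne_of_ne hij.symm hlj.symm] at h3
      exact h3.symm
    have hk0 : Y.ψ k = 0 := by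
      funext i
      have hz := Y.zero k
      unfold Ev at hz
      rw [Finset.sum_congr rfl fun j _ => hconst j i, Finset.sum_const, Finset.card_univ,
        Fintype.card_fin, nsmul_eq_mul] at hz
      rw [show ((2 * m + 1 : ℕ) : ZMod 2) = 1 by push_cast; rw [show (2 : ZMod 2) = 0 from rfl]; simp,
        one_mul] at hz
      exact hz
    have h4 : k ∈ com W E ⊓ fix W E := ⟨hk, (Y.ker k).1 hk0⟩
    rw [Y.sep0] at h4
    rw [mem_bot, ← hkx, show k = 0 from h4, D.quot.val_zero]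
  -- the quotient
  let f : ↥H →* ↥(alternatingGroup (Fin (2 * m + 1))) :=
    ((prj T π Y).comp (Subgroup.inclusion hHd)).codRestrict (alternatingGroup (Fin (2 * m + 1)))
      fun x => heven _ x.2
  have hfs : Function.Surjective f := fun σ => by
    obtain ⟨x, hx, hxe⟩ := halt σ σ.2
    exact ⟨⟨x, hx⟩, Subtype.ext hxe⟩
  have hfk : f.ker = Cfsg.pCore 2 ↥H := by
    refine map_injective H.subtype_injective (le_antisymm ?_ ?_)
    · rintro _ ⟨x, hx, rfl⟩
      rw [show (Cfsg.pCore 2 ↥H).map H.subtype = Cfsg.pCoreOf 2 H from rfl, hcore]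
      exact D.blG_inf_ker hE Y (x := Subgroup.inclusion hHd x) x.2 (congrArg Subtype.val hx)
    · rintro y hy
      rw [show (Cfsg.pCore 2 ↥H).map H.subtype = Cfsg.pCoreOf 2 H from rfl, hcore] at hy
      refine ⟨⟨y, hWH hy⟩, Subtype.ext ?_, rfl⟩
      exact (D.mem_prj_ker hE Y).2 (D.V_le_Qz (D.wc_le_Vo E hy))
  let iso : ↥H ⧸ Cfsg.pCore 2 ↥H ≃* ↥(alternatingGroup (Fin (2 * m + 1))) :=
    (QuotientGroup.quotientMulEquivOfEq hfk.symm).trans
      (QuotientGroup.quotientKerEquivOfSurjective f hfs)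
  have hiso : ∀ x : ↥H, iso (QuotientGroup.mk' _ x) = f x := fun x => rfl
  -- the module
  have hpre : ∀ u : ↥W0, ∃ k, k ∈ com W E ∧ (e k : G) = u := fun u => u.2
  choose kk hkk hkke using hpre
  have hkadd : ∀ u v : ↥W0, kk (u * v) = kk u + kk v := fun u v => e.injective (Subtype.ext (by
    rw [hkke, D.quot.add]
    simp only [Subgroup.coe_mul, hkke]))
  let ψ' : ↥W0 →* Multiplicative (Fin (2 * m + 1) → ZMod 2) :=
    MonoidHom.mk' (fun u => Multiplicative.ofAdd (Y.ψ (kk u))) fun u v => by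
      rw [hkadd, map_add, ofAdd_add]
  have hblock : Cfsg.IsBaumannBlock 2 (T : Subgroup G) H := by
    refine ⟨pResidualOf_idem _, hHB, by rw [hcore, hWcom], D.blG_com_Z hE, Or.inr
      ⟨rfl, m, ⟨iso⟩, ?_, by rw [hcore, homega]⟩⟩
    rw [hcore, homega, hfix]
    refine ⟨hHd.trans hdW, bot_le, (prj T π Y).comp (Subgroup.inclusion hHd), ψ', ?_,
      fun u => Y.zero (kk u), fun v hv => ?_, fun u => ?_, fun x u => ?_⟩
    · refine le_antisymm ?_ fun σ hσ => ?_
      · rintro _ ⟨x, rfl⟩; exact heven _ x.2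
      · obtain ⟨x, hx, hxe⟩ := halt σ hσ
        exact ⟨⟨x, hx⟩, hxe⟩
    · obtain ⟨k, hk, hkv⟩ := Y.onto v hv
      refine ⟨⟨(e k : G), ⟨k, hk, rfl⟩⟩, ?_⟩
      show Y.ψ (kk _) = v
      rw [show kk ⟨(e k : G), ⟨k, hk, rfl⟩⟩ = k from e.injective (Subtype.ext (hkke _)), hkv]
    · show Multiplicative.ofAdd (Y.ψ (kk u)) = 1 ↔ _
      rw [ofAdd_eq_one, mem_bot]
      refine ⟨fun h => ?_, fun h => ?_⟩
      · have h4 : kk u ∈ com W E ⊓ fix W E := ⟨hkk u, (Y.ker _).1 h⟩
        rw [Y.sep0] at h4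
        rw [← hkke, show kk u = 0 from h4, D.quot.val_zero]
      · rw [show kk u = 0 from e.injective (Subtype.ext (by rw [hkke, h, D.quot.val_zero])), map_zero]
    · have hxE := (mem_dom.1 (hHd x.2)).1
      have h1 : (e (π (x : G) • kk u) : G) = (x : G) * u * (x : G)⁻¹ := by rw [D.quot.smul, hkke]
      refine ⟨⟨(x : G) * u * (x : G)⁻¹, (mem_normalizer_iff.1 (hdW (hHd x.2)) _).1 u.2⟩, rfl,
        fun i => ?_⟩
      show Y.ψ (kk _) i = Y.ψ (kk u) ((prj T π Y (Subgroup.inclusion hHd x))⁻¹ i)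
      rw [show kk _ = π (x : G) • kk u from e.injective (Subtype.ext ((hkke _).trans h1.symm)),
        show π (x : G) = ((⟨π (x : G), hxE⟩ : E) : P) from rfl, Y.equi]
      rfl
  -- the point stabiliser
  have hstab : ∀ x : ↥(dom T π E), (x : G) ∈ H → prj T π Y x Y.c = Y.c →
      (x : G) ∈ Cfsg.cStarOf 2 (T : Subgroup G) := by
    intro x hxH hxc
    refine (le_sup_left : _ ≤ Cfsg.cStarOf 2 (T : Subgroup G)) (mem_centralizer_iff.2 fun z hz => ?_)
    obtain ⟨k, hk⟩ := D.quot.exists_of_mem (Z_le_Vo T D.hG hz)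
    have hT : ∀ y ∈ (T' : Subgroup P), y • k = k := by
      intro y hy
      rw [D.hT'] at hy
      obtain ⟨s, hs, rfl⟩ := hy
      rw [D.quot.smul_eq_iff, hk]
      exact ((mem_omegaOneCenter hz).2.1 s hs)
    have hoff : ∀ i j, i ≠ Y.c → j ≠ Y.c → Y.ψ k i = Y.ψ k j := by
      intro i j hi hj
      obtain ⟨s, hs, hsi⟩ := Y.trans i j hi hj
      have h2 := congrFun (congrArg Y.ψ (hT _ hs)) j
      rw [Y.equi, pa, ← hsi, Equiv.Perm.inv_def, Equiv.symm_apply_apply, hsi] at h2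
      exact h2
    have hc0 : Y.ψ k Y.c = 0 := by
      have hz' := Y.zero k
      unfold Ev at hz'
      rw [Fintype.sum_eq_add_sum_compl Y.c] at hz'
      have h5 : ∀ j ∈ ({Y.c} : Finset (Fin (2 * m + 1)))ᶜ, Y.ψ k j = Y.ψ k a := fun j hj =>
        hoff j a (by simpa using hj) hac
      rw [Finset.sum_congr rfl h5, Finset.sum_const, Finset.card_compl, Fintype.card_fin,
        Finset.card_singleton, show 2 * m + 1 - 1 = 2 * m by omega, nsmul_eq_mul] at hz'
      rw [show ((2 * m : ℕ) : ZMod 2) = 0 by push_cast; rw [show (2 : ZMod 2) = 0 from rfl]; simp,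
        zero_mul, add_zero] at hz'
      exact hz'
    have hxE := (mem_dom.1 x.2).1
    have h6 : π (x : G) • k = k := by
      have h7 : π (x : G) • k - k ∈ com W E ⊓ fix W E := by
        refine ⟨mem_com hxE k, (Y.ker _).1 ?_⟩
        rw [map_sub, show π (x : G) = ((⟨π (x : G), hxE⟩ : E) : P) from rfl, Y.equi, sub_eq_zero]
        funext i
        show Y.ψ k ((prj T π Y x)⁻¹ i) = Y.ψ k i
        rcases eq_or_ne i Y.c with rfl | hi
        · rw [Equiv.Perm.inv_eq_iff_eq.2 hxc.symm]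
        · refine hoff _ _ (fun h => hi ?_) hi
          rw [← hxc, ← h, Equiv.Perm.inv_def, Equiv.apply_symm_apply]
      rw [Y.sep0] at h7
      exact sub_eq_zero.1 h7
    rw [D.quot.smul_eq_iff, hk] at h6
    exact h6.symm
  have hQM : Qz 2 (T : Subgroup G) ≤ M := (D.Qz_le_core.trans D.Q_le_T).trans D.hover.1
  have hBM : B ≤ M := inf_le_left.trans D.hover.1
  have hMstab : ∀ x : ↥(dom T π E), (x : G) ∈ M → prj T π Y x Y.c = Y.c := by
    intro x hxM
    by_contra hxc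
    set R := (M.subgroupOf (dom T π E)).map (prj T π Y) with hR
    have hfixR : ∀ σ : Equiv.Perm (Fin (2 * m + 1)), σ Y.c = Y.c → σ ∈ R := by
      intro σ hσ
      have htR : Equiv.swap a b ∈ R := ⟨t, hBM htB, htY⟩
      have hev : ∀ τ : Equiv.Perm (Fin (2 * m + 1)), τ Y.c = Y.c → Equiv.Perm.sign τ = 1 →
          τ ∈ R := fun τ hτ hs => by
        obtain ⟨y, hy, hye⟩ := halt τ hs
        exact ⟨y, D.cstar (hstab y hy (by rw [hye]; exact hτ)), hye⟩
      rcases Int.units_eq_one_or (Equiv.Perm.sign σ) with h | h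
      · exact hev σ hσ h
      · have h1 := hev (σ * Equiv.swap a b) (by
          rw [Equiv.Perm.mul_apply, Equiv.swap_apply_of_ne_of_ne (Ne.symm hac) (Ne.symm hbc), hσ])
          (by rw [map_mul, h, Equiv.Perm.sign_swap hab]; decide)
        have h2 := R.mul_mem h1 (R.inv_mem htR)
        rwa [mul_inv_cancel_right] at h2
    set σ := prj T π Y x with hσ
    have hσR : σ ∈ R := ⟨x, hxM, rfl⟩
    set u := σ⁻¹ Y.c with hu
    have huc : u ≠ Y.c := fun h => hxc (by
      conv_lhs => rw [← h]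
      rw [hu, Equiv.Perm.inv_def, Equiv.apply_symm_apply])
    obtain ⟨v, hvu, hvc⟩ := exists_third (show 3 ≤ 2 * m + 1 by omega) u Y.c
    have hσu : σ u = Y.c := by rw [hu, Equiv.Perm.inv_def, Equiv.apply_symm_apply]
    have hvR : σ v ≠ Y.c := fun h => hvu (σ.injective (h.trans hσu.symm))
    have hstar : ∀ y, y ≠ Y.c → Equiv.swap Y.c y ∈ R := by
      intro y hy
      have h1 : Equiv.swap u v ∈ R := hfixR _ (Equiv.swap_apply_of_ne_of_ne huc.symm hvc.symm)
      have h2 := R.mul_mem (R.mul_mem hσR h1) (R.inv_mem hσR)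
      rw [← Equiv.swap_apply_apply, hσu] at h2
      have h3 : Equiv.swap (σ v) y ∈ R :=
        hfixR _ (Equiv.swap_apply_of_ne_of_ne hvR.symm hy.symm)
      have h4 := R.mul_mem (R.mul_mem h3 h2) (R.inv_mem h3)
      rwa [← Equiv.swap_apply_apply, Equiv.swap_apply_of_ne_of_ne hvR.symm hy.symm,
        Equiv.swap_apply_left] at h4
    refine D.block_not_le hE fun z hz => ?_
    obtain ⟨z', hz', rfl⟩ := (D.map_dom hE).ge hz
    have htop : R = ⊤ := by
      rw [eq_top_iff, ← Equiv.Perm.closure_isSwap, closure_le]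
      rintro _ ⟨y, y', hyy, rfl⟩
      rcases eq_or_ne y Y.c with rfl | hy
      · exact hstar y' hyy.symm
      rcases eq_or_ne y' Y.c with rfl | hy'
      · rw [Equiv.swap_comm]; exact hstar y hy
      exact hfixR _ (Equiv.swap_apply_of_ne_of_ne hy.symm hy'.symm)
    obtain ⟨w, hw, hwe⟩ : prj T π Y ⟨z', hz'⟩ ∈ R := htop ▸ mem_top _
    refine mem_map_of_mem π ?_
    have h5 : ((w⁻¹ * ⟨z', hz'⟩ : ↥(dom T π E)) : G) ∈ Qz 2 (T : Subgroup G) :=
      (D.mem_prj_ker hE Y).1 (by rw [MonoidHom.mem_ker, map_mul, map_inv, hwe, inv_mul_cancel])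
    have h6 := M.mul_mem hw (hQM h5)
    simpa using h6
  have hcrit : ∀ g ∈ H, (∀ b ∈ B, b ∈ dom T π E → g * b * g⁻¹ ∈ M) →
      g ∈ Cfsg.cStarOf 2 (T : Subgroup G) := by
    intro g' hg' hb
    refine hstab ⟨g', hHd hg'⟩ hg' ?_
    set σ := prj T π Y ⟨g', hHd hg'⟩ with hσ
    by_contra hσc
    set a₀ := σ⁻¹ Y.c with ha0
    have ha0c : a₀ ≠ Y.c := fun h => hσc (by
      conv_lhs => rw [← h]
      rw [ha0, Equiv.Perm.inv_def, Equiv.apply_symm_apply])
    obtain ⟨-, hcov, -⟩ := D.pmd_swaps hE Y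
    obtain ⟨b₀, hab₀, l, hl, el⟩ := hcov a₀ ha0c
    obtain ⟨y, hy, hyl⟩ := D.map_B.ge hl
    have hyd : y ∈ dom T π E := mem_dom.2 ⟨hyl ▸ l.2, D.B_le_Lt hy⟩
    have h1 := hMstab (⟨g', hHd hg'⟩ * ⟨y, hyd⟩ * ⟨g', hHd hg'⟩⁻¹) (hb y hy hyd)
    have hyY : prj T π Y ⟨y, hyd⟩ = Equiv.swap a₀ b₀ := by
      rw [prj_apply]
      exact (congrArg Y.ρ (Subtype.ext hyl)).trans el
    rw [map_mul, map_mul, map_inv, hyY, ← hσ, ← Equiv.swap_apply_apply,
      show σ a₀ = Y.c by rw [ha0, Equiv.Perm.inv_def, Equiv.apply_symm_apply],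
      Equiv.swap_apply_left] at h1
    exact hab₀ (σ.injective ((show σ a₀ = Y.c by
      rw [ha0, Equiv.Perm.inv_def, Equiv.apply_symm_apply]).trans h1.symm))
  refine ⟨hblock, hcrit, ⟨iso⟩, rfl, m, ⟨iso⟩, ?_⟩
  set R := (((Cfsg.cStarOf 2 (T : Subgroup G) ⊓ H).subgroupOf H).map
    (QuotientGroup.mk' (Cfsg.pCore 2 ↥H))) with hR
  have hmem : ∀ σ, σ ∈ R.map iso.toMonoidHom ↔
      (σ : Equiv.Perm (Fin (2 * m + 1))) Y.c = Y.c := by
    intro σ
    constructor
    · rintro ⟨_, ⟨x, hx, rfl⟩, rfl⟩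
      show ((iso (QuotientGroup.mk' _ x)) : Equiv.Perm (Fin (2 * m + 1))) Y.c = Y.c
      rw [hiso]
      exact hMstab (Subgroup.inclusion hHd x) (D.cstar (mem_subgroupOf.1 hx).1)
    · intro hσ
      obtain ⟨x, rfl⟩ := hfs σ
      exact ⟨_, ⟨x, mem_subgroupOf.2 ⟨hstab (Subgroup.inclusion hHd x) x.2 hσ, x.2⟩, rfl⟩, hiso x⟩
  obtain ⟨j⟩ := alt_stab Y.c _ hmem
  exact ⟨(iso.subgroupMap R).trans j⟩

end PU

end CfsgLib.PushUpB
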