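import Cfsg.Agent.PushUpB.PieceTwo

/-!
Pushing up: the action of `O^p` on a normal subgroup between `U` and `Ω₁Z(O_p)`.
-/

set_option autoImplicit false
set_option linter.style.haveILetI false
set_option linter.unusedSectionVars false

namespace CfsgLib.PushUpB.Piece.PC

open Subgroup Matrix CfsgLib.PushL2

universe u

variable {H : Type u} [Group H] [Finite H] {p : ℕ} [Fact p.Prime] {S : Sylow p H} {q : ℕ}
  {M₀ : Subgroup H} {F : Type} [Field F] [Fintype F] {U : Subgroup H} (hU : PC p S q M₀ U)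
  (φ : Nat2 p S F (omega p H) (zs S) (z0 p H))

include hU φ

theorem acts_of_le {W : Subgroup H} [hW : W.Normal] (hUW : U ≤ W) (hWV : W ≤ omega p H) :
    Cfsg.ActsAsSL2OnSection F (commutator (SpecialLinearGroup (Fin 2) F)) (Cfsg.pResidual p H) W
      (W ⊓ centralizer ((Cfsg.pResidual p H : Subgroup H) : Set H)) := by
  haveI := hU.normal
  refine ⟨fun g _ => by rw [Subgroup.normalizer_eq_top (H := W)]; exact mem_top g, inf_le_left,
    φ.ρ.comp (Cfsg.pResidual p H).subtype,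
    MonoidHom.mk' (fun u : ↥W => Multiplicative.ofAdd (φ.ψ u))
      fun u v => by rw [Subgroup.coe_mul, φ.map_mul _ (hWV u.2) _ (hWV v.2), ofAdd_add],
    ?_, fun y => ?_, fun u => ?_, fun g u => ?_⟩
  · rw [MonoidHom.range_comp, Subgroup.range_subtype, hU.map_res φ]
  · obtain ⟨v, hv, hvy⟩ := φ.onto (Multiplicative.toAdd y)
    obtain ⟨a, ha, z, hz, rfl⟩ := mem_sup_of_normal_right.1 (hU.cover hv)
    refine ⟨⟨a, hUW ha⟩, ?_⟩
    rw [φ.map_mul _ (hU.le ha) _ (fix_le _ hz), (φ.eq_zero _ (fix_le _ hz)).2 hz, add_zero] at hvy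
    show Multiplicative.ofAdd (φ.ψ a) = y
    rw [hvy, ofAdd_toAdd]
  · show Multiplicative.ofAdd (φ.ψ u) = 1 ↔ _
    rw [ofAdd_eq_one, φ.eq_zero _ (hWV u.2)]
    exact ⟨fun h => ⟨u.2, mem_centralizer_iff.2 fun g _ => z0_central h g⟩, fun h =>
      hU.fixed_le (hWV u.2) fun g hg => mem_centralizer_iff.1 h.2 g hg⟩
  · exact ⟨⟨_, hW.conj_mem u u.2 g⟩, rfl, φ.equiv g u (hWV u.2)⟩

end CfsgLib.PushUpB.Piece.PC
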