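import Cfsg.Agent.PushUpB.Dom
import Cfsg.Agent.PushUpB.PieceSup
import Cfsg.Agent.PushUpB.SplitPerm

/-!
Pushing up: the linear blocks.
-/

set_option autoImplicit false
set_option linter.style.haveILetI false
set_option linter.unusedSectionVars false

namespace CfsgLib.PushUpB

open Subgroup Matrix CfsgLib.PMinFF CfsgLib.OffGen
open CfsgLib.SL2Pair (up low up_coe low_coe)
open scoped commutatorElement

universe u

variable {G : Type u} [Group G] [Finite G] {p : ℕ} [Fact p.Prime] {T : Sylow p G} {M : Subgroup G}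
  {P : Type u} [Group P] [Finite P] {π : G →* P} {W : Type u} [AddCommGroup W] [Finite W]
  [DistribMulAction P W] {e : W ≃ Vo p G} {T' : Sylow p P} {𝓔 : Set (Subgroup P)}
  {E : Subgroup P} {F : Type} [Field F] [Fintype F]

theorem card_le_of_small (hF : ¬ 3 < Nat.card F) : ¬ ∃ t : F, t ≠ 0 ∧ t * t ≠ 1 := by
  rintro ⟨t, ht0, ht⟩
  have h1 := FiniteField.pow_card_sub_one_eq_one t ht0
  rw [Nat.card_eq_fintype_card] at hF
  have h2 : 1 < Fintype.card F := Fintype.one_lt_card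
  have h3 : Fintype.card F = 2 ∨ Fintype.card F = 3 := by omega
  rcases h3 with h | h <;> rw [h] at h1
  · rw [show (2 : ℕ) - 1 = 1 from rfl, pow_one] at h1
    exact ht (by rw [h1, one_mul])
  · rw [show (3 : ℕ) - 1 = 2 from rfl, pow_two] at h1
    exact ht h1

theorem exists_big (hF : 3 < Nat.card F) : ∃ t : F, t ≠ 0 ∧ t * t ≠ 1 := by
  classical
  by_contra h
  rw [Nat.card_eq_fintype_card] at hF
  have hle : (Finset.univ : Finset F) ⊆ {0, 1, -1} := fun x _ => by
    rcases BlockSL2.small_cases h x with r | r | r <;> simp [r]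
  have h2 : ({0, 1, -1} : Finset F).card ≤ 3 := Finset.card_le_three
  have h3 := Finset.card_le_card hle
  rw [Finset.card_univ] at h3
  omega

/-- The derived group of `SL₂` is preserved by an isomorphism of fields. -/
theorem commutator_sl_congr {K : Type} [Field K] (σ : F ≃+* K) :
    Nonempty (↥(commutator (SpecialLinearGroup (Fin 2) F)) ≃*
      ↥(commutator (SpecialLinearGroup (Fin 2) K))) := by
  let f : SpecialLinearGroup (Fin 2) F ≃* SpecialLinearGroup (Fin 2) K :=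
    { toFun := Matrix.SpecialLinearGroup.map σ.toRingHom
      invFun := Matrix.SpecialLinearGroup.map σ.symm.toRingHom
      left_inv := fun g => Matrix.SpecialLinearGroup.ext _ _ fun i j => σ.symm_apply_apply _
      right_inv := fun g => Matrix.SpecialLinearGroup.ext _ _ fun i j => σ.apply_symm_apply _
      map_mul' := map_mul _ }
  have h : (commutator (SpecialLinearGroup (Fin 2) F)).map f.toMonoidHom =
      commutator (SpecialLinearGroup (Fin 2) K) := by
    rw [commutator_def, Subgroup.map_commutator,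
      Subgroup.map_top_of_surjective f.toMonoidHom f.surjective, commutator_def]
  exact ⟨(f.subgroupMap _).trans (MulEquiv.subgroupCongr h)⟩

namespace PU

variable (D : PU T M π e T' 𝓔) (hE : E ∈ 𝓔)
  (Λ : Loc W T' (M.map π) 𝓔 (Jb T π) E F) {X : Subgroup G} (hX : LX T π E X)

include D hE Λ hX

theorem blG_eq_ex : blG T π E = ex (p := p) X := by
  refine le_antisymm (CfsgLib.WeakFactor.pResidualOf_le fun x hx ho => ?_)
    (D.ex_le_blG Λ hX le_rfl)
  exact CfsgLib.WeakFactor.mem_pResidualOf (D.LX_eq Λ hX hx.2 (mem_sup_left hx.1)) ho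

/-- The linear case of the definition of blocks, and the criterion for `C*`. -/
theorem sl_data : Cfsg.IsBaumannBlock p (T : Subgroup G) (blG T π E) ∧
    (∀ g ∈ blG T π E, (∀ b ∈ Cfsg.baumannSubgroupOf p (T : Subgroup G), b ∈ dom T π E →
      g * b * g⁻¹ ∈ M) → g ∈ Cfsg.cStarOf p (T : Subgroup G)) ∧
    (∃ (F : Type) (_ : Field F) (_ : Fintype F),
      Nonempty (↥(blG T π E) ⧸ Cfsg.pCore p ↥(blG T π E) ≃*
        ↥(commutator (SpecialLinearGroup (Fin 2) F)))) ∧
    ((∃ (F : Type) (_ : Field F) (_ : Fintype F) (m : ℕ), 3 < p ^ m ∧ Fintype.card F = p ^ m ∧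
        Nonempty (↥(blG T π E) ⧸ Cfsg.pCore p ↥(blG T π E) ≃* SpecialLinearGroup (Fin 2) F) ∧
        Cfsg.cStarOf p (T : Subgroup G) ⊓ blG T π E = blG T π E ⊓
          normalizer (((T : Subgroup G) ⊓ blG T π E : Subgroup G) : Set G)) ∨
      (p = 2 ∧ ∃ m : ℕ, Nonempty (↥(blG T π E) ⧸ Cfsg.pCore p ↥(blG T π E) ≃*
          ↥(alternatingGroup (Fin (2 * m + 1)))) ∧
        Nonempty (↥(((Cfsg.cStarOf p (T : Subgroup G) ⊓ blG T π E).subgroupOf (blG T π E)).map
          (QuotientGroup.mk' (Cfsg.pCore p ↥(blG T π E)))) ≃* ↥(alternatingGroup (Fin (2 * m))))) ∨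
      (p = 3 ∧ Nonempty (↥(blG T π E) ⧸ Cfsg.pCore p ↥(blG T π E) ≃*
          ↥(commutator (SpecialLinearGroup (Fin 2) (ZMod 3)))) ∧
        ((Cfsg.cStarOf p (T : Subgroup G) ⊓ blG T π E).subgroupOf (blG T π E)).map
          (QuotientGroup.mk' (Cfsg.pCore p ↥(blG T π E))) =
            Subgroup.center (↥(blG T π E) ⧸ Cfsg.pCore p ↥(blG T π E)))) := by
  classical
  set B := Cfsg.baumannSubgroupOf p (T : Subgroup G) with hB
  obtain ⟨S, M₀, hS, hU⟩ := D.exists_pc Λ hX
  obtain ⟨φ⟩ := hU.nc.toStd.linesV.natural hU.nc.ctx hU.nc.core F rfl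
  haveI hcharF := hU.charP φ
  have hsub := X.subtype_injective
  have hSB : (S : Subgroup ↥X).map X.subtype = B := by
    rw [hS, Subgroup.subgroupOf_map_subtype, inf_eq_left.2 hX.B_le]
  have hblk : blG T π E = (Cfsg.pResidual p ↥X).map X.subtype := D.blG_eq_ex hE Λ hX
  have hQmap : Cfsg.pCoreOf p (blG T π E) =
      (Cfsg.pCoreOf p (Cfsg.pResidual p ↥X)).map X.subtype := by
    rw [hblk, Tp.map_pCoreOf hsub]
  have hWmap : Cfsg.omegaOneCenter p (Cfsg.pCoreOf p (blG T π E)) =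
      (Cfsg.omegaOneCenter p (Cfsg.pCoreOf p (Cfsg.pResidual p ↥X))).map X.subtype := by
    rw [hQmap, Tp.map_omegaOneCenter hsub]
  have hCmap : ∀ U : Subgroup ↥X,
      (U ⊓ centralizer ((Cfsg.pResidual p ↥X : Subgroup ↥X) : Set ↥X)).map X.subtype =
        U.map X.subtype ⊓ centralizer (blG T π E : Set G) := fun U => by
    rw [Tp.map_inf_centralizer hsub, hblk]
  obtain ⟨iso1⟩ := Tp.quot_iso (p := p) hsub (Cfsg.pResidual p ↥X)
  obtain ⟨iso2⟩ := hU.quot_iso φ
  have hiso : Nonempty (↥(blG T π E) ⧸ Cfsg.pCore p ↥(blG T π E) ≃*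
      ↥(commutator (SpecialLinearGroup (Fin 2) F))) := by
    rw [hblk]; exact ⟨iso1.trans iso2⟩
  have hcardF : Fintype.card F = p ^ Λ.sld.n := Fintype.card_eq_nat_card.trans Λ.sld.card
  -- the block
  have hblock : Cfsg.IsBaumannBlock p (T : Subgroup G) (blG T π E) := by
    refine ⟨pResidualOf_idem _, ?_, ?_, D.blG_com_Z hE, Or.inl
      ⟨F, inferInstance, inferInstance, Λ.sld.n, hcardF, hiso, ?_⟩⟩
    · show ⁅blG T π E, B⁆ = _
      rw [← hSB, hblk, ← Subgroup.map_commutator, hU.res_eq_com]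
    · rw [hQmap, hblk, ← Subgroup.map_commutator]
      refine congrArg (Subgroup.map X.subtype) ?_
      by_cases hT : Piece.Twisted p S
      · rw [hU.core_eq_U hT, hU.com_res]
      · obtain ⟨α, h, E0, tw⟩ := Piece.exists_tw hU hT
        haveI := tw.mid.lines.normalW
        obtain ⟨φ2⟩ := tw.mid.lines.natural tw.pc.nc.ctx tw.pc.nc.core F rfl
        rw [tw.core_eq φ φ2, tw.res_u2]
    by_cases hT : Piece.Twisted p S
    · have hW1 : Cfsg.omegaOneCenter p (Cfsg.pCoreOf p (Cfsg.pResidual p ↥X)) =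
          (D.wc E).subgroupOf X := by rw [hU.core_eq_U hT, hU.omega_eq hT]
      refine ⟨?_, Or.inl ?_⟩
      · rw [hWmap, hW1, ← hCmap, hblk]
        exact Tp.acts_sl hsub (hU.acts φ)
      · rw [hWmap, hQmap, hW1, hU.core_eq_U hT]
    · obtain ⟨α, h, E0, tw⟩ := Piece.exists_tw hU hT
      haveI := tw.mid.lines.normalW
      obtain ⟨φ2⟩ := tw.mid.lines.natural tw.pc.nc.ctx tw.pc.nc.core F rfl
      haveI := hU.normal
      haveI : (Piece.u2 p ↥X).Normal := commutator_normal _ _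
      haveI : (Piece.u3 p ↥X).Normal := commutator_normal _ _
      have hp3 : p = 3 := tw.three (rfl : Nat.card F = Nat.card F)
      have hWC := tw.W_inf_centralizer (rfl : Nat.card F = Nat.card F) φ φ2
      have hz0 := (tw.u3_spec φ φ2).2.1
      have hW1 : Cfsg.omegaOneCenter p (Cfsg.pCoreOf p (Cfsg.pResidual p ↥X)) =
          (D.wc E).subgroupOf X ⊔ Piece.u3 p ↥X := by
        rw [tw.core_eq φ φ2, tw.omega_u2 (rfl : Nat.card F = Nat.card F) φ φ2]
      have hEC : blG T π E ⊓ centralizer (blG T π E : Set G) = (Piece.u3 p ↥X).map X.subtype := by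
        conv_lhs => rw [hblk]
        rw [← Tp.map_inf_centralizer hsub, tw.center_res (rfl : Nat.card F = Nat.card F) φ φ2]
      have hZ : Cfsg.omegaOneCenter p (Cfsg.pCoreOf p (blG T π E)) ⊓
          centralizer (blG T π E : Set G) = (Piece.u3 p ↥X).map X.subtype := by
        rw [hWmap, ← hCmap, hW1, hWC]
      refine ⟨?_, Or.inr ⟨hp3, ?_, ?_, ?_, by rw [hEC, hZ], ?_, ?_⟩⟩
      · rw [hWmap, ← hCmap, hW1, hblk]
        exact Tp.acts_sl hsub (hU.acts_of_le φ le_sup_left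
          (sup_le hU.le (hz0.trans (PushL2.fix_le _))))
      · rw [hWmap, hQmap, hblk, hW1, tw.core_eq φ φ2]
        exact Tp.acts_sl hsub (tw.acts2 (rfl : Nat.card F = Nat.card F) φ φ2)
      · rw [hZ, hQmap, ← Subgroup.map_commutator, tw.core_eq φ φ2]
      · rw [hZ, hQmap, tw.core_eq φ φ2, ← Tp.map_frattini hsub,
          tw.frattini_u2 (rfl : Nat.card F = Nat.card F) φ φ2]
      · rw [hEC, ← Nat.card_congr ((Piece.u3 p ↥X).equivMapOfInjective _ hsub).toEquiv,
          (tw.u3_spec φ φ2).1, Λ.sld.card]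
        exact congrArg (· ^ Λ.sld.n) hp3
      · intro b hb hbC hbad
        have hbX : b ∈ X := hX.B_le hb
        have hbS : (⟨b, hbX⟩ : ↥X) ∈ (S : Subgroup ↥X) := by rw [hS]; exact hb
        have hbQ : (⟨b, hbX⟩ : ↥X) ∉ Cfsg.pCore p ↥X := fun hq => hbC (by
          rw [hWmap, hW1]
          refine mem_centralizer_iff.2 ?_
          rintro _ ⟨w, hw, rfl⟩
          exact congrArg Subtype.val (PushL2.omega_commute
            (sup_le hU.le (hz0.trans (PushL2.fix_le _)) hw) hq))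
        obtain ⟨u, hu, hnot⟩ := tw.nonquad (rfl : Nat.card F = Nat.card F) φ φ2 hbS hbQ
        refine hnot ?_
        have hu' : (u : G) ∈ Cfsg.pCoreOf p (blG T π E) := by
          rw [hQmap, tw.core_eq φ φ2]; exact mem_map_of_mem X.subtype hu
        have h1 := hbad (commutator_mem_commutator
          (commutator_mem_commutator hu' (mem_zpowers b)) (mem_zpowers b))
        rw [hEC] at h1
        obtain ⟨w, hw, hwe⟩ := h1
        have : w = ⁅⁅u, (⟨b, hbX⟩ : ↥X)⁆, (⟨b, hbX⟩ : ↥X)⁆ := Subtype.ext (by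
          simpa [commutatorElement_def] using hwe)
        exact this ▸ hw
  -- the two Borel subgroups
  have hbor1 : Λ.bor hX.image ≤ Piece.PC.bor φ :=
    hU.le_bor φ (hS.le.trans (D.B_le_bor Λ hX)) (D.bor_ne_top Λ hX)
  have hbor2 : Piece.PC.bor φ ≤ Λ.bor hX.image :=
    D.le_bor Λ hX (hS.ge.trans (Piece.PC.S_le_bor φ)) (Piece.PC.bor_ne_top φ)
  have hMX : M.subgroupOf X ≤ Λ.bor hX.image := D.le_bor Λ hX
    (fun b hb => mem_subgroupOf.2 (D.hover.1 (mem_subgroupOf.1 hb).1))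
    (fun h => D.LX_not_le Λ hX (subgroupOf_eq_top.1 h))
  have hborC : ∀ g ∈ Piece.PC.bor φ, ((g : ↥X) : G) ∈ Cfsg.cStarOf p (T : Subgroup G) := by
    intro g hg
    refine D.normalizer_B_le_cStar ?_
    rw [← hB, ← hSB]
    exact Tp.map_normalizer_le X.subtype _ (mem_map_of_mem _ (hU.bor_le_normalizer φ hg))
  have hcrit : ∀ g ∈ blG T π E, (∀ b ∈ B, b ∈ dom T π E → g * b * g⁻¹ ∈ M) →
      g ∈ Cfsg.cStarOf p (T : Subgroup G) := by
    intro g hg hb
    rw [hblk] at hg
    obtain ⟨x, hx, rfl⟩ := hg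
    refine hborC x (hbor1 ?_)
    obtain ⟨z, hzJ, hzE, hz⟩ := Λ.exists_u 1
    obtain ⟨b, hbB, hbz⟩ := D.map_B.ge hzJ
    have hbX := hX.B_le hbB
    have h1 : Λ.proj hX.image ⟨b, hbX⟩ = up 1 := Λ.proj_eq hX.image _ fun v => by
      show Λ.sld.ψ (π b • v) = _
      rw [hbz]; exact hz v
    have h2 : x * ⟨b, hbX⟩ * x⁻¹ ∈ Λ.bor hX.image :=
      hMX (mem_subgroupOf.2 (hb b hbB (mem_dom.2 ⟨by rw [hbz]; exact hzE, D.B_le_Lt hbB⟩)))
    set A := Λ.proj hX.image x with hA
    have h3 : ((A * up 1 * A⁻¹ : SpecialLinearGroup (Fin 2) F) :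
        Matrix (Fin 2) (Fin 2) F) 1 0 = 0 := by
      have h4 : (Λ.proj hX.image (x * ⟨b, hbX⟩ * x⁻¹) : Matrix (Fin 2) (Fin 2) F) 1 0 = 0 := h2
      rwa [map_mul, map_mul, map_inv, h1] at h4
    simp [Matrix.SpecialLinearGroup.coe_mul, up_coe, Matrix.mul_apply, Fin.sum_univ_two,
      Matrix.adjugate_fin_two] at h3
    show (A : Matrix (Fin 2) (Fin 2) F) 1 0 = 0
    ring_nf at h3
    simpa using h3
  have hinter : Cfsg.cStarOf p (T : Subgroup G) ⊓ blG T π E =
      (Cfsg.pResidual p ↥X ⊓ Piece.PC.bor φ).map X.subtype := by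
    refine le_antisymm ?_ ?_
    · rintro g ⟨hgC, hg⟩
      rw [hblk] at hg
      obtain ⟨x, hx, rfl⟩ := hg
      exact ⟨x, ⟨hx, hbor1 (hMX (mem_subgroupOf.2 (D.cstar hgC)))⟩, rfl⟩
    · rintro _ ⟨x, hx, rfl⟩
      exact ⟨hborC x hx.2, hblk.ge (mem_map_of_mem _ hx.1)⟩
  refine ⟨hblock, hcrit, ⟨F, inferInstance, inferInstance, hiso⟩, ?_⟩
  have hTX : (T : Subgroup G) ⊓ X = B :=
    D.sylow_eq Λ hX (T.isPGroup'.to_le inf_le_left) (le_inf inf_le_left hX.B_le) inf_le_right
  -- membership in the image of `C* ∩ E`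
  have himg : ∀ (y : ↥X) (hy : (y : G) ∈ blG T π E),
      QuotientGroup.mk' (Cfsg.pCore p ↥(blG T π E)) ⟨(y : G), hy⟩ ∈
        ((Cfsg.cStarOf p (T : Subgroup G) ⊓ blG T π E).subgroupOf (blG T π E)).map
          (QuotientGroup.mk' (Cfsg.pCore p ↥(blG T π E))) ↔ y ∈ Piece.PC.bor φ := by
    intro y hy
    constructor
    · rintro ⟨⟨g, hgE⟩, hg, hge⟩
      have hg' : g ∈ Cfsg.cStarOf p (T : Subgroup G) ⊓ blG T π E := hg
      rw [hinter] at hg'
      obtain ⟨x, ⟨-, hxb⟩, rfl⟩ := hg'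
      have h1 := QuotientGroup.eq.1 hge
      have h2 : (X.subtype x)⁻¹ * (y : G) ∈ Cfsg.pCoreOf p (blG T π E) := mem_map_of_mem _ h1
      rw [hQmap, hU.pCoreOf_res] at h2
      obtain ⟨r, hr, hre⟩ := h2
      have h3 : x⁻¹ * y = r := Subtype.ext (by simpa using hre.symm)
      have h4 := (Piece.PC.bor φ).mul_mem hxb
        (Piece.PC.S_le_bor φ (hU.nc.core.le_S (h3 ▸ hr.2 : x⁻¹ * y ∈ Cfsg.pCore p ↥X)))
      rwa [mul_inv_cancel_left] at h4
    · intro hyb
      exact ⟨⟨y, hy⟩, mem_subgroupOf.2 ⟨hborC y hyb, hy⟩, rfl⟩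
  have hrho : ∀ (y : ↥X) (hy : (y : G) ∈ blG T π E),
      QuotientGroup.mk' (Cfsg.pCore p ↥(blG T π E)) ⟨(y : G), hy⟩ = 1 ↔ φ.ρ y = 1 := by
    intro y hy
    rw [hU.rho_ker φ]
    refine (QuotientGroup.eq_one_iff _).trans ⟨fun h => ?_, fun h => ?_⟩
    · have h2 : (y : G) ∈ Cfsg.pCoreOf p (blG T π E) := mem_map_of_mem (blG T π E).subtype h
      rw [hQmap, hU.pCoreOf_res] at h2
      obtain ⟨r, hr, hre⟩ := h2
      exact (Subtype.ext hre : r = y) ▸ hr.2
    · have h2 : (y : G) ∈ Cfsg.pCoreOf p (blG T π E) := by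
        rw [hQmap, hU.pCoreOf_res]
        refine mem_map_of_mem X.subtype ⟨?_, h⟩
        rw [hblk] at hy
        obtain ⟨r, hr, hre⟩ := hy
        exact (Subtype.ext hre : r = y) ▸ hr
      obtain ⟨z, hz, hze⟩ := h2
      exact (Subtype.ext hze : z = ⟨(y : G), hy⟩) ▸ hz
  have hpre : ∀ k : ↥(blG T π E), ∃ y : ↥X, y ∈ Cfsg.pResidual p ↥X ∧ (y : G) = k := fun k => by
    obtain ⟨y, hy, hye⟩ := hblk.le k.2
    exact ⟨y, hy, hye⟩
  by_cases hbig : 3 < Nat.card F
  · have hb := exists_big hbig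
    refine Or.inl ⟨F, inferInstance, inferInstance, Λ.sld.n, Λ.sld.card ▸ hbig, hcardF, ?_, ?_⟩
    · obtain ⟨i⟩ := hiso
      exact ⟨i.trans ((MulEquiv.subgroupCongr (BlockSL2.R_eq_top hb)).trans Subgroup.topEquiv)⟩
    · rw [hinter]
      have hTE : (T : Subgroup G) ⊓ blG T π E =
          ((S : Subgroup ↥X) ⊓ Cfsg.pResidual p ↥X).map X.subtype := by
        rw [Subgroup.map_inf _ _ _ hsub, hSB, ← hblk, ← hTX]
        exact le_antisymm (le_inf (le_inf inf_le_left (inf_le_right.trans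
          (hblk.le.trans (map_subtype_le _)))) inf_le_right)
          (le_inf (inf_le_left.trans inf_le_left) inf_le_right)
      rw [hTE, ← hU.res_normalizer φ hb]
      ext g
      constructor
      · rintro ⟨x, hx, rfl⟩
        exact ⟨hblk.ge (mem_map_of_mem _ hx.1),
          Tp.map_normalizer_le X.subtype _ (mem_map_of_mem _ hx.2)⟩
      · rintro ⟨hg, hgn⟩
        rw [hblk] at hg
        obtain ⟨x, hx, rfl⟩ := hg
        refine mem_map_of_mem _ ⟨hx, mem_normalizer_fintype fun s hs => ?_⟩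
        obtain ⟨s', hs', hse⟩ := (mem_normalizer_iff.1 hgn _).1 (mem_map_of_mem X.subtype hs)
        have : s' = x * s * x⁻¹ := Subtype.ext (by simpa using hse)
        exact this ▸ hs'
  have hsm := card_le_of_small hbig
  have h23 : Nat.card F = 2 ∨ Nat.card F = 3 := by
    have h2 : 1 < Nat.card F := by rw [Nat.card_eq_fintype_card]; exact Fintype.one_lt_card
    omega
  have hprime : (Nat.card F).Prime := by
    rcases h23 with h | h <;> rw [h]
    exacts [Nat.prime_two, Nat.prime_three]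
  have hpF : p = Nat.card F :=
    (Nat.prime_dvd_prime_iff_eq Fact.out hprime).1
      (Λ.sld.card ▸ dvd_pow_self p (by have := Λ.sld.hn; omega))
  rcases h23 with h | h
  · right; left
    have hp2 : p = 2 := hpF.trans h
    subst hp2
    have hF2 : (2 : F) = 0 := by exact_mod_cast CharP.cast_eq_zero F 2
    let σ : F ≃+* ZMod 2 :=
      (ZMod.ringEquivOfPrime F Nat.prime_two (Nat.card_eq_fintype_card.symm.trans h)).symm
    obtain ⟨i⟩ := hiso
    obtain ⟨j⟩ := commutator_sl_congr σ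
    have hA : (alternatingGroup (Fin 3)).map perm3Iso.toMonoidHom =
        commutator (SpecialLinearGroup (Fin 2) (ZMod 2)) := by
      rw [← pResidual_perm, ← pResidual_SL (p := 2) (F := ZMod 2)]
      exact map_pResidual_surj (p := 2) _ perm3Iso.surjective
    refine ⟨rfl, 1, ⟨i.trans (j.trans ((MulEquiv.subgroupCongr hA.symm).trans
      (perm3Iso.subgroupMap (alternatingGroup (Fin 3))).symm))⟩, ?_⟩
    have hbot : ((Cfsg.cStarOf 2 (T : Subgroup G) ⊓ blG T π E).subgroupOf (blG T π E)).map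
        (QuotientGroup.mk' (Cfsg.pCore 2 ↥(blG T π E))) = ⊥ := by
      rw [eq_bot_iff]
      rintro _ ⟨k, hk, rfl⟩
      obtain ⟨y, hy, hye⟩ := hpre k
      have hyE : (y : G) ∈ blG T π E := hye ▸ k.2
      rw [show k = ⟨(y : G), hyE⟩ from Subtype.ext hye.symm] at hk ⊢
      exact (hrho y hyE).2 ((hU.bor_res_two φ hF2 hsm hy).1 ((himg y hyE).1 ⟨_, hk, rfl⟩))
    haveI : Subsingleton ↥(alternatingGroup (Fin (2 * 1))) := ⟨fun a b => by
      revert a b; decide⟩
    haveI : Subsingleton ↥(((Cfsg.cStarOf 2 (T : Subgroup G) ⊓ blG T π E).subgroupOf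
        (blG T π E)).map (QuotientGroup.mk' (Cfsg.pCore 2 ↥(blG T π E)))) := by
      rw [hbot]; infer_instance
    exact ⟨{ toFun := fun _ => 1, invFun := fun _ => 1, left_inv := fun _ => Subsingleton.elim _ _,
             right_inv := fun _ => Subsingleton.elim _ _, map_mul' := fun _ _ => (mul_one _).symm }⟩
  · right; right
    have hp3 : p = 3 := hpF.trans h
    subst hp3
    have hF2 : (2 : F) ≠ 0 := fun h0 => by
      have h1 : ((2 : ℕ) : F) = 0 := by exact_mod_cast h0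
      exact absurd ((CharP.cast_eq_zero_iff F 3 2).1 h1) (by norm_num)
    let σ : F ≃+* ZMod 3 :=
      (ZMod.ringEquivOfPrime F Nat.prime_three (Nat.card_eq_fintype_card.symm.trans h)).symm
    obtain ⟨i⟩ := hiso
    obtain ⟨j⟩ := commutator_sl_congr σ
    refine ⟨rfl, ⟨i.trans j⟩, ?_⟩
    ext c
    obtain ⟨k, rfl⟩ := QuotientGroup.mk'_surjective _ c
    obtain ⟨y, hy, hye⟩ := hpre k
    have hyE : (y : G) ∈ blG T π E := hye ▸ k.2
    rw [show k = ⟨(y : G), hyE⟩ from Subtype.ext hye.symm, himg y hyE,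
      hU.bor_res_three φ hF2 hsm hy, Subgroup.mem_center_iff]
    constructor
    · intro hc g
      obtain ⟨l, rfl⟩ := QuotientGroup.mk'_surjective _ g
      obtain ⟨z, hz, hze⟩ := hpre l
      have hzE : (z : G) ∈ blG T π E := hze ▸ l.2
      rw [show l = ⟨(z : G), hzE⟩ from Subtype.ext hze.symm, ← map_mul, ← map_mul,
        ← mul_inv_eq_one, ← map_inv, ← map_mul]
      have h5 := (hrho (z * y * (y * z)⁻¹) (by
        simpa using (blG T π E).mul_mem ((blG T π E).mul_mem hzE hyE)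
          ((blG T π E).inv_mem ((blG T π E).mul_mem hyE hzE)))).2
        (by rw [map_mul, map_inv, map_mul, map_mul, hc z hz, mul_inv_cancel])
      refine Eq.trans (congrArg _ (Subtype.ext ?_)) h5
      simp
    · intro hc z hz
      have hzE : (z : G) ∈ blG T π E := hblk.ge (mem_map_of_mem X.subtype hz)
      have h5 := hc (QuotientGroup.mk' _ ⟨(z : G), hzE⟩)
      rw [← map_mul, ← map_mul, ← mul_inv_eq_one, ← map_inv, ← map_mul] at h5
      have h6 := (hrho (z * y * (y * z)⁻¹) (by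
        simpa using (blG T π E).mul_mem ((blG T π E).mul_mem hzE hyE)
          ((blG T π E).inv_mem ((blG T π E).mul_mem hyE hzE)))).1
        (Eq.trans (congrArg _ (Subtype.ext (by simp))) h5)
      rw [map_mul, map_inv, map_mul, map_mul, mul_inv_eq_one] at h6
      exact h6.symm

end PU

end CfsgLib.PushUpB
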