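import Cfsg.Agent.PushUpB.Trace

/-!
Pushing up: `O_p(G) ∩ J(G)` centralises `Ω₁(Z(J(T)))`.
-/

set_option autoImplicit false
set_option linter.style.haveILetI false
set_option linter.unusedSectionVars false

namespace CfsgLib.PushUpB

open Subgroup CfsgLib.PMinFF CfsgLib.OffGen
open CfsgLib.Thompson (maxIn)

universe u

variable {G : Type u} [Group G] [Finite G] {p : ℕ} [Fact p.Prime] {T : Sylow p G} {M : Subgroup G}
  {P : Type u} [Group P] [Finite P] {π : G →* P} {W : Type u} [AddCommGroup W] [Finite W]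
  [DistribMulAction P W] {e : W ≃ Vo p G} {T' : Sylow p P} {𝓔 : Set (Subgroup P)}

namespace PU

variable (D : PU T M π e T' 𝓔)
include D

theorem mem_Q_of_ker {g : G} (hgT : g ∈ (T : Subgroup G)) (hg : π g = 1) :
    g ∈ Cfsg.pCore p G := D.inf_C ⟨hgT, hg⟩

theorem eq_one_of_comps {x : P} (hx : x ∈ sSup 𝓔) (h : ∀ E ∈ 𝓔, IsComp 𝓔 E x 1) : x = 1 := by
  refine D.hyp.faithful x fun v => ?_
  let S : AddSubgroup W :=
    { carrier := {v | x • v = v}
      zero_mem' := smul_zero x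
      add_mem' := fun {a b} (ha : x • a = a) (hb : x • b = b) => by
        show x • (a + b) = a + b
        rw [smul_add, ha, hb]
      neg_mem' := fun {a} (ha : x • a = a) => by
        show x • -a = -a
        rw [smul_neg, ha] }
  refine (sup_le (fun w hw => hw x hx) (iSup₂_le fun E hE w hw => ?_) :
    fix W (sSup 𝓔) ⊔ ⨆ E ∈ 𝓔, com W E ≤ S) (D.blk.decomp v)
  show x • w = w
  rw [comp_eq_smul_com D.blk hE D.hyp (h E hE) hw, one_smul]

theorem mem_of_comps {S : Subgroup P} (hS : S ≤ sSup 𝓔) {x : P} (hx : x ∈ sSup 𝓔)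
    (h : ∀ E ∈ 𝓔, ∀ g, IsComp 𝓔 E x g → g ∈ S) : x ∈ S := by
  classical
  haveI := Fintype.ofFinite (Subgroup P)
  suffices h' : ∀ s : Finset (Subgroup P), (∀ E ∈ s, E ∈ 𝓔) →
      ∃ g ∈ S, ∀ E ∈ 𝓔, ∃ a, IsComp 𝓔 E x a ∧ IsComp 𝓔 E g (if E ∈ s then a else 1) by
    obtain ⟨g, hg, hc⟩ := h' (Finset.univ.filter (· ∈ 𝓔)) (by simp)
    have : x⁻¹ * g = 1 := D.eq_one_of_comps (mul_mem (inv_mem hx) (hS hg)) fun E hE => by
      obtain ⟨a, h1, h2⟩ := hc E hE
      rw [if_pos (by simp [hE])] at h2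
      simpa using comp_mul D.blk hE (comp_inv D.blk hE h1) h2
    rw [inv_mul_eq_one.1 this]; exact hg
  intro s
  induction s using Finset.induction_on with
  | empty =>
    refine fun _ => ⟨1, one_mem _, fun E hE => ?_⟩
    obtain ⟨a, ha⟩ := exists_comp D.blk hE hx
    exact ⟨a, ha, comp_self D.blk hE (one_mem E)⟩
  | @insert E₀ s hs0 ih =>
    intro hs
    have hE₀ := hs E₀ (Finset.mem_insert_self _ _)
    obtain ⟨g, hg, hc⟩ := ih fun E h' => hs E (Finset.mem_insert_of_mem h')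
    obtain ⟨a₀, ha₀⟩ := exists_comp D.blk hE₀ hx
    refine ⟨g * a₀, mul_mem hg (h E₀ hE₀ a₀ ha₀), fun E hE => ?_⟩
    obtain ⟨a, h1, h2⟩ := hc E hE
    refine ⟨a, h1, ?_⟩
    rcases eq_or_ne E E₀ with rfl | hne
    · rw [if_neg hs0] at h2
      have := comp_mul D.blk hE h2 (comp_self D.blk hE ha₀.1)
      rw [if_pos (Finset.mem_insert_self E s), comp_unique D.blk hE D.hyp h1 ha₀]
      rwa [one_mul] at this
    · have hz : IsComp 𝓔 E a₀ 1 := ⟨one_mem E, by
        rw [inv_one, one_mul]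
        exact le_sSup (show E₀ ∈ 𝓔 \ {E} from ⟨hE₀, hne.symm⟩) ha₀.1⟩
      have := comp_mul D.blk hE h2 hz
      simpa [Finset.mem_insert, hne] using this

theorem com_inf_fix (h0 : ∀ E ∈ 𝓔, com W E ⊓ fix W E = ⊥) {x : W}
    (hx : x ∈ com W (sSup 𝓔)) (hf : x ∈ fix W (sSup 𝓔)) : x = 0 := by
  classical
  haveI := Fintype.ofFinite (Subgroup P)
  set K : AddSubgroup W := ⨆ E ∈ 𝓔, com W E with hKdef
  have hinv : ∀ g ∈ sSup 𝓔, ∀ w ∈ K, g • w ∈ K := by
    intro g hg w hw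
    refine (iSup₂_le fun E hE u hu => ?_ :
      K ≤ K.comap (DistribSMul.toAddMonoidHom W g)) hw
    show g • u ∈ K
    refine AddSubgroup.mem_iSup_of_mem E (AddSubgroup.mem_iSup_of_mem hE ?_)
    have h1 := smul_mem_com_cj (g := g) hu
    rwa [PMinFF.mem_normalizer_iff_cj.1 (N_le_normalizer D.blk hE hg)] at h1
  have hle : com W (sSup 𝓔) ≤ K := by
    let S : Subgroup P :=
      { carrier := {g | g ∈ sSup 𝓔 ∧ ∀ v : W, g • v - v ∈ K}
        one_mem' := ⟨one_mem _, fun v => by simp⟩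
        mul_mem' := fun {g h} hg hh => ⟨mul_mem hg.1 hh.1, fun v => by
          have := K.add_mem (hg.2 (h • v)) (hh.2 v)
          rwa [sub_add_sub_cancel, ← mul_smul] at this⟩
        inv_mem' := fun {g} hg => ⟨inv_mem hg.1, fun v => by
          have := K.neg_mem (hg.2 (g⁻¹ • v))
          rwa [smul_inv_smul, neg_sub] at this⟩ }
    refine com_le.2 fun g hg v => ((sSup_le fun E hE a ha => ?_ : sSup 𝓔 ≤ S) hg).2 v
    exact ⟨le_sSup hE ha, fun v =>
      AddSubgroup.mem_iSup_of_mem E (AddSubgroup.mem_iSup_of_mem hE (mem_com ha v))⟩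
  have hK : K ≤ ⨆ E ∈ (Finset.univ.filter (· ∈ 𝓔) : Finset (Subgroup P)), com W E :=
    iSup₂_le fun E hE => le_iSup₂_of_le E (by simp [hE]) le_rfl
  suffices h : ∀ s : Finset (Subgroup P), (∀ E ∈ s, E ∈ 𝓔) →
      ∀ y ∈ ⨆ E ∈ s, com W E, y ∈ fix W (sSup 𝓔) → y = 0 from
    h _ (by simp) x (hK (hle hx)) hf
  intro s
  induction s using Finset.induction_on with
  | empty => intro _ y hy _; simpa using hy
  | @insert E s hEs ih =>
    intro hs y hy hyf
    have hE := hs E (Finset.mem_insert_self _ _)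
    rw [Finset.iSup_insert] at hy
    obtain ⟨a, ha, b, hb, rfl⟩ := AddSubgroup.mem_sup.1 hy
    have hbE : b ∈ fix W E := (iSup₂_le fun E' hE' => D.blk.sep E'
      (hs E' (Finset.mem_insert_of_mem hE')) E hE (fun h => hEs (h ▸ hE')) :
        (⨆ E' ∈ s, com W E') ≤ fix W E) hb
    have haE : a ∈ com W E ⊓ fix W E := ⟨ha, by
      have := (fix W E).sub_mem (fix_anti (le_sSup hE) hyf) hbE
      rwa [add_sub_cancel_right] at this⟩
    rw [h0 E hE] at haE
    rw [AddSubgroup.mem_bot.1 haE, zero_add] at hyf ⊢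
    exact ih (fun E' h' => hs E' (Finset.mem_insert_of_mem h')) b hb hyf

/-- Either every block meets `J(T)` in a Sylow subgroup or the blocks have no fixed commutators. -/
theorem trace_cases :
    (∀ E ∈ 𝓔, SLBlock W p E ∧ (T' : Subgroup P) ⊓ E ≤ Jb T π) ∨
      ∀ E ∈ 𝓔, com W E ⊓ fix W E = ⊥ := by
  by_cases h : ∀ E ∈ 𝓔, SLBlock W p E
  · exact Or.inl fun E hE => ⟨h E hE, (D.nice_sl hE (h E hE)).1⟩
  · push Not at h
    obtain ⟨E₀, hE₀, hns⟩ := h
    obtain ⟨-, -, h0⟩ := (D.blk.nat E₀ hE₀).resolve_left hns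
    refine Or.inr fun E hE => ?_
    obtain ⟨t, -, rfl⟩ := D.blk.trans E₀ hE₀ E hE
    rw [eq_bot_iff]
    rintro v ⟨hv, hvf⟩
    have h1 : t⁻¹ • v ∈ com W E₀ ⊓ fix W E₀ := by
      refine ⟨?_, mem_fix_cj.1 hvf⟩
      have := smul_mem_com_cj (g := t⁻¹) hv
      rwa [cj_inv_cj] at this
    rw [h0, AddSubgroup.mem_bot] at h1
    rw [AddSubgroup.mem_bot, ← smul_inv_smul t v, h1, smul_zero]

theorem JG_induction {motive : G → Prop}
    (conj : ∀ g ∈ Cfsg.thompsonSubgroup p G,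
      ∀ j ∈ Cfsg.thompsonSubgroupOf p (T : Subgroup G), motive (g * j * g⁻¹))
    (one : motive 1)
    (mul : ∀ x ∈ Cfsg.thompsonSubgroup p G, ∀ y ∈ Cfsg.thompsonSubgroup p G,
      motive x → motive y → motive (x * y))
    (inv : ∀ x ∈ Cfsg.thompsonSubgroup p G, motive x → motive x⁻¹)
    {g : G} (hg : g ∈ Cfsg.thompsonSubgroup p G) : motive g := by
  let S : Subgroup G :=
    { carrier := {x | x ∈ Cfsg.thompsonSubgroup p G ∧ motive x}
      one_mem' := ⟨one_mem _, one⟩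
      mul_mem' := fun ha hb => ⟨mul_mem ha.1 hb.1, mul _ ha.1 _ hb.1 ha.2 hb.2⟩
      inv_mem' := fun ha => ⟨inv_mem ha.1, inv _ ha.1 ha.2⟩ }
  refine ((sSup_le fun A hA a ha => ?_ : Cfsg.thompsonSubgroup p G ≤ S) hg).2
  obtain ⟨k, hk⟩ := maxE_conj T hA
  haveI := thompsonSubgroup_normal (p := p) (G := G)
  obtain ⟨t, ht, j, hj, rfl⟩ := Subgroup.mem_sup_of_normal_right.1
    ((le_of_eq (sup_comm _ _) : Cfsg.thompsonSubgroup p G ⊔ (T : Subgroup G) ≤
      (T : Subgroup G) ⊔ Cfsg.thompsonSubgroup p G) (D.sup_T.ge (mem_top k)) :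
      k ∈ (T : Subgroup G) ⊔ Cfsg.thompsonSubgroup p G)
  refine ⟨CfsgLib.Thompson.le_thompsonSubgroup hA ha, ?_⟩
  have h1 : t⁻¹ * (t * j * a * (t * j)⁻¹) * t⁻¹⁻¹ ∈
      Cfsg.thompsonSubgroupOf p (T : Subgroup G) :=
    (D.J_normalized (inv_mem ht)).le (conj_mem_cj (maxIn_le_thompson hk (conj_mem_cj ha)))
  have h2 := conj j⁻¹ (inv_mem hj) _ h1
  rwa [show j⁻¹ * (t⁻¹ * (t * j * a * (t * j)⁻¹) * t⁻¹⁻¹) * j⁻¹⁻¹ = a by group] at h2

theorem Q_inf_JG_commute {y : G} (hy : y ∈ Yt p (T : Subgroup G)) {q : G}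
    (hqQ : q ∈ Cfsg.pCore p G) (hqJ : q ∈ Cfsg.thompsonSubgroup p G) : y * q = q * y := by
  classical
  set K := Cfsg.thompsonSubgroup p G with hK
  haveI hKn : K.Normal := thompsonSubgroup_normal
  have hmem : ∀ g ∈ K, g * y * g⁻¹ * y⁻¹ ∈ Vo p G := fun g hg => by
    simpa using D.comm_JG hg y hy 1
  let c : G → W := fun g => if hg : g ∈ K then e.symm ⟨_, hmem g hg⟩ else 0
  have hc : ∀ g ∈ K, (e (c g) : G) = g * y * g⁻¹ * y⁻¹ := fun g hg => by
    simp only [c, dif_pos hg, Equiv.apply_symm_apply]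
  have hinj : ∀ {a b : W}, (e a : G) = (e b : G) → a = b := fun h => e.injective (Subtype.ext h)
  have hmul : ∀ g ∈ K, ∀ h ∈ K, c (g * h) = π g • c h + c g := fun g hg h hh => by
    refine hinj ?_
    rw [D.quot.add, Subgroup.coe_mul, D.quot.smul, hc g hg, hc h hh, hc _ (mul_mem hg hh)]
    group
  have hone : c 1 = 0 := hinj (by rw [hc 1 (one_mem K), D.quot.val_zero]; group)
  have hinv : ∀ g ∈ K, c g⁻¹ = -(π g⁻¹ • c g) := fun g hg => by
    have := hmul g⁻¹ (inv_mem hg) g hg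
    rw [inv_mul_cancel, hone] at this
    exact eq_neg_of_add_eq_zero_right this.symm
  have hJ0 : ∀ j ∈ Cfsg.thompsonSubgroupOf p (T : Subgroup G), c j = 0 := fun j hj => by
    refine hinj ?_
    rw [hc j (D.J_le_JG hj), D.quot.val_zero, (mem_Yt hy).2.1 j hj]
    group
  have hπN : ∀ g ∈ K, π g ∈ sSup 𝓔 := fun g hg => D.image ▸ Subgroup.mem_map_of_mem π hg
  -- fixed by `J(T)`
  have hcT : ∀ g ∈ (T : Subgroup G), g ∈ K → c g ∈ fix W (Jb T π) := by
    rintro g hgT hgK - ⟨j, hj, rfl⟩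
    refine D.quot.smul_eq_iff.2 ?_
    rw [hc g hgK]
    exact (mem_Yt ((Yt p (T : Subgroup G)).mul_mem
      ((mem_normalizer_iff.1 (D.T_le_normalizer_Y hgT) y).1 hy) (inv_mem hy))).2.1 j hj
  have hqfix : ∀ x ∈ Cfsg.pCore p G, x ∈ K → c x ∈ fix W (sSup 𝓔) := by
    intro x hxQ hxK b hb
    rw [← D.image] at hb
    obtain ⟨g, hg, rfl⟩ := hb
    refine D.JG_induction (motive := fun g => π g • c x = c x) (fun g hg j hj => ?_)
      (by rw [map_one, one_smul]) (fun a _ b _ h1 h2 => by rw [map_mul, mul_smul, h2, h1])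
      (fun a _ h1 => by rw [map_inv, inv_smul_eq_iff, h1]) hg
    set x' := g⁻¹ * x * g with hx'
    have hx'Q : x' ∈ Cfsg.pCore p G := by simpa [hx'] using (Q_normal).conj_mem x hxQ g⁻¹
    have hx'K : x' ∈ K := mul_mem (mul_mem (inv_mem hg) hxK) hg
    have hcx : c x = π g • c x' := by
      have h1 := hmul g hg x' hx'K
      rw [show g * x' = x * g by rw [hx']; group, hmul x hxK g hg,
        D.eq_one (D.Q_le_ker hxQ), one_smul, add_comm] at h1
      exact add_right_cancel h1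
    have h2 := hcT x' (D.Q_le_T hx'Q) hx'K (π j) (Subgroup.mem_map_of_mem π hj)
    rw [hcx, map_mul, map_mul, map_inv, mul_smul, mul_smul, inv_smul_smul, h2]
  suffices h : c q = 0 by
    have h1 := hc q hqJ
    rw [h, D.quot.val_zero] at h1
    exact (mul_inv_eq_iff_eq_mul.1 (mul_inv_eq_one.1 h1.symm)).symm
  rcases D.trace_cases with hA | hB
  · -- average over the cosets of `T ∩ J(G)`
    set R := ((T : Subgroup G) ⊓ K).subgroupOf K with hR
    set F := fix W (sSup 𝓔) with hF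
    have hFinv : ∀ g ∈ K, ∀ w ∈ F, π g • w = w := fun g hg w hw => hw _ (hπN g hg)
    have hTK : ∀ g ∈ (T : Subgroup G) ⊓ K, c g ∈ F := by
      rintro g ⟨hgT, hgK⟩
      have h1 : π g ∈ Jb T π := D.mem_of_comps D.Jb_le_N (hπN g hgK) fun E hE a ha =>
        (hA E hE).2 ⟨comp_mem_T D.blk hE D.hyp (D.hT' ▸ Subgroup.mem_map_of_mem π hgT) ha, ha.1⟩
      obtain ⟨j, hj, hje⟩ := h1
      have hq' : j⁻¹ * g ∈ Cfsg.pCore p G := D.mem_Q_of_ker
        (mul_mem (inv_mem (D.J_le_T hj)) hgT) (by rw [map_mul, map_inv, hje, inv_mul_cancel])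
      have hjK := D.J_le_JG hj
      have h2 := hmul j hjK (j⁻¹ * g) (mul_mem (inv_mem hjK) hgK)
      rw [mul_inv_cancel_left, hJ0 j hj, add_zero] at h2
      have h3 := hqfix _ hq' (mul_mem (inv_mem hjK) hgK)
      rw [h2, hFinv j hjK _ h3]
      exact h3
    have hidx : ¬ p ∣ R.index :=
      CfsgLib.Kieler.not_dvd_relIndex_subnormal T (.step K ⊤ le_top .top
        (Subgroup.Normal.comap inferInstance _))
    haveI : Fintype (↥K ⧸ R) := Fintype.ofFinite _
    let f : ↥K ⧸ R → W := fun x => c (x.out : K)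
    obtain ⟨m, hm⟩ : ∃ m : ℕ, m * R.index ≡ 1 [MOD p] := by
      obtain ⟨m, -, hm⟩ := Nat.exists_mul_mod_eq_one_of_coprime
        (Nat.Coprime.symm ((Nat.Prime.coprime_iff_not_dvd Fact.out).2 hidx)) (Fact.out : p.Prime).one_lt
      exact ⟨m, by rw [Nat.ModEq, mul_comm, hm, Nat.one_mod_eq_one.2 (Fact.out : p.Prime).ne_one]⟩
    set v := m • ∑ x, f x with hv
    have hshift : ∀ g : K, ∀ x, π g • f x + c g - f (g • x) ∈ F := by
      intro g x
      obtain ⟨a, ha⟩ : ∃ a ∈ R, g * x.out = (g • x).out * a := by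
        refine ⟨(g • x).out⁻¹ * (g * x.out), ?_, by group⟩
        rw [← QuotientGroup.eq, QuotientGroup.out_eq']
        show g • x = _
        conv_lhs => rw [← QuotientGroup.out_eq' x]
        rfl
      have hcg : π g • f x + c g = c ((g * x.out : K) : G) := by
        rw [Subgroup.coe_mul, hmul _ g.2 _ x.out.2]
      rw [hcg, ha.2, Subgroup.coe_mul, hmul _ (g • x).out.2 _ a.2, add_sub_cancel_right,
        hFinv _ (g • x).out.2 _ (hTK _ (Subgroup.mem_subgroupOf.1 ha.1))]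
      exact hTK _ (Subgroup.mem_subgroupOf.1 ha.1)
    have hsum : ∀ g : K, π g • v - v + c g ∈ F := by
      intro g
      have h1 : ∑ x, (π g • f x + c g - f (g • x)) ∈ F := F.sum_mem fun x _ => hshift g x
      rw [Finset.sum_sub_distrib, Finset.sum_add_distrib, Finset.sum_const, Finset.card_univ,
        Fintype.card_eq_nat_card,
        show ∑ x, f (g • x) = ∑ x, f x from Equiv.sum_comp (MulAction.toPerm g) f] at h1
      have h2 := F.nsmul_mem h1 m
      have h3 : m • (R.index • c g) = c g := by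
        rw [← mul_smul, ← Nat.mod_add_div (m * R.index) p, hm, Nat.one_mod_eq_one.2
          (Fact.out : p.Prime).ne_one, add_nsmul, one_nsmul, mul_comm, mul_nsmul, D.hyp.exp,
          add_zero]
      rw [nsmul_sub, nsmul_add, show Nat.card (↥K ⧸ R) = R.index from rfl, h3, ← hv,
        show m • ∑ x, π g • f x = π g • v from by
          rw [hv, ← Finset.smul_sum]
          exact (map_nsmul (DistribSMul.toAddMonoidHom W (π g)) m _).symm] at h2
      rwa [sub_add_eq_add_sub]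
    have hhom : ∀ g ∈ K, ∀ h ∈ K, π (g * h) • v - v + c (g * h) =
        (π g • v - v + c g) + (π h • v - v + c h) := by
      intro g hg h hh
      have h1 := hFinv g hg _ (hsum ⟨h, hh⟩)
      simp only at h1
      rw [hmul g hg h hh, map_mul, mul_smul]
      rw [smul_add, smul_sub] at h1
      calc π g • π h • v - v + (π g • c h + c g)
          = (π g • v - v + c g) + (π g • π h • v - π g • v + π g • c h) := by abel
        _ = _ := by rw [h1]
    have hvJ : v ∈ fix W (Jb T π) := by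
      have hE : ∀ E ∈ 𝓔, ∀ u ∈ (T' : Subgroup P) ⊓ E, u • v = v := by
        intro E hE u hu
        obtain ⟨B, hB, hBE, hBJ⟩ := D.exists_mem_Jb E hE
        obtain ⟨hBeq, F', iF, iFt, ⟨X⟩⟩ := exists_sld (hA E hE).1 hB hBE (hBJ.trans D.Jb_le_T)
        suffices X.ψ v 1 = 0 from (X.fix_eq v).2 this u hu
        have huT : ((X.ρ.symm (CfsgLib.SL2Pair.up 1) : E) : P) ∈ (T' : Subgroup P) :=
          (X.axis _).2 ⟨1, X.ρ.apply_symm_apply _⟩
        obtain ⟨j, hj, hje⟩ := (hA E hE).2 ⟨huT, Subtype.coe_prop _⟩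
        have h1 := hsum ⟨j, D.J_le_JG hj⟩
        rw [show c ((⟨j, D.J_le_JG hj⟩ : K) : G) = 0 from hJ0 j hj, add_zero] at h1
        have h2 := (X.ker _).2 (fix_anti (le_sSup hE) h1)
        rw [map_sub, show π ((⟨j, D.J_le_JG hj⟩ : K) : G) = _ from hje, X.equi,
          X.ρ.apply_symm_apply, PMinFF.up_mulVec] at h2
        simpa using congrFun h2 0
      intro j hj
      refine ((D.mem_of_comps (S := sSup 𝓔 ⊓ MulAction.stabilizer P v) inf_le_left
        (D.Jb_le_N hj) fun E hEm a ha => ⟨le_sSup hEm ha.1, ?_⟩)).2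
      exact hE E hEm a ⟨comp_mem_T D.blk hEm D.hyp (D.Jb_le_T hj) ha, ha.1⟩
    have hall : π q • v - v + c q = 0 := by
      refine D.JG_induction (motive := fun g => π g • v - v + c g = 0) (fun g hg j hj => ?_)
        (by simp [hone]) (fun a ha b hb h1 h2 => by rw [hhom a ha b hb, h1, h2, add_zero])
        (fun a ha h1 => ?_) hqJ
      · have hjK := D.J_le_JG hj
        rw [hhom _ (mul_mem hg hjK) _ (inv_mem hg), hhom g hg j hjK, hJ0 j hj, add_zero,
          hvJ _ (Subgroup.mem_map_of_mem π hj), sub_self, add_zero, ← hhom g hg _ (inv_mem hg),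
          mul_inv_cancel]
        simp [hone]
      · have h2 := hhom _ (inv_mem ha) a ha
        rw [inv_mul_cancel, h1, add_zero] at h2
        rw [← h2]; simp [hone]
    rwa [D.eq_one (D.Q_le_ker hqQ), one_smul, sub_self, zero_add] at hall
  · refine D.com_inf_fix hB ?_ (hqfix q hqQ hqJ)
    have hinvN : ∀ g ∈ K, ∀ w ∈ com W (sSup 𝓔), π g • w ∈ com W (sSup 𝓔) := fun g hg w hw =>
      smul_mem_com_self (hπN g hg) hw
    refine D.JG_induction (motive := fun g => c g ∈ com W (sSup 𝓔)) (fun g hg j hj => ?_)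
      (by rw [hone]; exact zero_mem _) (fun a ha b hb h1 h2 => ?_) (fun a ha h1 => ?_) hqJ
    · have hjK := D.J_le_JG hj
      rw [hmul _ (mul_mem hg hjK) _ (inv_mem hg), hmul g hg j hjK, hJ0 j hj, smul_zero, zero_add,
        hinv g hg, smul_neg, ← mul_smul, ← map_mul, neg_add_eq_sub,
        show g * j * g⁻¹ = g * j * g⁻¹ from rfl, ← neg_sub]
      exact neg_mem (mem_com (hπN _ (mul_mem (mul_mem hg hjK) (inv_mem hg))) _)
    · rw [hmul a ha b hb]; exact add_mem (hinvN a ha _ h2) h1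
    · rw [hinv a ha]; exact neg_mem (hinvN _ (inv_mem ha) _ h1)

theorem Lt_inf_Q : Lt p (T : Subgroup G) ⊓ Cfsg.pCore p G = Qz p (T : Subgroup G) := by
  refine le_antisymm ?_ (le_inf le_sup_right inf_le_left)
  rintro x ⟨hxL, hxQ⟩
  haveI := thompsonSubgroup_normal (p := p) (G := G)
  obtain ⟨j, hj, q, hq, rfl⟩ := Subgroup.mem_sup_of_normal_left.1 hxL
  have hjQ : j ∈ Cfsg.pCore p G := by
    have := (Cfsg.pCore p G).mul_mem hxQ ((Cfsg.pCore p G).inv_mem hq.1)
    rwa [mul_inv_cancel_right] at this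
  exact (Qz p (T : Subgroup G)).mul_mem (D.mem_Qz.2 ⟨hjQ, fun y hy => D.Q_inf_JG_commute hy hjQ hj⟩) hq

theorem Lt_inf_ker : (T : Subgroup G) ⊓ Lt p (T : Subgroup G) ⊓ π.ker = Qz p (T : Subgroup G) :=
  le_antisymm (fun _ hx => D.Lt_inf_Q ▸ ⟨hx.1.2, D.inf_C ⟨hx.1.1, hx.2⟩⟩)
    (le_inf (le_inf (inf_le_left.trans D.Q_le_T) le_sup_right)
      (inf_le_left.trans D.Q_le_ker))

theorem B_eq : Cfsg.baumannSubgroupOf p (T : Subgroup G) =
    Cfsg.thompsonSubgroupOf p (T : Subgroup G) ⊔ Qz p (T : Subgroup G) := by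
  refine le_antisymm (fun b hb => ?_) (sup_le D.J_le_B inf_le_right)
  have h1 : π b ∈ Jb T π := D.map_B ▸ Subgroup.mem_map_of_mem π hb
  obtain ⟨j, hj, hje⟩ := h1
  have hq : j⁻¹ * b ∈ Cfsg.pCore p G :=
    D.mem_Q_of_ker (mul_mem (inv_mem (D.J_le_T hj)) (D.mem_B.1 hb).1)
      (by rw [map_mul, map_inv, hje, inv_mul_cancel])
  have := mul_mem (mem_sup_left hj)
    (mem_sup_right (S := Cfsg.thompsonSubgroupOf p (T : Subgroup G))
      (show j⁻¹ * b ∈ Qz p (T : Subgroup G) from ⟨hq, (Cfsg.baumannSubgroupOf p (T : Subgroup G)).mul_mem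
        ((Cfsg.baumannSubgroupOf p (T : Subgroup G)).inv_mem (D.J_le_B hj)) hb⟩))
  rwa [mul_inv_cancel_left] at this

theorem B_le_Lt : Cfsg.baumannSubgroupOf p (T : Subgroup G) ≤ Lt p (T : Subgroup G) :=
  D.B_eq.le.trans (sup_le_sup_right D.J_le_JG _)

/-- A `p`-subgroup of `L` in the kernel lies in `O_p(G) ∩ B(T)`. -/
theorem pGroup_ker_le {R : Subgroup G} (hR : IsPGroup p R)
    (hle : R ≤ Lt p (T : Subgroup G) ⊓ π.ker) : R ≤ Qz p (T : Subgroup G) := by
  obtain ⟨S, hS⟩ := hR.exists_le_sylow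
  obtain ⟨g, hg⟩ := MulAction.exists_smul_eq G S T
  intro x hx
  haveI := D.Lt_normal
  have h1 : g * x * g⁻¹ ∈ Qz p (T : Subgroup G) := D.Lt_inf_ker ▸
    ⟨⟨(hg ▸ (smul_coe g S).symm ▸ conj_mem_cj (hS hx) :),
      (D.Lt_normal).conj_mem x (hle hx).1 g⟩, (MonoidHom.normal_ker π).conj_mem x (hle hx).2 g⟩
  have h2 := (D.Qz_normal).conj_mem _ h1 g⁻¹
  rwa [show g⁻¹ * (g * x * g⁻¹) * g⁻¹⁻¹ = x by group] at h2

end PU

end CfsgLib.PushUpB
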