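import Cfsg.Agent.LocalB.BlockSL2
import Cfsg.Agent.RootSubgroups.SL2Pair
import Mathlib.FieldTheory.Finite.Basic

/-!
Pushing up: derived groups of `SL₂(q)` that are alternating groups of odd degree.
-/

set_option autoImplicit false
set_option linter.style.haveILetI false
set_option linter.unusedSectionVars false

namespace CfsgLib.PushUpB

open Matrix
open scoped commutatorElement

theorem alt_degree {m k : ℕ} (hk : 3 ≤ k)
    (e : ↥(alternatingGroup (Fin (2 * m + 1))) ≃* ↥(alternatingGroup (Fin k))) : 2 * m + 1 = k := by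
  have hc := Nat.card_congr e.toEquiv
  haveI : Nontrivial (Fin k) := Fin.nontrivial_iff_two_le.2 (by omega)
  have h1 := two_mul_nat_card_alternatingGroup (α := Fin k)
  rw [Nat.card_perm, Nat.card_fin] at h1
  rcases Nat.eq_zero_or_pos m with rfl | hm
  · haveI : Subsingleton (Fin (2 * 0 + 1)) := inferInstanceAs (Subsingleton (Fin 1))
    rw [Nat.card_of_subsingleton (1 : ↥(alternatingGroup (Fin (2 * 0 + 1))))] at hc
    rw [← hc] at h1
    have := Nat.self_le_factorial k
    omega
  · haveI : Nontrivial (Fin (2 * m + 1)) := Fin.nontrivial_iff_two_le.2 (by omega)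
    have h2 := two_mul_nat_card_alternatingGroup (α := Fin (2 * m + 1))
    rw [Nat.card_perm, Nat.card_fin, hc, h1] at h2
    exact ((Nat.factorial_inj' (by omega)).1 h2).symm

theorem sl_pow_four {F : Type*} [Field F] (h2 : (2 : F) = 0) (g : SpecialLinearGroup (Fin 2) F)
    (h4 : g ^ 4 = 1) : g ^ 2 = 1 := by
  have hd := g.2
  rw [Matrix.det_fin_two] at hd
  obtain ⟨a, ha⟩ : ∃ a, (g : Matrix (Fin 2) (Fin 2) F) 0 0 = a := ⟨_, rfl⟩
  obtain ⟨b, hb⟩ : ∃ b, (g : Matrix (Fin 2) (Fin 2) F) 0 1 = b := ⟨_, rfl⟩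
  obtain ⟨c, hc⟩ : ∃ c, (g : Matrix (Fin 2) (Fin 2) F) 1 0 = c := ⟨_, rfl⟩
  obtain ⟨d, hd'⟩ : ∃ d, (g : Matrix (Fin 2) (Fin 2) F) 1 1 = d := ⟨_, rfl⟩
  rw [ha, hb, hc, hd'] at hd
  -- the trace vanishes
  have hsq : ((g ^ 2 : SpecialLinearGroup (Fin 2) F) : Matrix (Fin 2) (Fin 2) F) =
      !![(a + d) * a - 1, (a + d) * b; (a + d) * c, (a + d) * d - 1] := by
    ext i j
    fin_cases i <;> fin_cases j <;>
      simp [pow_two, Matrix.SpecialLinearGroup.coe_mul, Matrix.mul_apply, Fin.sum_univ_two, ha, hb,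
        hc, hd'] <;> first | ring1 | linear_combination hd | linear_combination -hd
  have h00 : ((g ^ 4 : SpecialLinearGroup (Fin 2) F) : Matrix (Fin 2) (Fin 2) F) 0 0 = 1 := by
    rw [h4]; simp
  have h11 : ((g ^ 4 : SpecialLinearGroup (Fin 2) F) : Matrix (Fin 2) (Fin 2) F) 1 1 = 1 := by
    rw [h4]; simp
  rw [show g ^ 4 = g ^ 2 * g ^ 2 by group, Matrix.SpecialLinearGroup.coe_mul, hsq] at h00 h11
  simp [Matrix.mul_apply, Fin.sum_univ_two] at h00 h11
  have ht : (a + d) ^ 4 = 0 := by
    linear_combination h00 + h11 + (2 * (a + d) ^ 2) * hd + (2 * (a + d) ^ 2) * h2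
  have ht' : a + d = 0 := pow_eq_zero_iff (by norm_num) |>.1 ht
  refine Subtype.ext ?_
  rw [hsq, ht', Matrix.SpecialLinearGroup.coe_one]
  ext i j
  fin_cases i <;> fin_cases j <;> simp <;> linear_combination -h2

theorem neg_one_mem_commutator {F : Type*} [Field F] [Finite F] :
    (-1 : SpecialLinearGroup (Fin 2) F) ∈ commutator (SpecialLinearGroup (Fin 2) F) := by
  obtain ⟨p, hp⟩ := CharP.exists F
  haveI : NeZero p := ⟨by
    rintro rfl
    haveI := CharP.charP_to_charZero F
    exact not_finite F⟩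
  obtain ⟨a, b, hab⟩ := CharP.sq_add_sq F p (-1)
  let J : SpecialLinearGroup (Fin 2) F := ⟨!![0, 1; -1, 0], by simp [Matrix.det_fin_two]⟩
  let x : SpecialLinearGroup (Fin 2) F := ⟨!![(a : F), b; b, -(a : F)], by
    rw [Matrix.det_fin_two_of]
    push_cast at hab
    linear_combination -hab⟩
  have h : ⁅J, x⁆ = -1 := by
    have e : J * x = -1 * (x * J) := by
      rw [neg_mul, one_mul]
      refine Subtype.ext ?_
      ext i j
      show (J.1 * x.1) i j = (-(x.1 * J.1)) i j
      fin_cases i <;> fin_cases j <;> simp [J, x, Matrix.mul_apply, Fin.sum_univ_two]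
    rw [commutatorElement_def, e]
    group
  rw [← h]
  exact Subgroup.commutator_mem_commutator (Subgroup.mem_top _) (Subgroup.mem_top _)

/-- An alternating derived group of `SL₂(q)` of odd degree has degree `3` or `5`. -/
theorem sl_alt {F : Type} [Field F] [Fintype F] {m : ℕ}
    (e : ↥(commutator (SpecialLinearGroup (Fin 2) F)) ≃* ↥(alternatingGroup (Fin (2 * m + 1)))) :
    m = 1 ∨ m = 2 := by
  classical
  by_cases h2 : (2 : F) = 0
  · by_contra hm
    push Not at hm
    rcases Nat.eq_zero_or_pos m with rfl | hpos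
    · haveI : Subsingleton (Fin (2 * 0 + 1)) := inferInstanceAs (Subsingleton (Fin 1))
      -- a nontrivial commutator
      have hne : ⁅CfsgLib.SL2Pair.up (1 : F), CfsgLib.SL2Pair.low (1 : F)⁆ ≠ 1 := by
        rw [Ne, commutatorElement_eq_one_iff_mul_comm]
        intro h
        have h1 := congrFun (congrFun (congrArg Subtype.val h) 0) 0
        simp [Matrix.SpecialLinearGroup.coe_mul, CfsgLib.SL2Pair.up_coe, CfsgLib.SL2Pair.low_coe,
          Matrix.mul_apply, Fin.sum_univ_two] at h1
      have h1 := e.injective (Subsingleton.elim (e ⟨_, Subgroup.commutator_mem_commutator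
        (Subgroup.mem_top (CfsgLib.SL2Pair.up (1 : F)))
        (Subgroup.mem_top (CfsgLib.SL2Pair.low (1 : F)))⟩) (e 1))
      exact hne (congrArg Subtype.val h1)
    · -- an element of order four
      have h6 : 6 ≤ 2 * m + 1 := by omega
      let i : Fin 6 ↪ Fin (2 * m + 1) := Fin.castLEEmb h6
      let s : Equiv.Perm (Fin 6) := Equiv.swap 0 1 * Equiv.swap 1 2 * Equiv.swap 2 3 * Equiv.swap 4 5
      have hs : Equiv.Perm.sign s = 1 ∧ s ^ 4 = 1 ∧ s ^ 2 ≠ 1 := by decide
      have hsign : Equiv.Perm.sign (Equiv.Perm.viaEmbeddingHom i s) = 1 := by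
        rw [Equiv.Perm.viaEmbeddingHom_apply, Equiv.Perm.viaEmbedding,
          Equiv.Perm.sign_extendDomain, hs.1]
      set y := e.symm ⟨Equiv.Perm.viaEmbeddingHom i s, hsign⟩ with hy
      have hy4 : (y : SpecialLinearGroup (Fin 2) F) ^ 4 = 1 := by
        rw [← Subgroup.coe_pow, hy, ← map_pow]
        have : (⟨Equiv.Perm.viaEmbeddingHom i s, hsign⟩ :
            ↥(alternatingGroup (Fin (2 * m + 1)))) ^ 4 = 1 :=
          Subtype.ext (by rw [Subgroup.coe_pow, ← map_pow, hs.2.1, map_one]; rfl)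
        rw [this, map_one, Subgroup.coe_one]
      have hy2 := sl_pow_four h2 _ hy4
      refine hs.2.2 (Equiv.Perm.viaEmbeddingHom_injective i ?_)
      have h3 : y ^ 2 = 1 := Subtype.ext (by rw [Subgroup.coe_pow, hy2]; rfl)
      rw [hy, ← map_pow, MulEquiv.map_eq_one_iff] at h3
      rw [map_pow, map_one]
      exact congrArg Subtype.val h3
  · exfalso
    set z : ↥(commutator (SpecialLinearGroup (Fin 2) F)) := ⟨-1, neg_one_mem_commutator⟩
    have hz1 : z ≠ 1 := fun h => h2 (by
      have h1 := congrFun (congrFun (congrArg Subtype.val (congrArg Subtype.val h)) 0) 0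
      simp [z] at h1
      linear_combination -h1)
    have hzc : e z ∈ Subgroup.center ↥(alternatingGroup (Fin (2 * m + 1))) :=
      Subgroup.mem_center_iff.2 fun g => by
        obtain ⟨g, rfl⟩ := e.surjective g
        rw [← map_mul, ← map_mul]
        exact congrArg e (Subtype.ext (by simp [z]))
    have hzz : e z * e z = 1 := by
      rw [← map_mul, MulEquiv.map_eq_one_iff]
      exact Subtype.ext (by simp [z])
    have hez : e z ≠ 1 := fun h => hz1 (e.map_eq_one_iff.1 h)
    rcases (show m = 0 ∨ m = 1 ∨ 2 ≤ m by omega) with rfl | rfl | hm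
    · haveI : Subsingleton (Fin (2 * 0 + 1)) := inferInstanceAs (Subsingleton (Fin 1))
      exact hez (Subsingleton.elim _ _)
    · revert hez hzz
      generalize e z = g
      revert g
      decide
    · rw [alternatingGroup.center_eq_bot (by rw [Nat.card_fin]; omega), Subgroup.mem_bot] at hzc
      exact hez hzc

end CfsgLib.PushUpB
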