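import Cfsg.Prelude.Def_BaumannBlocks
import Cfsg.Agent.CharP.FrakM
import Cfsg.Agent.CharP.WeakFactor
import Cfsg.Agent.Fusion.InnerFrattini
import Cfsg.Agent.PLocal.Thompson

/-!
Pushing up: block data along an injective homomorphism.
-/

set_option autoImplicit false
set_option linter.style.haveILetI false
set_option linter.unusedSectionVars false

namespace CfsgLib.PushUpB.Tp

open Subgroup
open scoped commutatorElement

theorem map_normalizer_le {H G : Type*} [Group H] [Group G] (f : H →* G)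
    (U : Subgroup H) :
    (normalizer (U : Set H)).map f ≤ normalizer ((U.map f : Subgroup G) : Set G) :=
  Subgroup.le_normalizer_map f

variable {H G : Type*} [Group H] [Group G] {p : ℕ} {f : H →* G} (hf : Function.Injective f)

include hf

theorem map_pCoreOf [Finite H] [Finite G] [Fact p.Prime] (K : Subgroup H) :
    (Cfsg.pCoreOf p K).map f = Cfsg.pCoreOf p (K.map f) := by
  refine le_antisymm ?_ fun y hy => ?_
  · refine CfsgLib.FrakM.le_pCoreOf (Subgroup.map_mono (map_subtype_le _))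
      ((CfsgLib.FrakM.isPGroup_pCoreOf K).map _) ?_
    rintro _ ⟨k, hk, rfl⟩
    refine mem_normalizer_fintype ?_
    rintro _ ⟨x, hx, rfl⟩
    exact ⟨k * x * k⁻¹, (mem_normalizer_iff.1 (CfsgLib.FrakM.le_normalizer_pCoreOf K hk) x).1 hx,
      by simp⟩
  · obtain ⟨x, hx, rfl⟩ := (map_subtype_le _ : Cfsg.pCoreOf p (K.map f) ≤ K.map f) hy
    refine mem_map_of_mem f ?_
    have hle : (Cfsg.pCoreOf p (K.map f)).comap f ≤ Cfsg.pCoreOf p K := by
      refine CfsgLib.FrakM.le_pCoreOf (fun z hz => ?_)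
        ((CfsgLib.FrakM.isPGroup_pCoreOf (K.map f)).comap_of_injective f hf) fun k hk => ?_
      · obtain ⟨z', hz', e⟩ := (map_subtype_le _ : Cfsg.pCoreOf p (K.map f) ≤ K.map f) hz
        rwa [← hf e]
      · refine mem_normalizer_fintype fun z hz => ?_
        rw [SetLike.mem_coe, Subgroup.mem_comap]
        rw [map_mul, map_mul, map_inv]
        exact (mem_normalizer_iff.1
          (CfsgLib.FrakM.le_normalizer_pCoreOf (K.map f) (mem_map_of_mem f hk)) (f z)).1 hz
    exact hle hy

theorem map_inf_centralizer (U K : Subgroup H) :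
    (U ⊓ centralizer (K : Set H)).map f = U.map f ⊓ centralizer ((K.map f : Subgroup G) : Set G) := by
  ext y
  constructor
  · rintro ⟨x, hx, rfl⟩
    refine ⟨mem_map_of_mem f hx.1, mem_centralizer_iff.2 ?_⟩
    rintro _ ⟨k, hk, rfl⟩
    rw [← map_mul, mem_centralizer_iff.1 hx.2 k hk, map_mul]
  · rintro ⟨⟨x, hx, rfl⟩, hc⟩
    refine mem_map_of_mem f ⟨hx, mem_centralizer_iff.2 fun k hk => hf ?_⟩
    rw [map_mul, map_mul]
    exact mem_centralizer_iff.1 hc _ (mem_map_of_mem f hk)

theorem map_omegaOneCenter (U : Subgroup H) :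
    (Cfsg.omegaOneCenter p U).map f = Cfsg.omegaOneCenter p (U.map f) := by
  rw [Cfsg.omegaOneCenter, CfsgLib.Thompson.map_omegaOne f hf, map_inf_centralizer hf]
  rfl

theorem map_frattini (U : Subgroup H) :
    ((frattini ↥U).map U.subtype).map f = (frattini ↥(U.map f)).map (U.map f).subtype := by
  let e := U.equivMapOfInjective f hf
  have h : (frattini ↥U).map e.toMonoidHom = frattini ↥(U.map f) := by
    refine le_antisymm (CfsgLib.Fusion.map_frattini_le_of_equiv _) fun x hx => ?_
    exact ⟨e.symm x, CfsgLib.Fusion.map_frattini_le_of_equiv e.symm ⟨x, hx, rfl⟩,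
      e.apply_symm_apply x⟩
  rw [← h, Subgroup.map_map, Subgroup.map_map]
  refine congrArg (Subgroup.map · _) ?_
  ext x
  exact (Subgroup.coe_equivMapOfInjective_apply U f hf x).symm

theorem quot_iso [Finite H] [Finite G] [Fact p.Prime] (K : Subgroup H) :
    Nonempty (↥(K.map f) ⧸ Cfsg.pCore p ↥(K.map f) ≃* ↥K ⧸ Cfsg.pCore p ↥K) := by
  let e := K.equivMapOfInjective f hf
  have h : (Cfsg.pCore p ↥K).map e.toMonoidHom = Cfsg.pCore p ↥(K.map f) := by
    refine Subgroup.map_injective (K.map f).subtype_injective ?_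
    rw [Subgroup.map_map]
    refine (congrArg (Subgroup.map · _) ?_).trans
      ((Subgroup.map_map _ f K.subtype).symm.trans (map_pCoreOf hf K))
    ext x
    exact Subgroup.coe_equivMapOfInjective_apply K f hf x
  exact ⟨(QuotientGroup.congr _ _ e h).symm⟩

theorem acts_sl {F : Type*} [Field F] {R : Subgroup (Matrix.SpecialLinearGroup (Fin 2) F)}
    {E U U₀ : Subgroup H} (h : Cfsg.ActsAsSL2OnSection F R E U U₀) :
    Cfsg.ActsAsSL2OnSection F R (E.map f) (U.map f) (U₀.map f) := by
  obtain ⟨hEU, hle, ρ, ψ, hR, hψ, hker, hact⟩ := h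
  let eE := E.equivMapOfInjective f hf
  let eU := U.equivMapOfInjective f hf
  refine ⟨?_, Subgroup.map_mono hle, ρ.comp eE.symm.toMonoidHom, ψ.comp eU.symm.toMonoidHom,
    ?_, hψ.comp eU.symm.surjective, fun u => ?_, fun g u => ?_⟩
  · rintro _ ⟨k, hk, rfl⟩
    exact CfsgLib.PushUpB.Tp.map_normalizer_le f U (mem_map_of_mem f (hEU hk))
  · rw [MonoidHom.range_comp, MonoidHom.range_eq_top.2 eE.symm.surjective, ← MonoidHom.range_eq_map,
      hR]
  · obtain ⟨v, rfl⟩ := eU.surjective u
    show ψ (eU.symm (eU v)) = 1 ↔ _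
    rw [eU.symm_apply_apply, hker, Subgroup.coe_equivMapOfInjective_apply]
    exact ⟨fun hv => mem_map_of_mem f hv, fun ⟨x, hx, e⟩ => hf e ▸ hx⟩
  · obtain ⟨a, rfl⟩ := eE.surjective g
    obtain ⟨v, rfl⟩ := eU.surjective u
    obtain ⟨w, hw, hww⟩ := hact a v
    refine ⟨eU w, ?_, ?_⟩
    · simp only [eU, eE, Subgroup.coe_equivMapOfInjective_apply, hw, map_mul, map_inv]
    · show Multiplicative.toAdd (ψ (eU.symm (eU w))) =
        ((ρ (eE.symm (eE a)) : Matrix.SpecialLinearGroup (Fin 2) F) : Matrix (Fin 2) (Fin 2) F).mulVec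
          (Multiplicative.toAdd (ψ (eU.symm (eU v))))
      rw [eU.symm_apply_apply, eU.symm_apply_apply, eE.symm_apply_apply]
      exact hww

end CfsgLib.PushUpB.Tp
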