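import Cfsg.Agent.PushUpB.KernelTwo
import Cfsg.Agent.PushUpB.Transport
import Cfsg.Agent.LocalB.BlockTransport

/-!
Pushing up: the candidates for the blocks.
-/

set_option autoImplicit false
set_option linter.style.haveILetI false
set_option linter.unusedSectionVars false

namespace CfsgLib.PushUpB

open Subgroup Matrix CfsgLib.PMinFF CfsgLib.OffGen CfsgLib.BlockPermCombi
open scoped commutatorElement

universe u

variable {G : Type u} [Group G] [Finite G] {p : ℕ} [Fact p.Prime] {T : Sylow p G} {M : Subgroup G}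
  {P : Type u} [Group P] [Finite P] {π : G →* P} {W : Type u} [AddCommGroup W] [Finite W]
  [DistribMulAction P W] {e : W ≃ Vo p G} {T' : Sylow p P} {𝓔 : Set (Subgroup P)}
  {E E' : Subgroup P} {F : Type} [Field F] [Fintype F]

theorem pResidualOf_idem (D : Subgroup G) :
    Cfsg.pResidualOf p (Cfsg.pResidualOf p D) = Cfsg.pResidualOf p D :=
  le_antisymm (map_subtype_le _) (CfsgLib.WeakFactor.pResidualOf_le fun _ hx ho =>
    CfsgLib.WeakFactor.mem_pResidualOf (CfsgLib.WeakFactor.mem_pResidualOf hx ho) ho)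

/-- The preimage of a block in `⟨B(T)^G⟩`. -/
def dom (T : Sylow p G) (π : G →* P) (E : Subgroup P) : Subgroup G :=
  E.comap π ⊓ Lt p (T : Subgroup G)

/-- The block of `G` over a block of the quotient. -/
def blG (T : Sylow p G) (π : G →* P) (E : Subgroup P) : Subgroup G :=
  Cfsg.pResidualOf p (dom T π E)

/-- The blocks of `G`. -/
def bset (T : Sylow p G) (π : G →* P) (𝓔 : Set (Subgroup P)) : Set (Subgroup G) :=
  blG T π '' 𝓔

omit [Finite P] in
theorem blG_le_dom : blG T π E ≤ dom T π E := map_subtype_le _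

omit [Finite P] in
theorem dom_le_Lt : dom T π E ≤ Lt p (T : Subgroup G) := inf_le_right

omit [Finite P] in
theorem blG_le_Lt : blG T π E ≤ Lt p (T : Subgroup G) := blG_le_dom.trans dom_le_Lt

omit [Finite P] in
theorem mem_dom {x : G} : x ∈ dom T π E ↔ π x ∈ E ∧ x ∈ Lt p (T : Subgroup G) := Iff.rfl

namespace PU

variable (D : PU T M π e T' 𝓔)
include D

/-- A piece in every block. -/
theorem exists_piece (hE : E ∈ 𝓔) :
    ∃ (E' : Subgroup P) (_ : E' ≤ E) (F : Type) (_ : Field F) (_ : Fintype F)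
      (_ : Loc W T' (M.map π) 𝓔 (Jb T π) E' F) (X : Subgroup G), LX T π E' X := by
  rcases D.blk.nat E hE with h | ⟨hP, hI, hd⟩
  · obtain ⟨F, iF, iFt, ⟨Λ⟩⟩ := D.loc_sl hE h
    obtain ⟨X, hX⟩ := D.exists_LX Λ
    exact ⟨E, le_rfl, F, iF, iFt, Λ, X, hX⟩
  · obtain ⟨N, ⟨Y⟩⟩ := exists_pmd D.blk hE hP hI hd
    obtain ⟨-, hcov, -⟩ := D.pmd_swaps hE Y
    obtain ⟨a, ha, -⟩ := exists_third (show 3 ≤ N by
      rw [Y.hN]
      have := Nat.pow_le_pow_right (show 1 ≤ 2 by norm_num) Y.hn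
      omega) Y.c Y.c
    obtain ⟨b, hab, k, hk, ek⟩ := hcov a ha
    obtain ⟨ι, -, -, -, F, iF, iFt, -, ⟨Λ⟩⟩ := D.loc_perm hE Y hab ⟨k, hk, ek, a, b, hab, rfl⟩
    obtain ⟨X, hX⟩ := D.exists_LX Λ
    exact ⟨_, map_subtype_le _, F, iF, iFt, Λ, X, hX⟩

/-- The kernel of the projection on `⟨B(T)^G⟩`. -/
theorem Lt_inf_kerπ : Lt p (T : Subgroup G) ⊓ π.ker = Qz p (T : Subgroup G) := by
  obtain ⟨E, hE⟩ := D.blk.nonempty
  obtain ⟨E', -, F, iF, iFt, Λ, X, hX⟩ := D.exists_piece hE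
  obtain ⟨S, M₀, hS, hU⟩ := D.exists_pc Λ hX
  exact D.Km_eq Λ hX hS hU

theorem mem_Qz_of_ker {x : G} (hx : x ∈ Lt p (T : Subgroup G)) (h : π x = 1) :
    x ∈ Qz p (T : Subgroup G) :=
  D.Lt_inf_kerπ.le ⟨hx, h⟩

theorem Qz_le_dom : Qz p (T : Subgroup G) ≤ dom T π E := fun _ hz =>
  ⟨mem_comap.2 ((D.eq_one (D.Q_le_ker hz.1)).symm ▸ E.one_mem), (le_sup_right : _ ≤ Lt p (T : Subgroup G)) hz⟩

theorem map_dom (hE : E ∈ 𝓔) : (dom T π E).map π = E := by
  refine le_antisymm (Subgroup.map_le_iff_le_comap.2 inf_le_left) fun z hz => ?_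
  obtain ⟨g, hg, rfl⟩ := D.map_Lt.ge (le_sSup hE hz)
  exact ⟨g, ⟨hz, hg⟩, rfl⟩

theorem Lt_le_normalizer_dom (hE : E ∈ 𝓔) :
    Lt p (T : Subgroup G) ≤ normalizer (dom T π E : Set G) := fun g hg => by
  refine mem_normalizer_fintype fun x hx => ⟨?_, (D.Lt_normal).conj_mem x hx.2 g⟩
  show π (g * x * g⁻¹) ∈ E
  rw [map_mul, map_mul, map_inv]
  exact (mem_normalizer_iff.1 (N_le_normalizer D.blk hE (D.map_Lt.le ⟨g, hg, rfl⟩)) _).1 hx.1

theorem Lt_le_normalizer_blG (hE : E ∈ 𝓔) :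
    Lt p (T : Subgroup G) ≤ normalizer (blG T π E : Set G) :=
  (D.Lt_le_normalizer_dom hE).trans (CfsgLib.WeakFactor.normalizer_le_normalizer_pResidualOf _)

theorem cj_blG_mem (hE : E ∈ 𝓔) (g : G) : cj g (blG T π E) ∈ bset T π 𝓔 := by
  haveI := D.Lt_normal
  refine ⟨cj (π g) E, ?_, ?_⟩
  · haveI := D.blk.normal
    obtain ⟨n, hn, t, ht, hnt⟩ := mem_sup_of_normal_left.1 (D.blk.top.ge (mem_top (π g)))
    rw [← hnt, cj_mul]
    rw [show cj n (cj t E) = cj t E from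
      mem_normalizer_iff_cj.1 (N_le_normalizer D.blk (D.blk.inv E hE t ht) hn)]
    exact D.blk.inv E hE t ht
  · refine (congrArg (Cfsg.pResidualOf p) ?_).trans
      (CfsgLib.BlockTransport.cj_pResidualOf g (dom T π E)).symm
    show dom T π (cj (π g) E) = cj g (dom T π E)
    ext x
    rw [mem_cj, mem_dom, mem_dom, map_mul, map_mul, map_inv, mem_cj]
    refine and_congr Iff.rfl ⟨fun h => ?_, fun h => ?_⟩
    · simpa using (D.Lt_normal).conj_mem x h g⁻¹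
    · simpa [mul_assoc] using (D.Lt_normal).conj_mem _ h g

theorem ex_le_blG (Λ : Loc W T' (M.map π) 𝓔 (Jb T π) E' F) {X : Subgroup G} (hX : LX T π E' X)
    (hle : E' ≤ E) : ex (p := p) X ≤ blG T π E := by
  refine CfsgLib.WeakFactor.pResidualOf_le fun x hx ho => ?_
  refine CfsgLib.WeakFactor.mem_pResidualOf ⟨hle ?_, hX.le_L hx⟩ ho
  exact D.res_image Λ hX (g := ⟨x, hx⟩)
    (PResidual.mem_pResidual p (by rwa [← Subgroup.orderOf_coe]))

theorem LX_eq (Λ : Loc W T' (M.map π) 𝓔 (Jb T π) E' F) {X : Subgroup G} (hX : LX T π E' X)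
    {x : G} (hxL : x ∈ Lt p (T : Subgroup G)) (hx : π x ∈ E' ⊔ Jb T π) : x ∈ X := by
  obtain ⟨y, hy, hye⟩ := hX.image.ge hx
  have hk : y⁻¹ * x ∈ Qz p (T : Subgroup G) :=
    D.mem_Qz_of_ker (mul_mem (inv_mem (hX.le_L hy)) hxL)
      (by rw [map_mul, map_inv, hye, inv_mul_cancel])
  have := X.mul_mem hy (D.Qz_le_X Λ hX hk)
  rwa [mul_inv_cancel_left] at this

theorem blG_not_le_M (hE : E ∈ 𝓔) : ¬ blG T π E ≤ M := fun h => by
  obtain ⟨E', hle, F, iF, iFt, Λ, X, hX⟩ := D.exists_piece hE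
  obtain ⟨S, M₀, hS, hU⟩ := D.exists_pc Λ hX
  refine D.LX_not_le Λ hX fun x hx => ?_
  have h1 : (Cfsg.pResidual p ↥X ⊔ (S : Subgroup ↥X)).map X.subtype ≤ M := by
    rw [Subgroup.map_sup]
    refine sup_le ((D.ex_le_blG Λ hX hle).trans h) ?_
    rintro _ ⟨b, hb, rfl⟩
    rw [hS] at hb
    exact D.hover.1 (mem_subgroupOf.1 hb).1
  exact h1 ⟨⟨x, hx⟩, (Piece.PC.res_sup (S := S)).ge (mem_top _), rfl⟩

theorem T_le_centralizer_Z :
    (T : Subgroup G) ≤ centralizer (Cfsg.omegaOneCenter p (T : Subgroup G) : Set G) := fun t ht =>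
  mem_centralizer_iff.2 fun _ hz => ((mem_omegaOneCenter hz).2.1 t ht).symm

omit D in
theorem centralizer_Z_le_cStar : centralizer (Cfsg.omegaOneCenter p (T : Subgroup G) : Set G) ≤
    Cfsg.cStarOf p (T : Subgroup G) := le_sup_left

theorem T_le_cStar : (T : Subgroup G) ≤ Cfsg.cStarOf p (T : Subgroup G) :=
  D.T_le_centralizer_Z.trans le_sup_left

theorem blG_com_Z (hE : E ∈ 𝓔) : ⁅blG T π E, Cfsg.omegaOneCenter p (T : Subgroup G)⁆ ≠ ⊥ :=
  fun h => D.blG_not_le_M hE (((commutator_eq_bot_iff_le_centralizer.1 h).trans le_sup_left).trans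
    D.cstar)

theorem B_ne_bot : Cfsg.baumannSubgroupOf p (T : Subgroup G) ≠ ⊥ := fun h => by
  obtain ⟨E, hE⟩ := D.blk.nonempty
  refine D.blG_com_Z hE (le_bot_iff.1 ?_)
  have hZ : Cfsg.omegaOneCenter p (T : Subgroup G) = ⊥ :=
    le_bot_iff.1 (((Z_le_Vo T D.hG).trans (D.V_le_Qz.trans inf_le_right)).trans h.le)
  rw [hZ, commutator_bot_right]

theorem normalizer_B_le_cStar :
    normalizer (Cfsg.baumannSubgroupOf p (T : Subgroup G) : Set G) ≤
      Cfsg.cStarOf p (T : Subgroup G) :=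
  le_sup_of_le_right (le_iSup_of_le ⟨_, le_rfl, D.B_ne_bot, by
    rw [Subgroup.subgroupOf_self]; infer_instance⟩ le_rfl)

theorem sSup_bset_normal : (sSup (bset T π 𝓔)).Normal := by
  refine normalizer_eq_top_iff.1 (top_le_iff.1 fun g _ => mem_normalizer_of_le ?_)
  rw [cj_le_iff, sSup_le_iff]
  rintro _ ⟨E, hE, rfl⟩
  rw [← cj_le_iff]
  exact le_sSup (D.cj_blG_mem hE g)

theorem coprime_mem_bset {g : G} (hg : (orderOf g).Coprime p) : g ∈ sSup (bset T π 𝓔) := by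
  obtain ⟨E, hE⟩ := D.blk.nonempty
  obtain ⟨E', hle, F, iF, iFt, Λ, X, hX⟩ := D.exists_piece hE
  haveI := D.sSup_bset_normal
  exact normalClosure_le_normal ((D.ex_le_blG Λ hX hle).trans
      (le_sSup (show blG T π E ∈ bset T π 𝓔 from ⟨E, hE, rfl⟩)))
    (D.coprime_mem_closure Λ hX hg)

theorem bset_sup_T : sSup (bset T π 𝓔) ⊔ (T : Subgroup G) = ⊤ := by
  rw [← index_eq_one]
  by_contra h
  obtain ⟨r, hr, hrX⟩ := Nat.exists_prime_and_dvd h
  rcases eq_or_ne r p with rfl | hne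
  · exact T.not_dvd_index (hrX.trans (index_dvd_of_le le_sup_right))
  haveI : Fact r.Prime := ⟨hr⟩
  have hsub : ∀ S : Sylow r G, (S : Subgroup G) ≤ sSup (bset T π 𝓔) ⊔ (T : Subgroup G) :=
    fun S x hx => mem_sup_left (D.coprime_mem_bset (by
      obtain ⟨k, hk⟩ := IsPGroup.iff_orderOf.1 S.isPGroup' ⟨x, hx⟩
      rw [Subgroup.orderOf_mk] at hk
      rw [hk]
      exact ((Nat.coprime_primes hr Fact.out).2 hne).pow_left k))
  exact (default : Sylow r G).not_dvd_index (hrX.trans (index_dvd_of_le (hsub _)))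

end PU

end CfsgLib.PushUpB
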