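import Mathlib.LinearAlgebra.Span.Basic
import Mathlib.Data.ZMod.Basic
import Mathlib.Algebra.Module.ZMod
import Mathlib.Tactic

/-!
Pushing up: the quotient of two transvections in characteristic three.
-/

set_option autoImplicit false

namespace CfsgLib.PushUpB

variable {V : Type*} [AddCommGroup V] [Module (ZMod 3) V]

/-- Two transvections `1 + f ⊗ l`, `1 + g ⊗ m` over three elements: their quotient has order
dividing three, or a power of it is `-1` on the plane and commutes with the first. -/
theorem transv_pair (f g : V →ₗ[ZMod 3] ZMod 3) (l m : V) (X e : V → V) (hfl : f l = 0)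
    (hgm : g m = 0) (hX : ∀ v, X v = v + f v • l)
    (he : ∀ v, e v = (v - g v • m) + f (v - g v • m) • l) :
    (∀ v, e (e (e v)) = v) ∨
      (f m ≠ 0 ∧ ∃ n : ℕ, (∀ v, X (e^[n] v) = e^[n] (X v)) ∧ f (e^[n] m - m) ≠ 0) := by
  set s := f m
  set t := g l
  have he' : ∀ v, e v = v + (f v - g v * s) • l - g v • m := fun v => by
    rw [he, map_sub, map_smul, smul_eq_mul]; abel
  have key : ∀ (v : V) (a b : ZMod 3), e (v + a • l - b • m) =
      v + (a + (f v - b * s) - (g v + a * t) * s) • l - (b + (g v + a * t)) • m := by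
    intro v a b
    rw [he', map_sub, map_sub, map_add, map_add, map_smul, map_smul, map_smul, map_smul, hfl, hgm]
    simp only [smul_eq_mul, mul_zero, add_zero, sub_zero, add_smul, sub_smul]
    abel
  let st : ZMod 3 → ZMod 3 → ZMod 3 → ZMod 3 → ZMod 3 × ZMod 3 → ZMod 3 × ZMod 3 :=
    fun A B s t c => (c.1 + (A - c.2 * s) - (B + c.1 * t) * s, c.2 + (B + c.1 * t))
  have hiter : ∀ (n : ℕ) (v : V), e^[n] v =
      v + ((st (f v) (g v) s t)^[n] (0, 0)).1 • l - ((st (f v) (g v) s t)^[n] (0, 0)).2 • m := by
    intro n v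
    induction n with
    | zero => simp
    | succ n ih =>
      rw [Function.iterate_succ_apply', ih, key, Function.iterate_succ_apply']
  by_cases hst : s * t = 0
  · refine Or.inl fun v => ?_
    show e^[3] v = v
    have h : ∀ A B s t : ZMod 3, s * t = 0 → (st A B s t)^[3] (0, 0) = (0, 0) := by decide
    rw [hiter, h _ _ _ _ hst]
    simp
  · have hs : s ≠ 0 := left_ne_zero_of_mul hst
    have ht : t ≠ 0 := right_ne_zero_of_mul hst
    refine Or.inr ⟨hs, ?_⟩
    -- the power acting as `-1` on the plane
    suffices h : ∃ n : ℕ, ∀ v, e^[n] v = v + (t * g v) • l - (-(s * f v)) • m by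
      obtain ⟨n, hn⟩ := h
      refine ⟨n, fun v => ?_, ?_⟩
      · rw [hn, hn, hX, hX]
        simp only [map_add, map_sub, map_smul, hfl, smul_eq_mul, mul_zero, add_zero]
        have e1 : ∀ A s : ZMod 3, s ≠ 0 → A - -(s * A) * s = -A := by decide
        have e2 : ∀ A B t : ZMod 3, t ≠ 0 → t * (B + A * t) = t * B + A := by decide
        rw [e1 (f v) s hs, e2 (f v) (g v) t ht, add_smul, neg_smul (f v)]
        have h5 : f v • l + f v • l + f v • l = 0 := by
          rw [← add_smul, ← add_smul, show f v + f v + f v = 0 from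
            (by decide : ∀ a : ZMod 3, a + a + a = 0) _, zero_smul]
        rw [← sub_eq_zero, ← neg_eq_zero, ← h5]
        abel
      · rw [hn]
        simp only [map_add, map_sub, map_smul, hfl, hgm, smul_eq_mul, mul_zero, add_zero]
        intro h
        exact hs ((by decide : ∀ a : ZMod 3, a - -(a * a) * a - a = 0 → a = 0) s h)
    rcases (by decide : ∀ a : ZMod 3, a ≠ 0 → a = 1 ∨ a = -1) _ hst with h | h
    · refine ⟨3, fun v => ?_⟩
      have hc : ∀ A B s t : ZMod 3, s * t = 1 →
          (st A B s t)^[3] (0, 0) = (t * B, -(s * A)) := by decide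
      rw [hiter, hc _ _ _ _ h]
    · refine ⟨2, fun v => ?_⟩
      have hc : ∀ A B s t : ZMod 3, s * t = -1 →
          (st A B s t)^[2] (0, 0) = (t * B, -(s * A)) := by decide
      rw [hiter, hc _ _ _ _ h]

end CfsgLib.PushUpB
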