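import Cfsg.Agent.PushUpB.PieceG
import Cfsg.Agent.PushUpB.Transv
import Cfsg.Agent.Signalizer.Basic

/-!
Pushing up: the kernel of the subgroup generated by the conjugates of `B(T)` is a `p`-group.
-/

set_option autoImplicit false
set_option linter.style.haveILetI false
set_option linter.unusedSectionVars false

namespace CfsgLib.PushUpB

open Subgroup Matrix CfsgLib.PMinFF CfsgLib.OffGen
open CfsgLib.SL2Pair (up low up_coe low_coe)
open scoped commutatorElement

universe u

variable {G : Type u} [Group G] [Finite G] {p : ℕ} [Fact p.Prime] {T : Sylow p G} {M : Subgroup G}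
  {P : Type u} [Group P] [Finite P] {π : G →* P} {W : Type u} [AddCommGroup W] [Finite W]
  [DistribMulAction P W] {e : W ≃ Vo p G} {T' : Sylow p P} {𝓔 : Set (Subgroup P)}
  {E' : Subgroup P} {F : Type} [Field F] [Fintype F]

namespace PU

variable (D : PU T M π e T' 𝓔)

/-- `O^p` of a piece, in the whole group. -/
abbrev ex (X : Subgroup G) : Subgroup G := (Cfsg.pResidual p ↥X).map X.subtype

/-- Elements of `K` moving `O_p ∩ B` into the axis of a piece, closed under conjugation. -/
abbrev Km : Subgroup G := Lt p (T : Subgroup G) ⊓ π.ker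

section

include D

theorem Km_normal : (Km (p := p) (T := T) (π := π)).Normal := by
  haveI := D.Lt_normal
  exact Subgroup.normal_inf_normal _ _

theorem Qz_le_core : Qz p (T : Subgroup G) ≤ Cfsg.pCore p G := inf_le_left

theorem Qz_le_Lt : Qz p (T : Subgroup G) ≤ Lt p (T : Subgroup G) := le_sup_right

theorem Qz_le_Km : Qz p (T : Subgroup G) ≤ Km (p := p) (T := T) (π := π) :=
  le_inf D.Qz_le_Lt (D.Qz_le_core.trans D.Q_le_ker)

variable (Λ : Loc W T' (M.map π) 𝓔 (Jb T π) E' F) {X : Subgroup G} (hX : LX T π E' X)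
  {S : Sylow p ↥X}
  (hS : (S : Subgroup ↥X) = (Cfsg.baumannSubgroupOf p (T : Subgroup G)).subgroupOf X)
include Λ hX

/-- The `p'`-elements lie in the normal closure of the residual of a piece. -/
theorem coprime_mem_closure {g : G} (hg : (orderOf g).Coprime p) :
    g ∈ normalClosure ((ex (p := p) X : Subgroup G) : Set G) := by
  set N := normalClosure ((ex (p := p) X : Subgroup G) : Set G)
  refine PushL2.mem_of_coprime_of_sup_eq_top T ?_ hg
  rcases D.hover.2.2 (N ⊔ (T : Subgroup G)) le_sup_right with h | h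
  · exact h
  · refine absurd (fun x hx => ?_) (D.LX_not_le Λ hX)
    obtain ⟨S, M₀, hS, -⟩ := D.exists_pc Λ hX
    have htop : Cfsg.pResidual p ↥X ⊔ (S : Subgroup ↥X) = ⊤ := Piece.PC.res_sup
    have h1 : (Cfsg.pResidual p ↥X ⊔ (S : Subgroup ↥X)).map X.subtype ≤ M := by
      rw [Subgroup.map_sup]
      refine sup_le ((fun y hy => h (mem_sup_left (subset_normalClosure hy))) : _ ≤ M) ?_
      rintro _ ⟨b, hb, rfl⟩
      rw [hS] at hb
      exact h (mem_sup_right (mem_subgroupOf.1 hb).1)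
    exact h1 ⟨⟨x, hx⟩, htop ▸ mem_top _, rfl⟩

/-- What the residual of a piece moves into `Ω₁Z(O_p)`, so does every `p'`-element. -/
theorem coprime_move {D1 : Subgroup G} [D1.Normal]
    (h : ∀ g ∈ ex (p := p) X, ∀ z ∈ D1, g * z * g⁻¹ * z⁻¹ ∈ Vo p G) {g z : G}
    (hg : (orderOf g).Coprime p) (hz : z ∈ D1) : g * z * g⁻¹ * z⁻¹ ∈ Vo p G := by
  haveI := Vo_normal (G := G) (p := p)
  have hle : normalClosure ((ex (p := p) X : Subgroup G) : Set G) ≤
      PushL2.kerOf D1 (Vo p G) :=
    normalClosure_le_normal fun g hg => PushL2.mem_kerOf.2 (h g hg)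
  exact PushL2.mem_kerOf.1 (hle (D.coprime_mem_closure Λ hX hg)) z hz

omit Λ hX in
/-- A `p'`-element of the kernel moving `x` into `Ω₁Z(O_p)` fixes it. -/
theorem ker_shift {k x : G} (hk : k ∈ π.ker) (hko : (orderOf k).Coprime p)
    (h : k * x * k⁻¹ * x⁻¹ ∈ Vo p G) : k * x = x * k :=
  PushL2.commute_of_shift' hko rfl (D.V_le_Q h) (D.ker_commute hk h)

/-- `O_p ∩ B(T)` lies in the core of a piece. -/
theorem Qz_mem_core {z : G} (hz : z ∈ Qz p (T : Subgroup G)) (hzX : z ∈ X) :
    (⟨z, hzX⟩ : ↥X) ∈ Cfsg.pCore p ↥X := by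
  haveI := D.Qz_normal
  exact CfsgLib.Solvable.le_pCore p
    (Subgroup.Normal.comap (inferInstance : (Qz p (T : Subgroup G)).Normal) X.subtype)
    ((T.isPGroup'.to_le (inf_le_left.trans D.Q_le_T)).comap_subtype) hz

theorem Qz_le_X : Qz p (T : Subgroup G) ≤ X := inf_le_right.trans hX.B_le

/-- The kernel is trivial modulo `O_p ∩ B` next to a class two piece. -/
theorem one_commute {M₀ : Subgroup ↥X}
    (hU : Piece.PC p S (Nat.card F) M₀ ((D.wc E').subgroupOf X)) (hT : Piece.Twisted p S)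
    {k z : G} (hk : k ∈ π.ker) (hko : (orderOf k).Coprime p) (hz : z ∈ Qz p (T : Subgroup G)) :
    k * z = z * k := by
  haveI := D.Qz_normal
  refine D.ker_shift hk hko (D.coprime_move Λ hX (D1 := Qz p (T : Subgroup G)) ?_ hko hz)
  rintro _ ⟨g, hg, rfl⟩ z hz
  have h1 := hU.move_le hT hg (D.Qz_mem_core Λ hX hz (D.Qz_le_X Λ hX hz))
  exact D.wc_le_Vo E' (mem_subgroupOf.1 h1)

end

end PU

end CfsgLib.PushUpB
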