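import Cfsg.Agent.PushUpB.Kernel

/-!
Pushing up: the kernel next to a class three piece.
-/

set_option autoImplicit false
set_option linter.style.haveILetI false
set_option linter.unusedSectionVars false

namespace CfsgLib.PushUpB

open Subgroup Matrix CfsgLib.PMinFF CfsgLib.OffGen
open CfsgLib.SL2Pair (up low up_coe low_coe)
open scoped commutatorElement

universe u

variable {G : Type u} [Group G] [Finite G] {p : ℕ} [Fact p.Prime] {T : Sylow p G} {M : Subgroup G}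
  {P : Type u} [Group P] [Finite P] {π : G →* P} {W : Type u} [AddCommGroup W] [Finite W]
  [DistribMulAction P W] {e : W ≃ Vo p G} {T' : Sylow p P} {𝓔 : Set (Subgroup P)}
  {E' : Subgroup P} {F : Type} [Field F] [Fintype F]

namespace PU

variable (D : PU T M π e T' 𝓔)
variable (Λ : Loc W T' (M.map π) 𝓔 (Jb T π) E' F) {X : Subgroup G} (hX : LX T π E' X)
  {S : Sylow p ↥X}
  (hS : (S : Subgroup ↥X) = (Cfsg.baumannSubgroupOf p (T : Subgroup G)).subgroupOf X)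
include D Λ hX

/-- The image of the residual of a piece. -/
theorem res_image {g : ↥X} (hg : g ∈ Cfsg.pResidual p ↥X) : π (g : G) ∈ E' := by
  haveI := Λ.sld.charP
  revert g
  suffices h : Cfsg.pResidual p ↥X ≤ E'.comap (π.comp X.subtype) from fun {g} hg => h hg
  refine (closure_le _).2 fun g hg => ?_
  obtain ⟨a, ha, r, hrJ, hrc, hr, har⟩ := Λ.mem_split (hX.image.le ⟨g.1, g.2, rfl⟩)
  have hrp : ∃ j, r ^ p ^ j = 1 := by
    obtain ⟨j, hj⟩ := T'.isPGroup' ⟨r, D.Jb_le_T hrJ⟩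
    exact ⟨j, congrArg Subtype.val hj⟩
  obtain ⟨j, hj⟩ := hrp
  set n := orderOf g
  have hn : (π (g : G)) ^ n = 1 := by
    rw [← map_pow, ← Subgroup.coe_pow, pow_orderOf_eq_one, Subgroup.coe_one, map_one]
  rw [← har, (show Commute a r from (hrc a ha).symm).mul_pow] at hn
  have hrn : r ^ n ∈ E' := by
    rw [← inv_eq_of_mul_eq_one_right hn]
    exact inv_mem (pow_mem ha n)
  have h1 : Λ.sld.ρ ⟨r ^ n, hrn⟩ = 1 := Λ.mat_unique fun v => by
    have h2 := Λ.sld.equi ⟨r ^ n, hrn⟩ v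
    have h3 : Λ.sld.ψ ((r ^ n) • v) = Λ.sld.ψ v :=
      sub_eq_zero.1 ((map_sub Λ.sld.ψ _ _).symm.trans
        ((Λ.sld.ker _).2 ((modFix W E').pow_mem hr n v)))
    rw [← h2, h3, Matrix.SpecialLinearGroup.coe_one, Matrix.one_mulVec]
  have hr1 : r ^ n = 1 := congrArg Subtype.val ((MulEquiv.map_eq_one_iff _).1 h1)
  have hr0 : r = 1 := orderOf_eq_one_iff.1 (Nat.eq_one_of_dvd_coprimes
    (Nat.Coprime.pow_right j hg) (orderOf_dvd_of_pow_eq_one hr1) (orderOf_dvd_of_pow_eq_one hj))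
  show π (g : G) ∈ E'
  rw [← har, hr0, mul_one]
  exact ha

/-- The image of the core of a piece. -/
theorem core_image {x : ↥X} (hx : x ∈ Cfsg.pCore p ↥X) {a : P} (ha : a ∈ E') :
    π (x : G) * a = a * π (x : G) := by
  obtain ⟨b, hb, r, -, hrc, hr, har⟩ := Λ.mem_split (hX.image.le ⟨x.1, x.2, rfl⟩)
  have h1 := Λ.proj_split hX.image x hb hr har
  rw [D.core_proj Λ hX hx, eq_comm, MulEquiv.map_eq_one_iff] at h1
  have hb1 : b = 1 := congrArg Subtype.val h1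
  rw [← har, hb1, one_mul]
  exact hrc a ha

include hS in
theorem core_le_B {x : ↥X} (hx : x ∈ Cfsg.pCore p ↥X) :
    (x : G) ∈ Cfsg.baumannSubgroupOf p (T : Subgroup G) :=
  mem_subgroupOf.1 (hS ▸ CfsgLib.Fitting.pCore_le_sylow S hx)

include hS in
theorem u2_le_Qz {x : ↥X} (hx : x ∈ Piece.u2 p ↥X) : (x : G) ∈ Qz p (T : Subgroup G) := by
  haveI : (Cfsg.pCore p ↥X).Normal := CfsgLib.Solvable.pCore_normal p
  have hB := D.core_le_B Λ hX hS
    ((commutator_le_left (Cfsg.pCore p ↥X) (Cfsg.pResidual p ↥X)) hx)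
  rw [← D.Lt_inf_ker]
  refine ⟨⟨hB.1, hX.le_L x.2⟩, ?_⟩
  have hle : Piece.u2 p ↥X ≤ π.ker.comap X.subtype := commutator_le.2 fun r hr g hg => by
    show π ((⁅r, g⁆ : ↥X) : G) = 1
    rw [commutatorElement_def]
    simp only [Subgroup.coe_mul, Subgroup.coe_inv, map_mul, map_inv]
    rw [D.core_image Λ hX hr (D.res_image Λ hX hg)]
    group
  exact hle hx

/-- A power of order prime to `p`. -/
theorem exists_coprime_pow (x : G) : ∃ a : ℕ, (orderOf (x ^ p ^ a)).Coprime p := by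
  refine ⟨(orderOf x).factorization p, ?_⟩
  rw [orderOf_pow_of_dvd (pow_ne_zero _ (Fact.out : p.Prime).ne_zero) (Nat.ordProj_dvd _ _)]
  exact (Nat.coprime_ordCompl Fact.out (orderOf_pos x).ne').symm

section Two

variable {M₀ E0 : Subgroup ↥X} {α : ↥(S : Subgroup ↥X) ≃* ↥(S : Subgroup ↥X)} {h : ↥X}
  (tw : Piece.Tw p S (Nat.card F) M₀ ((D.wc E').subgroupOf X) E0 α h)
  (φ : PushL2.Nat2 p S F (PushL2.omega p ↥X) (PushL2.zs S) (PushL2.z0 p ↥X))
  [hn0 : (Piece.c0 α h).Normal]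
  (φ2 : PushL2.Nat2 p S F (Cfsg.pCore p ↥X) (Piece.c1 α) (Piece.c0 α h))

/-- `C₁` of the piece, in the whole group. -/
abbrev c1g (α : ↥(S : Subgroup ↥X) ≃* ↥(S : Subgroup ↥X)) : Subgroup G :=
  (Piece.c1 α).map X.subtype

/-- The largest normal subgroup of `G` in `O_p ∩ B(T) ∩ C₁`. -/
abbrev cn (T : Sylow p G) (α : ↥(S : Subgroup ↥X) ≃* ↥(S : Subgroup ↥X)) : Subgroup G :=
  Qz p (T : Subgroup G) ⊓ (c1g α).normalCore

omit Λ hX in
theorem cn_normal : (cn T α).Normal := by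
  haveI := D.Qz_normal
  exact Subgroup.normal_inf_normal _ _

omit D Λ hX in
theorem mem_c1g {w : G} (hwX : w ∈ X) : w ∈ c1g α ↔ (⟨w, hwX⟩ : ↥X) ∈ Piece.c1 α :=
  ⟨fun ⟨x, hx, hxw⟩ => by rwa [show (⟨w, hwX⟩ : ↥X) = x from Subtype.ext hxw.symm],
    fun h => ⟨_, h, rfl⟩⟩

omit D Λ hX in
theorem mem_cn {w : G} (hw : w ∈ Qz p (T : Subgroup G)) (h : ∀ g : G, g * w * g⁻¹ ∈ c1g α) :
    w ∈ cn T α := ⟨hw, h⟩

omit Λ hX in
theorem cn_le_c1g : cn T α ≤ c1g α := inf_le_right.trans (normalCore_le _)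

include tw in
theorem cn_c0 {w : G} (hw : w ∈ cn T α) (hwX : w ∈ X) : (⟨w, hwX⟩ : ↥X) ∈ Piece.c0 α h := by
  refine tw.mid.lines.inf_conj tw.hh ⟨(mem_c1g hwX).1 (cn_le_c1g D hw), ?_⟩
  have h1 : (h : G)⁻¹ * w * (h : G) ∈ c1g α := cn_le_c1g D (by
    simpa using (D.cn_normal).conj_mem w hw (h : G)⁻¹)
  have hX' : (h : G)⁻¹ * w * (h : G) ∈ X :=
    X.mul_mem (X.mul_mem (X.inv_mem h.2) hwX) h.2
  refine ⟨_, (mem_c1g hX').1 h1, Subtype.ext ?_⟩
  simp only [MulEquiv.coe_toMonoidHom, MulAut.conj_apply, Subgroup.coe_mul, Subgroup.coe_inv]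
  group

include tw in
/-- An element all of whose conjugates move `O_p ∩ B` into `C₁` is trivial there. -/
theorem good_final {k z : G} (hk : k ∈ π.ker) (hko : (orderOf k).Coprime p)
    (hgood : ∀ g : G, ∀ w ∈ Qz p (T : Subgroup G),
      (g * k * g⁻¹) * w * (g * k * g⁻¹)⁻¹ * w⁻¹ ∈ c1g α)
    (hz : z ∈ Qz p (T : Subgroup G)) : k * z = z * k := by
  haveI hQn := D.Qz_normal
  haveI := D.cn_normal (α := α)
  set c := k * z * k⁻¹ * z⁻¹ with hc
  have hcQ : c ∈ Qz p (T : Subgroup G) := mul_mem (hQn.conj_mem z hz k) (inv_mem hz)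
  have hcn : c ∈ cn T α := mem_cn hcQ fun g => by
    have h1 := hgood g (g * z * g⁻¹) (hQn.conj_mem z hz g)
    rwa [show g * k * g⁻¹ * (g * z * g⁻¹) * (g * k * g⁻¹)⁻¹ * (g * z * g⁻¹)⁻¹ = g * c * g⁻¹ by
      rw [hc]; group] at h1
  have hmove : ∀ g ∈ ex (p := p) X, ∀ w ∈ cn T α, g * w * g⁻¹ * w⁻¹ ∈ Vo p G := by
    rintro _ ⟨g, hg, rfl⟩ w hw
    exact D.wc_le_Vo E' (mem_subgroupOf.1
      (tw.move0 hg (D.cn_c0 Λ hX tw hw (D.Qz_le_X Λ hX hw.1))))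
  have h2 : k * c = c * k := D.ker_shift hk hko (D.coprime_move Λ hX hmove hko hcn)
  exact PushL2.commute_of_shift' hko rfl (D.Qz_le_core hcQ) h2

include tw in
theorem commutator_cn {a b : G} (ha : a ∈ Qz p (T : Subgroup G)) (hb : b ∈ Qz p (T : Subgroup G)) :
    a * b * a⁻¹ * b⁻¹ ∈ cn T α := by
  haveI hQn := D.Qz_normal
  refine mem_cn (mul_mem (mul_mem (mul_mem ha hb) (inv_mem ha)) (inv_mem hb)) fun g => ?_
  have ha' := hQn.conj_mem a ha g
  have hb' := hQn.conj_mem b hb g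
  have hE := tw.mid.hE (tw.mid.abel _ (D.Qz_mem_core Λ hX ha' (D.Qz_le_X Λ hX ha')) _
    (D.Qz_mem_core Λ hX hb' (D.Qz_le_X Λ hX hb')))
  refine ⟨_, hE.1, ?_⟩
  show g * a * g⁻¹ * (g * b * g⁻¹) * (g * a * g⁻¹)⁻¹ * (g * b * g⁻¹)⁻¹ = _
  group

include tw in
theorem pow_cn {a : G} (ha : a ∈ Qz p (T : Subgroup G)) : a ^ p ∈ cn T α := by
  haveI hQn := D.Qz_normal
  refine mem_cn (pow_mem ha p) fun g => ?_
  have ha' := hQn.conj_mem a ha g
  have hE := tw.mid.hE (tw.mid.pow _ (D.Qz_mem_core Λ hX ha' (D.Qz_le_X Λ hX ha')))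
  refine ⟨_, hE.1, ?_⟩
  show ((⟨g * a * g⁻¹, _⟩ : ↥X) ^ p : ↥X).1 = _
  rw [Subgroup.coe_pow, conj_pow]

include tw φ φ2 hS in
theorem central_cn {a : G} (ha : a ∈ Qz p (T : Subgroup G))
    (hc : ∀ b ∈ Qz p (T : Subgroup G), b * a = a * b) : a ∈ cn T α := by
  haveI hQn := D.Qz_normal
  refine mem_cn ha fun g => ?_
  have ha' := hQn.conj_mem a ha g
  have h0 : (⟨g * a * g⁻¹, D.Qz_le_X Λ hX ha'⟩ : ↥X) ∈ Piece.c0 α h := by
    refine tw.center_le_c0 φ φ2 (D.Qz_mem_core Λ hX ha' (D.Qz_le_X Λ hX ha')) fun r hr => ?_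
    refine Subtype.ext ?_
    show (r : G) * (g * a * g⁻¹) = g * a * g⁻¹ * r
    have h1 := hc _ (hQn.conj_mem _ (D.u2_le_Qz Λ hX hS hr) g⁻¹)
    rw [inv_inv] at h1
    calc (r : G) * (g * a * g⁻¹) = g * (g⁻¹ * r * g * a) * g⁻¹ := by group
      _ = g * (a * (g⁻¹ * r * g)) * g⁻¹ := by rw [h1]
      _ = _ := by group
  exact ⟨_, h0.1, rfl⟩

include tw in
/-- The elements of the kernel trivial on `(O_p ∩ B)/Cn` lie in `O_p ∩ B`. -/
theorem gamma_ker {u : G} (hu : u ∈ Km (p := p) (T := T) (π := π))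
    (hz : ∀ z ∈ Qz p (T : Subgroup G), u * z * u⁻¹ * z⁻¹ ∈ cn T α) :
    u ∈ Qz p (T : Subgroup G) := by
  haveI := D.Qz_normal
  haveI := D.cn_normal (α := α)
  obtain ⟨a, ha⟩ := D.exists_coprime_pow Λ hX u
  set v := u ^ p ^ a with hv
  have hvK : v ∈ Km (p := p) (T := T) (π := π) := pow_mem hu _
  have hvk : v ∈ PushL2.kerOf (Qz p (T : Subgroup G)) (cn T α) :=
    pow_mem (PushL2.mem_kerOf.2 hz) _
  have hv1 : v = 1 := D.centralizer_Qz_Q Λ ha fun z hz => D.good_final Λ hX tw hvK.2 ha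
    (fun g w hw => cn_le_c1g D (PushL2.mem_kerOf.1
      ((PushL2.kerOf_normal).conj_mem v hvk g) w hw)) hz
  refine D.pGroup_ker_le (R := zpowers u) ?_ (zpowers_le.2 hu) (mem_zpowers u)
  refine IsPGroup.iff_card.2 ?_
  obtain ⟨j, -, hj⟩ := (Nat.dvd_prime_pow Fact.out).1
    (orderOf_dvd_of_pow_eq_one (hv ▸ hv1 : u ^ p ^ a = 1))
  exact ⟨j, by rw [Nat.card_zpowers, hj]⟩

/-- The elements of the kernel moving `O_p ∩ B` into `C₁`. -/
abbrev Good (T : Sylow p G) (α : ↥(S : Subgroup ↥X) ≃* ↥(S : Subgroup ↥X)) (k : G) : Prop :=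
  ∀ z ∈ Qz p (T : Subgroup G), k * z * k⁻¹ * z⁻¹ ∈ c1g α

omit Λ hX in
theorem good_mul {k l : G} (hk : Good T α k) (hl : Good T α l) : Good T α (k * l) := by
  intro z hz
  haveI hQn := D.Qz_normal
  set c := l * z * l⁻¹ * z⁻¹
  have hc : c ∈ Qz p (T : Subgroup G) := mul_mem (hQn.conj_mem z hz l) (inv_mem hz)
  rw [show k * l * z * (k * l)⁻¹ * z⁻¹ = (k * c * k⁻¹ * c⁻¹) * c * (k * z * k⁻¹ * z⁻¹) by
    simp only [c]; group]
  exact mul_mem (mul_mem (hk c hc) (hl z hz)) (hk z hz)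

omit Λ hX in
theorem good_inv {k : G} (hk : Good T α k) : Good T α k⁻¹ := by
  intro z hz
  haveI hQn := D.Qz_normal
  have h1 := inv_mem (hk (k⁻¹ * z * k) (by simpa using hQn.conj_mem z hz k⁻¹))
  rwa [show (k * (k⁻¹ * z * k) * k⁻¹ * (k⁻¹ * z * k)⁻¹)⁻¹ = k⁻¹ * z * k⁻¹⁻¹ * z⁻¹ by group] at h1

include tw φ φ2 in
/-- An element of the kernel centralising a twisted element modulo `O_p ∩ B` is good. -/
theorem good_of_centralizes {k : G} (hk : k ∈ Km (p := p) (T := T) (π := π)) {a : ↥X}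
    (ha : a ∈ PushL2.img α (PushL2.omega p ↥X))
    (hxQ : PushL2.ap α (h * a * h⁻¹) ∉ Cfsg.pCore p ↥X)
    (hc : ((PushL2.ap α (h * a * h⁻¹) : ↥X) : G)⁻¹ * (k * ((PushL2.ap α (h * a * h⁻¹) : ↥X) : G) * k⁻¹) ∈
      Qz p (T : Subgroup G)) : Good T α k := by
  intro z hz
  haveI hQn := D.Qz_normal
  set x := PushL2.ap α (h * a * h⁻¹) with hx
  set r := (x : G)⁻¹ * (k * (x : G) * k⁻¹) with hr
  have hz' : k * z * k⁻¹ ∈ Qz p (T : Subgroup G) := hQn.conj_mem z hz k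
  have hzX := D.Qz_le_X Λ hX hz
  have hz'X := D.Qz_le_X Λ hX hz'
  have hrX := D.Qz_le_X Λ hX hc
  have h1 := tw.mem_c1_of_twisted (rfl : Nat.card F = Nat.card F) φ φ2 ha hxQ
    (D.Qz_mem_core Λ hX hc hrX) (D.Qz_mem_core Λ hX hz hzX) (D.Qz_mem_core Λ hX hz' hz'X) ?_
  · exact ⟨_, h1, rfl⟩
  · intro x'
    refine Subtype.ext ?_
    have hT : ((x' * (x' * ⟨z, hzX⟩ * x'⁻¹ * (⟨z, hzX⟩ : ↥X)⁻¹) * x'⁻¹ *
        (x' * ⟨z, hzX⟩ * x'⁻¹ * (⟨z, hzX⟩ : ↥X)⁻¹)⁻¹ : ↥X) : G) ∈ Vo p G :=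
      D.wc_le_Vo E' (mem_subgroupOf.1
        (tw.twist_two φ φ2 ha hxQ (D.Qz_mem_core Λ hX hz hzX)).1)
    have hfix := D.ker_commute hk.2 hT
    simp only [Subgroup.coe_mul, Subgroup.coe_inv, show x' = x from rfl] at hfix ⊢
    rw [show (x : G) * r = k * (x : G) * k⁻¹ by rw [hr]; group]
    generalize (x : G) = y at hfix ⊢
    rw [show k * y * k⁻¹ * (k * y * k⁻¹ * (k * z * k⁻¹) * (k * y * k⁻¹)⁻¹ * (k * z * k⁻¹)⁻¹) *
      (k * y * k⁻¹)⁻¹ * (k * y * k⁻¹ * (k * z * k⁻¹) * (k * y * k⁻¹)⁻¹ * (k * z * k⁻¹)⁻¹)⁻¹ =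
      k * (y * (y * z * y⁻¹ * z⁻¹) * y⁻¹ * (y * z * y⁻¹ * z⁻¹)⁻¹) * k⁻¹ by group, hfix,
      mul_inv_cancel_right]

include tw φ φ2 in
/-- The case `q > p`. -/
theorem good_big (hq : p < Nat.card F) {k : G} (hk : k ∈ Km (p := p) (T := T) (π := π)) :
    Good T α k := by
  classical
  haveI := D.Qz_normal
  haveI := D.Km_normal
  set mkQ := QuotientGroup.mk' (Qz p (T : Subgroup G))
  set A0 := (PushL2.img α (PushL2.omega p ↥X)).map (MulAut.conj h).toMonoidHom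
  set Ax : Subgroup ↥X := PushL2.img α A0 with hAx
  set A' : Subgroup G := Ax.map X.subtype with hA'
  have hAxmem : ∀ {x}, x ∈ Ax → ∃ a ∈ PushL2.img α (PushL2.omega p ↥X),
      x = PushL2.ap α (h * a * h⁻¹) := fun hx => by
    obtain ⟨_, ⟨a, ha, rfl⟩, -, rfl⟩ := (PushL2.mem_img α).1 hx
    exact ⟨a, ha, by simp⟩
  have hcomm : ∀ x ∈ Ax, ∀ y ∈ Ax, x * y = y * x := by
    intro x hx y hy
    obtain ⟨a, ha, rfl⟩ := hAxmem hx
    obtain ⟨b, hb, rfl⟩ := hAxmem hy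
    refine PushL2.ap_comm α (tw.e_mem_S ha) (tw.e_mem_S hb) ?_
    exact ((show Commute a b from PushL2.Far.commA tw.pc.nc tw.far ha hb).map
      (MulAut.conj h).toMonoidHom).eq
  have hpow : ∀ x ∈ Ax, x ^ p = 1 := by
    intro x hx
    obtain ⟨a, ha, rfl⟩ := hAxmem hx
    rw [← PushL2.ap_pow α (tw.e_mem_S ha), conj_pow, PushL2.Far.powA tw.pc.nc tw.far ha,
      mul_one, mul_inv_cancel, PushL2.ap_one]
  have hel : Cfsg.IsElementaryAbelian p (A'.map mkQ) := by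
    refine ⟨⟨⟨fun x y => Subtype.ext ?_⟩⟩, ?_⟩
    · obtain ⟨_, ⟨a, ha, rfl⟩, hxa⟩ := x.2
      obtain ⟨_, ⟨b, hb, rfl⟩, hyb⟩ := y.2
      show (x : G ⧸ Qz p (T : Subgroup G)) * y = y * x
      rw [← hxa, ← hyb, ← map_mul, ← map_mul, ← map_mul, ← map_mul, hcomm a ha b hb]
    · rintro _ ⟨_, ⟨a, ha, rfl⟩, rfl⟩
      rw [← map_pow, ← map_pow, hpow a ha, map_one, map_one]
  set K' := (Km (p := p) (T := T) (π := π)).map mkQ
  haveI : K'.Normal := Subgroup.Normal.map inferInstance _ (QuotientGroup.mk'_surjective _)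
  have hK' : ¬ p ∣ Nat.card K' := by
    intro hd
    obtain ⟨⟨ub, u, hu, rfl⟩, hord⟩ := exists_prime_orderOf_dvd_card' p hd
    have hord' : orderOf (mkQ u) = p := (Subgroup.orderOf_mk _ _).symm.trans hord
    have hup : u ^ p ∈ Qz p (T : Subgroup G) :=
      (QuotientGroup.eq_one_iff _).1 ((map_pow mkQ u p).trans
        ((congrArg (mkQ u ^ ·) hord'.symm).trans (pow_orderOf_eq_one (mkQ u))))
    obtain ⟨j, hj⟩ := (T.isPGroup'.to_le ((D.Qz_le_core).trans D.Q_le_T)) ⟨_, hup⟩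
    have hu1 : u ^ p ^ (j + 1) = 1 := by
      rw [pow_succ', pow_mul]
      exact congrArg Subtype.val hj
    obtain ⟨i, -, hi⟩ := (Nat.dvd_prime_pow Fact.out).1 (orderOf_dvd_of_pow_eq_one hu1)
    have huQ := D.pGroup_ker_le (R := zpowers u)
      (IsPGroup.iff_card.2 ⟨i, by rw [Nat.card_zpowers, hi]⟩) (zpowers_le.2 hu) (mem_zpowers u)
    rw [show mkQ u = 1 from (QuotientGroup.eq_one_iff u).2 huQ, orderOf_one] at hord'
    exact (Fact.out : p.Prime).ne_one hord'.symm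
  let Yg : Subgroup G :=
    { carrier := {k | k ∈ Km (p := p) (T := T) (π := π) ∧ Good T α k}
      one_mem' := ⟨one_mem _, fun z _ => by simp⟩
      mul_mem' := fun {a b} ha hb => ⟨mul_mem ha.1 hb.1, good_mul D ha.2 hb.2⟩
      inv_mem' := fun {a} ha => ⟨inv_mem ha.1, good_inv D ha.2⟩ }
  have hQY : Qz p (T : Subgroup G) ≤ Yg := fun r hr => ⟨D.Qz_le_Km hr, fun z hz =>
    cn_le_c1g D (D.commutator_cn Λ hX tw hr hz)⟩
  have hmain : K' ≤ Yg.map mkQ := by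
    refine Signalizer.le_of_forall_hyperplane hel (fun a _ => by
      rw [Subgroup.normalizer_eq_top (H := K')]; exact mem_top a) hK' fun B hB hBi => ?_
    set B1 := B.comap mkQ with hB1
    -- some twisted element outside the core lies over the hyperplane
    obtain ⟨x, hx, hxB, hxQ⟩ : ∃ x ∈ Ax, (x : G) ∈ B1 ∧ x ∉ Cfsg.pCore p ↥X := by
      by_contra hall
      push Not at hall
      have h1 : B1.relIndex A' ≤ p := by rw [hB1, Subgroup.relIndex_comap]; exact hBi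
      have h2 : (Cfsg.pCore p ↥X).relIndex Ax ≤ B1.relIndex A' := by
        rw [hA', ← Subgroup.relIndex_comap, ← Subgroup.inf_relIndex_right (B1.comap X.subtype)]
        refine Nat.le_of_dvd (Nat.pos_of_ne_zero Subgroup.index_ne_zero_of_finite)
          (Subgroup.relIndex_dvd_of_le_left _ fun x hx => ?_)
        exact hall x hx.2 hx.1
      have h3 : Nat.card F ≤ (Cfsg.pCore p ↥X).relIndex Ax := by
        rw [← tw.pc.ker, ← φ.ker, Subgroup.relIndex_ker]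
        refine Nat.card_le_card_of_injective
          (fun c => (⟨up c, ?_⟩ : ↥(Ax.map φ.ρ))) fun c d hcd => ?_
        · obtain ⟨s, hs, hsc⟩ := φ.exists_up c
          obtain ⟨a, ha, hr⟩ := PushL2.Far.coverX tw.pc.nc tw.far tw.hh hs
          refine ⟨_, PushL2.ap_mem_img α ⟨a, ha, rfl⟩ (tw.e_mem_S ha), ?_⟩
          rw [← hsc]
          have h4 := (tw.pc.rho_ker φ).2 hr
          rw [_root_.map_mul, _root_.map_inv, inv_mul_eq_one] at h4
          simpa using h4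
        · have h5 := congrArg (fun m => ((m : ↥(Ax.map φ.ρ)).1 : Matrix (Fin 2) (Fin 2) F) 0 1) hcd
          simpa [up_coe] using h5
      omega
    rintro _ ⟨⟨k, hk, rfl⟩, hkc⟩
    refine ⟨k, ⟨hk, ?_⟩, rfl⟩
    obtain ⟨a, ha, rfl⟩ := hAxmem hx
    refine D.good_of_centralizes Λ hX tw φ φ2 hk ha hxQ ?_
    have h6 := mem_centralizer_iff.1 hkc _ (mem_comap.1 hxB)
    refine (QuotientGroup.eq_one_iff _).1 ?_
    show mkQ _ = 1
    rw [map_mul, map_mul, map_mul, map_inv, map_inv, ← h6]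
    group
  obtain ⟨y, hy, hyk⟩ := hmain ⟨k, hk, rfl⟩
  have h7 : y⁻¹ * k ∈ Qz p (T : Subgroup G) := QuotientGroup.eq.1 hyk
  have := good_mul D hy.2 (hQY h7).2
  rwa [mul_inv_cancel_left] at this

include tw φ φ2 hS in
/-- The case `q = 3`. -/
theorem good_three (hq : Nat.card F = 3) (hp : p = 3) {k : G}
    (hk : k ∈ Km (p := p) (T := T) (π := π)) : Good T α k := by
  classical
  subst hp
  haveI hQn := D.Qz_normal
  haveI hKn := D.Km_normal
  haveI hcn := D.cn_normal (α := α)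
  haveI : (Piece.u2 3 ↥X).Normal := commutator_normal _ _
  -- a twisted element
  obtain ⟨s, hs, hsQ⟩ := SetLike.not_le_iff_exists.1 tw.pc.nc.core.ne
  obtain ⟨a, ha, hsr⟩ := PushL2.Far.coverX tw.pc.nc tw.far tw.hh hs
  obtain ⟨x, hxdef⟩ : ∃ x, x = PushL2.ap α (h * a * h⁻¹) := ⟨_, rfl⟩
  rw [← hxdef] at hsr
  have hxQ : x ∉ Cfsg.pCore 3 ↥X := fun hx => hsQ (by
    have := (Cfsg.pCore 3 ↥X).mul_mem hx hsr; rwa [mul_inv_cancel_left] at this)
  have hxS : x ∈ (S : Subgroup ↥X) := hxdef ▸ PushL2.ap_mem α (tw.e_mem_S ha)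
  refine D.good_of_centralizes Λ hX tw φ φ2 hk ha (hxdef ▸ hxQ) ?_
  rw [← hxdef]
  -- the module
  set mkC := QuotientGroup.mk' (cn T α) with hmkC
  set Vb := (Qz 3 (T : Subgroup G)).map mkC with hVb
  haveI : Vb.Normal := hQn.map _ (QuotientGroup.mk'_surjective _)
  have hVab : IsMulCommutative ↥Vb := ⟨⟨by
    rintro ⟨_, u, hu, rfl⟩ ⟨_, v, hv, rfl⟩
    exact Subtype.ext (PushL2.commute_mk.2 (D.commutator_cn Λ hX tw hu hv) :)⟩⟩
  obtain ⟨V2, iV, iVf, iact, e2, hadd, hsmul⟩ := PMinFF.exists_quot_module Vb hVab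
  letI := iV; letI := iact
  set γ : G →* (G ⧸ cn T α) ⧸ centralizer (Vb : Set (G ⧸ cn T α)) :=
    (QuotientGroup.mk' _).comp mkC with hγ
  have hzero : ((e2 0 : Vb) : G ⧸ cn T α) = 1 := by
    have h0 := hadd 0 0
    rw [add_zero, left_eq_mul] at h0
    rw [h0, Subgroup.coe_one]
  have hlift : ∀ v : V2, ∃ z, z ∈ Qz 3 (T : Subgroup G) ∧ mkC z = (e2 v : G ⧸ cn T α) :=
    fun v => (e2 v).2
  choose lz hlzQ hlze using hlift
  have hcl : ∀ {v : V2} {z}, z ∈ Qz 3 (T : Subgroup G) → mkC z = (e2 v : G ⧸ cn T α) →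
      ∀ g : G, mkC (g * z * g⁻¹) = (e2 (γ g • v) : G ⧸ cn T α) := fun {v z} _ hze g => by
    rw [map_mul, map_mul, map_inv, hze]
    exact (hsmul (mkC g) v).symm
  have h3 : ∀ v : V2, 3 • v = 0 := fun v => by
    refine e2.injective (Subtype.ext ?_)
    rw [hzero, succ_nsmul, two_nsmul, hadd, hadd, Subgroup.coe_mul, Subgroup.coe_mul, ← hlze v,
      ← map_mul, ← map_mul]
    refine (QuotientGroup.eq_one_iff _).2 ?_
    rw [show lz v * lz v * lz v = lz v ^ 3 by simp [pow_succ]]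
    exact D.pow_cn Λ hX tw (hlzQ v)
  letI : Module (ZMod 3) V2 := AddCommGroup.zmodModule h3
  -- the functional
  let σ : ZMod 3 ≃+* F :=
    ZMod.ringEquivOfPrime F Nat.prime_three (Nat.card_eq_fintype_card.symm.trans hq)
  let f0 : G → ZMod 3 := fun z => if hz : z ∈ X then σ.symm (φ2.ψ ⟨z, hz⟩ 1) else 0
  have hf0 : ∀ {z : G} (hz : z ∈ Qz 3 (T : Subgroup G)),
      f0 z = σ.symm (φ2.ψ ⟨z, D.Qz_le_X Λ hX hz⟩ 1) := fun hz => dif_pos _
  have hf0mul : ∀ {y z}, y ∈ Qz 3 (T : Subgroup G) → z ∈ Qz 3 (T : Subgroup G) →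
      f0 (y * z) = f0 y + f0 z := fun {y z} hy hz => by
    rw [hf0 (mul_mem hy hz), hf0 hy, hf0 hz, ← map_add, ← Pi.add_apply,
      ← φ2.map_mul _ (D.Qz_mem_core Λ hX hy _) _ (D.Qz_mem_core Λ hX hz _)]
    rfl
  have hf0c1 : ∀ {z} (hz : z ∈ Qz 3 (T : Subgroup G)), f0 z = 0 ↔ z ∈ c1g α := fun {z} hz => by
    rw [hf0 hz, map_eq_zero_iff _ σ.symm.injective,
      ← φ2.axis _ (D.Qz_mem_core Λ hX hz _), mem_c1g]
  have hf0cong : ∀ {y z}, y ∈ Qz 3 (T : Subgroup G) → z ∈ Qz 3 (T : Subgroup G) →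
      mkC y = mkC z → f0 y = f0 z := fun {y z} hy hz he => by
    have h1 : y⁻¹ * z ∈ cn T α := QuotientGroup.eq.1 he
    rw [show z = y * (y⁻¹ * z) by group, hf0mul hy h1.1, (hf0c1 h1.1).2 (cn_le_c1g D h1), add_zero]
  let f : V2 →ₗ[ZMod 3] ZMod 3 := (AddMonoidHom.mk' (fun v => f0 (lz v)) fun u v => by
    rw [← hf0mul (hlzQ u) (hlzQ v)]
    refine hf0cong (hlzQ _) (mul_mem (hlzQ u) (hlzQ v)) ?_
    rw [hlze, map_mul, hlze, hlze, hadd, Subgroup.coe_mul]).toZModLinearMap 3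
  have hf : ∀ {v : V2} {z}, z ∈ Qz 3 (T : Subgroup G) → mkC z = (e2 v : G ⧸ cn T α) →
      f v = f0 z := fun {v z} hz he => hf0cong (hlzQ v) hz ((hlze v).trans he.symm)
  let L : G → (V2 →ₗ[ZMod 3] V2) := fun g =>
    (AddMonoidHom.mk' (fun v => γ g • v) fun u v => smul_add _ u v).toZModLinearMap 3
  have hL : ∀ g v, L g v = γ g • v := fun _ _ => rfl
  have hLL : ∀ g g' v, L g (L g' v) = L (g * g') v := fun g g' v => by
    rw [hL, hL, hL, map_mul, mul_smul]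
  have hL1 : ∀ v, L 1 v = v := fun v => by rw [hL, map_one, one_smul]
  -- `x` is a transvection
  have hxf : ∀ {v : V2}, f v = 0 → L x v = v := fun {v} hv => by
    set z := lz v
    have hzc1 : z ∈ c1g α := (hf0c1 (hlzQ v)).1 (by rw [← hf (hlzQ v) (hlze v)]; exact hv)
    have hzX := D.Qz_le_X Λ hX (hlzQ v)
    have hzs := PushL2.Far.moveR tw.pc.nc tw.far (h := h) ha ((mem_c1g hzX).1 hzc1).2
    rw [← hxdef] at hzs
    set d := x * ⟨z, hzX⟩ * x⁻¹ * (⟨z, hzX⟩ : ↥X)⁻¹ with hd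
    have hdQ : (d : G) ∈ Qz 3 (T : Subgroup G) := by
      simp only [hd, Subgroup.coe_mul, Subgroup.coe_inv]
      exact mul_mem (hQn.conj_mem z (hlzQ v) _) (inv_mem (hlzQ v))
    have hdc : (d : G) ∈ cn T α := D.central_cn Λ hX hS tw φ φ2 hdQ fun b hb => by
      have h1 := PushL2.omega_commute hzs.1 (D.Qz_mem_core Λ hX hb (D.Qz_le_X Λ hX hb))
      exact (congrArg Subtype.val h1).symm
    refine e2.injective (Subtype.ext ?_)
    rw [hL, ← hcl (hlzQ v) (hlze v) (x : G), ← hlze v]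
    refine (QuotientGroup.eq.2 ?_).symm
    have h2 : z⁻¹ * ((x : G) * z * (x : G)⁻¹) = z⁻¹ * (d : G) * z⁻¹⁻¹ := by
      simp only [hd, Subgroup.coe_mul, Subgroup.coe_inv]; group
    show z⁻¹ * ((x : G) * z * (x : G)⁻¹) ∈ cn T α
    rw [h2]
    exact hcn.conj_mem _ hdc _
  obtain ⟨y0, hy0, hy01⟩ := φ2.onto ![0, 1]
  obtain ⟨yu, hyu, yc, hyc, hyy⟩ := mem_sup_of_normal_left.1 (tw.sup_c0 φ φ2 hy0)
  have hyuQ := D.u2_le_Qz Λ hX hS hyu
  obtain ⟨v0, hv0⟩ : ∃ v0, (e2 v0 : G ⧸ cn T α) = mkC (yu : G) :=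
    ⟨e2.symm ⟨_, ⟨_, hyuQ, rfl⟩⟩, by rw [e2.apply_symm_apply]⟩
  have hfv0 : f v0 = 1 := by
    rw [hf hyuQ hv0.symm, hf0 hyuQ, Subtype.coe_eta]
    have h1 := congrFun hy01 1
    rw [← hyy, φ2.map_mul _ (tw.u2_le_Q hyu) _ (tw.c0_le_Q hyc),
      (φ2.eq_zero _ (tw.c0_le_Q hyc)).2 hyc, add_zero] at h1
    rw [h1]; simp
  set l := L x v0 - v0 with hldef
  have hfl : f l = 0 := by
    rw [hldef, map_sub, hL, hf (hQn.conj_mem _ hyuQ _) (hcl hyuQ hv0.symm (x : G)),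
      hf hyuQ hv0.symm]
    rw [show (x : G) * yu * (x : G)⁻¹ = (x : G) * yu * (x : G)⁻¹ * (yu : G)⁻¹ * yu by group,
      hf0mul (mul_mem (hQn.conj_mem _ hyuQ _) (inv_mem hyuQ)) hyuQ, add_sub_cancel_right,
      hf0c1 (mul_mem (hQn.conj_mem _ hyuQ _) (inv_mem hyuQ))]
    exact ⟨_, tw.mid.lines.moveU x hxS yu (tw.u2_le_Q hyu), by simp⟩
  have hXv : ∀ v, L x v = v + f v • l := fun v => by
    have h1 : f (v - f v • v0) = 0 := by rw [map_sub, map_smul, hfv0, smul_eq_mul, mul_one, sub_self]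
    have h2 := hxf h1
    rw [map_sub, map_smul, sub_eq_iff_eq_add] at h2
    rw [h2, hldef, smul_sub]
    abel
  have hXinv : ∀ v, L (x : G)⁻¹ v = v - f v • l := fun v => by
    have h1 : L x (v - f v • l) = v := by
      rw [hXv, map_sub, map_smul, hfl, smul_zero, sub_zero]; abel
    conv_lhs => rw [← h1]
    rw [hLL, inv_mul_cancel, hL1]
  -- the conjugate transvection
  set g : V2 →ₗ[ZMod 3] ZMod 3 := f.comp (L k⁻¹) with hgdef
  set m := L k l with hmdef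
  have hgm : g m = 0 := by
    rw [hgdef, hmdef, LinearMap.comp_apply, hLL, inv_mul_cancel, hL1, hfl]
  set w := (x : G) * k * (x : G)⁻¹ * k⁻¹ with hw
  have hwK : w ∈ Km (p := 3) (T := T) (π := π) := mul_mem (hKn.conj_mem k hk _) (inv_mem hk)
  have he : ∀ v, L w v = (v - g v • m) + f (v - g v • m) • l := fun v => by
    rw [← hXv, hw, ← hLL ((x : G) * k * (x : G)⁻¹) k⁻¹, ← hLL ((x : G) * k) (x : G)⁻¹, hXinv,
      ← hLL (x : G) k, map_sub, map_sub, map_smul, hLL k k⁻¹, mul_inv_cancel, hL1]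
    simp only [hgdef, hmdef, LinearMap.comp_apply, map_sub, map_smul]
  have hit : ∀ n v, (L w)^[n] v = L (w ^ n) v := fun n v => by
    induction n with
    | zero => simp [hL1]
    | succ n ih => rw [Function.iterate_succ_apply', ih, hLL, pow_succ']
  -- elements of the kernel acting trivially
  have hgam : ∀ {u : G}, u ∈ Km (p := 3) (T := T) (π := π) → (∀ v, L u v = v) →
      u ∈ Qz 3 (T : Subgroup G) := fun {u} hu hu1 => D.gamma_ker Λ hX tw hu fun z hz => by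
    obtain ⟨v, hv⟩ : ∃ v, (e2 v : G ⧸ cn T α) = mkC z :=
      ⟨e2.symm ⟨_, ⟨z, hz, rfl⟩⟩, by rw [e2.apply_symm_apply]⟩
    have h1 := hcl hz hv.symm u
    rw [← hL, hu1, hv] at h1
    refine (QuotientGroup.eq_one_iff _).1 ?_
    show mkC (u * z * u⁻¹ * z⁻¹) = 1
    rw [map_mul, h1, map_inv, mul_inv_cancel]
  rcases transv_pair f g l m (L x) (L w) hfl hgm hXv he with hcase | ⟨hs0, n, hcomm, hne⟩
  · have h1 : w ^ 3 ∈ Qz 3 (T : Subgroup G) := hgam (pow_mem hwK 3) fun v => by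
      rw [← hit 3 v]; exact hcase v
    obtain ⟨j, hj⟩ := (T.isPGroup'.to_le ((D.Qz_le_core).trans D.Q_le_T)) ⟨_, h1⟩
    have h2 : w ^ 3 ^ (j + 1) = 1 := by
      rw [pow_succ' 3 j, pow_mul]
      exact congrArg Subtype.val hj
    obtain ⟨i, -, hi⟩ := (Nat.dvd_prime_pow Nat.prime_three).1 (orderOf_dvd_of_pow_eq_one h2)
    have hwQ := D.pGroup_ker_le (R := zpowers w)
      (IsPGroup.iff_card.2 ⟨i, by rw [Nat.card_zpowers, hi]⟩) (zpowers_le.2 hwK) (mem_zpowers w)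
    have h4 := hQn.conj_mem _ (inv_mem hwQ) (x : G)⁻¹
    rwa [hw, show (x : G)⁻¹ * ((x : G) * k * (x : G)⁻¹ * k⁻¹)⁻¹ * (x : G)⁻¹⁻¹ =
      (x : G)⁻¹ * (k * (x : G) * k⁻¹) by group] at h4
  · exfalso
    set u := w ^ n with hu
    have huK : u ∈ Km (p := 3) (T := T) (π := π) := pow_mem hwK n
    have hxu : (x : G)⁻¹ * (u * (x : G) * u⁻¹) ∈ Qz 3 (T : Subgroup G) := by
      refine hgam ?_ fun v => ?_
      · have := mul_mem (hKn.conj_mem u huK (x : G)⁻¹) (inv_mem huK)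
        rwa [show (x : G)⁻¹ * u * (x : G)⁻¹⁻¹ * u⁻¹ = (x : G)⁻¹ * (u * (x : G) * u⁻¹) by group]
          at this
      · have h5 := hcomm (L u⁻¹ v)
        rw [hit, hit, ← hu, hLL u u⁻¹, mul_inv_cancel, hL1] at h5
        rw [← hLL, ← hLL, ← hLL, ← h5, hLL, inv_mul_cancel, hL1]
    have hgood := D.good_of_centralizes Λ hX tw φ φ2 huK ha (hxdef ▸ hxQ) (hxdef ▸ hxu)
    refine hne ?_
    rw [hit, ← hu, map_sub, hL, hf (hQn.conj_mem _ (hlzQ m) u) (hcl (hlzQ m) (hlze m) u),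
      hf (hlzQ m) (hlze m),
      show u * lz m * u⁻¹ = u * lz m * u⁻¹ * (lz m)⁻¹ * lz m by group,
      hf0mul (mul_mem (hQn.conj_mem _ (hlzQ m) u) (inv_mem (hlzQ m))) (hlzQ m),
      add_sub_cancel_right, hf0c1 (mul_mem (hQn.conj_mem _ (hlzQ m) u) (inv_mem (hlzQ m)))]
    exact hgood _ (hlzQ m)

include tw φ φ2 hS in
/-- The kernel is trivial modulo `O_p ∩ B` next to a class three piece. -/
theorem two_commute {k z : G} (hk : k ∈ Km (p := p) (T := T) (π := π))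
    (hko : (orderOf k).Coprime p) (hz : z ∈ Qz p (T : Subgroup G)) : k * z = z * k := by
  haveI := D.Km_normal
  have hp : p = 3 := tw.three (rfl : Nat.card F = Nat.card F)
  have hgood : ∀ {l : G}, l ∈ Km (p := p) (T := T) (π := π) → Good T α l := fun {l} hl => by
    by_cases hq : p < Nat.card F
    · exact D.good_big Λ hX tw φ φ2 hq hl
    · have h1 : p ∣ Nat.card F := Λ.sld.card ▸ dvd_pow_self p (by have := Λ.sld.hn; omega)
      have h2 := Nat.le_of_dvd Nat.card_pos h1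
      exact D.good_three Λ hX hS tw φ φ2 (by omega) hp hl
  exact D.good_final Λ hX tw hk.2 hko (fun g w hw =>
    hgood ((D.Km_normal).conj_mem k hk g) w hw) hz

end Two

include hS in
/-- The kernel is `O_p ∩ B(T)`. -/
theorem Km_eq {M₀ : Subgroup ↥X}
    (hU : Piece.PC p S (Nat.card F) M₀ ((D.wc E').subgroupOf X)) :
    Km (p := p) (T := T) (π := π) = Qz p (T : Subgroup G) := by
  classical
  haveI := D.Km_normal
  refine le_antisymm ?_ D.Qz_le_Km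
  have hall : ∀ k ∈ Km (p := p) (T := T) (π := π), (orderOf k).Coprime p → k = 1 := by
    intro k hk hko
    refine D.centralizer_Qz_Q Λ hko fun z hz => ?_
    by_cases hT : Piece.Twisted p S
    · exact D.one_commute Λ hX hU hT hk.2 hko hz
    · obtain ⟨α, h, E0, tw⟩ := Piece.exists_tw hU hT
      haveI := tw.mid.lines.normalW
      obtain ⟨φ⟩ := tw.pc.nc.toStd.linesV.natural tw.pc.nc.ctx tw.pc.nc.core F rfl
      obtain ⟨φ2⟩ := tw.mid.lines.natural tw.pc.nc.ctx tw.pc.nc.core F rfl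
      exact D.two_commute Λ hX hS tw φ φ2 hk hko hz
  refine D.pGroup_ker_le (fun x => ?_) le_rfl
  obtain ⟨a, ha⟩ := D.exists_coprime_pow Λ hX (x : G)
  exact ⟨a, Subtype.ext (hall _ (pow_mem x.2 _) ha)⟩

end PU

end CfsgLib.PushUpB
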