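import Cfsg.Agent.PushUpB.Trace

/-!
Pushing up: local `SL₂(q)` pieces of the blocks.
-/

set_option autoImplicit false
set_option linter.style.haveILetI false
set_option linter.unusedSectionVars false

namespace CfsgLib.PushUpB

open Subgroup CfsgLib.PMinFF CfsgLib.OffGen CfsgLib.BlockPermCombi

universe u

section S3

/-- Coordinates of a vector on three points. -/
def L3 (y : Fin 3 → ZMod 2) : Fin 2 → ZMod 2 := ![y 0 + y 2, y 1 + y 2]

/-- The matrix of a permutation of three points on the even vectors. -/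
def m3 (σ : Equiv.Perm (Fin 3)) : Matrix (Fin 2) (Fin 2) (ZMod 2) :=
  !![L3 (Pi.single (σ 0) 1) 0, L3 (Pi.single (σ 1) 1) 0;
     L3 (Pi.single (σ 0) 1) 1, L3 (Pi.single (σ 1) 1) 1]

theorem det_m3 : ∀ σ, (m3 σ).det = 1 := by
  intro σ; rw [Matrix.det_fin_two]; revert σ; decide

theorem m3_mul : ∀ σ τ, m3 (σ * τ) = m3 σ * m3 τ := by decide

theorem m3_L3 : ∀ (σ : Equiv.Perm (Fin 3)) (y : Fin 3 → ZMod 2),
    L3 (fun i => y (σ⁻¹ i)) = (m3 σ).mulVec (L3 y) := by decide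

theorem L3_eq_zero : ∀ y : Fin 3 → ZMod 2, L3 y = 0 → ∀ i j, y i = y j := by decide

theorem m3_onto : ∀ a b c d : ZMod 2, a * d - b * c = 1 → ∃ σ, m3 σ = !![a, b; c, d] := by decide

theorem m3_injective : ∀ σ, m3 σ = 1 → σ = 1 := by decide

/-- `S₃ ≅ SL₂(2)`. -/
noncomputable def perm3Iso :
    Equiv.Perm (Fin 3) ≃* Matrix.SpecialLinearGroup (Fin 2) (ZMod 2) :=
  MulEquiv.ofBijective
    (MonoidHom.mk' (G := Matrix.SpecialLinearGroup (Fin 2) (ZMod 2))
      (fun σ => show Matrix.SpecialLinearGroup (Fin 2) (ZMod 2) from ⟨m3 σ, det_m3 σ⟩)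
      fun σ τ => Matrix.SpecialLinearGroup.ext _ _ fun i j => congrFun (congrFun (m3_mul σ τ) i) j)
    ⟨(injective_iff_map_eq_one _).2 fun σ h => m3_injective σ (congrArg Subtype.val h), fun A => by
      have hd := A.2
      rw [Matrix.det_fin_two] at hd
      obtain ⟨σ, hσ⟩ := m3_onto _ _ _ _ hd
      exact ⟨σ, Subtype.ext (hσ.trans (Matrix.eta_fin_two _).symm)⟩⟩

theorem L3_span : ∀ y : Fin 2 → ZMod 2, y = 0 ∨ y = L3 (Pi.single 1 1 + Pi.single 2 1) ∨
    y = L3 (Pi.single 0 1 + Pi.single 2 1) ∨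
    y = L3 (Pi.single 1 1 + Pi.single 2 1) + L3 (Pi.single 0 1 + Pi.single 2 1) := by decide

end S3

variable {G : Type u} [Group G] [Finite G] {p : ℕ} [Fact p.Prime] {T : Sylow p G} {M : Subgroup G}
  {P : Type u} [Group P] [Finite P] {π : G →* P} {W : Type u} [AddCommGroup W] [Finite W]
  [DistribMulAction P W] {e : W ≃ Vo p G} {T' : Sylow p P} {𝓔 : Set (Subgroup P)} {M' : Subgroup P}

/-- A piece of a block on which the Sylow trace is a root group. -/
structure Loc (W : Type u) [AddCommGroup W] [DistribMulAction P W] {p : ℕ} (T' : Sylow p P)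
    (M' : Subgroup P) (𝓔 : Set (Subgroup P)) (J E' : Subgroup P) (F : Type) [Field F] where
  sld : SLD W T' E' F
  le_N : E' ≤ sSup 𝓔
  UJ : (T' : Subgroup P) ⊓ E' ≤ J
  split : ∀ j ∈ J, ∃ u ∈ (T' : Subgroup P) ⊓ E',
    (∀ x ∈ E', u⁻¹ * j * x = x * (u⁻¹ * j)) ∧ u⁻¹ * j ∈ modFix W E'
  notM : ¬ E' ≤ M'

theorem fix_com_of_commute {E' : Subgroup P} {r : P} (hc : ∀ x ∈ E', r * x = x * r)
    (hr : r ∈ modFix W E') {u : W} (hu : u ∈ com W E') : r • u = u := by
  induction hu using AddSubgroup.closure_induction with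
  | mem x hx =>
    obtain ⟨l, hl, v, rfl⟩ := hx
    have h1 := hr v l hl
    rw [smul_sub] at h1
    rw [smul_sub, ← mul_smul, hc l hl, mul_smul]
    exact sub_eq_sub_iff_sub_eq_sub.1 h1
  | zero => rw [smul_zero]
  | add x y _ _ hx hy => rw [smul_add, hx, hy]
  | neg x _ hx => rw [smul_neg, hx]

namespace PU

variable (D : PU T M π e T' 𝓔)
include D

theorem block_not_le {E : Subgroup P} (hE : E ∈ 𝓔) : ¬ E ≤ M.map π := fun h => by
  have hN : sSup 𝓔 ≤ M.map π := sSup_le fun E' hE' => by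
    obtain ⟨t, ht, rfl⟩ := D.blk.trans E hE E' hE'
    rintro - ⟨x, hx, rfl⟩
    exact mul_mem (mul_mem (D.hyp.hover.1 ht) (h hx)) (inv_mem (D.hyp.hover.1 ht))
  exact D.hyp.hover.2.1 (top_le_iff.1 (D.blk.top ▸ sup_le hN D.hyp.hover.1))

theorem loc_sl {E : Subgroup P} (hE : E ∈ 𝓔) (hSL : SLBlock W p E) :
    ∃ (F : Type) (_ : Field F) (_ : Fintype F), Nonempty (Loc W T' (M.map π) 𝓔 (Jb T π) E F) := by
  obtain ⟨B, hB, hBE, hBJ⟩ := D.exists_mem_Jb E hE
  obtain ⟨-, F, iF, iFt, ⟨X⟩⟩ := exists_sld hSL hB hBE (hBJ.trans D.Jb_le_T)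
  refine ⟨F, iF, iFt, ⟨X, le_sSup hE, (D.nice_sl hE hSL).1, fun j hj => ?_, D.block_not_le hE⟩⟩
  obtain ⟨g, hg⟩ := exists_comp D.blk hE (D.Jb_le_N hj)
  exact ⟨g, ⟨comp_mem_T D.blk hE D.hyp (D.Jb_le_T hj) hg, hg.1⟩,
    fun x hx => oth_commute D.blk hE hg.2 hx, oth_modFix D.blk hE D.hyp hg.2⟩

end PU

/-- The subgroup of a symmetric block on three points. -/
noncomputable def three {N : ℕ} {E : Subgroup P} (ρ : E ≃* Equiv.Perm (Fin N))
    (ι : Fin 3 ↪ Fin N) : Subgroup P :=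
  ((Equiv.Perm.viaEmbeddingHom ι).range.comap ρ.toMonoidHom).map E.subtype

theorem via_apply {N : ℕ} (ι : Fin 3 ↪ Fin N) (σ : Equiv.Perm (Fin 3)) (i : Fin 3) :
    Equiv.Perm.viaEmbeddingHom ι σ (ι i) = ι (σ i) := Equiv.Perm.viaEmbedding_apply σ ι i

theorem via_apply_not {N : ℕ} (ι : Fin 3 ↪ Fin N) (σ : Equiv.Perm (Fin 3)) (x : Fin N)
    (hx : x ∉ Set.range ι) : Equiv.Perm.viaEmbeddingHom ι σ x = x :=
  Equiv.Perm.viaEmbedding_apply_of_notMem σ ι x hx

theorem via_swap {N : ℕ} (ι : Fin 3 ↪ Fin N) (i j : Fin 3) :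
    Equiv.Perm.viaEmbeddingHom ι (Equiv.swap i j) = Equiv.swap (ι i) (ι j) := by
  refine Equiv.ext fun x => ?_
  by_cases hx : x ∈ Set.range ι
  · obtain ⟨k, rfl⟩ := hx
    rw [via_apply, ← ι.injective.swap_apply]
  · rw [via_apply_not ι _ x hx, Equiv.swap_apply_of_ne_of_ne (fun e => hx ⟨i, e.symm⟩)
      (fun e => hx ⟨j, e.symm⟩)]

namespace PU

variable (D : PU T M π e T' 𝓔)
include D

theorem loc_perm {E : Subgroup P} (hE : E ∈ 𝓔) {N : ℕ} (X : PMD W T' E N) {a b : Fin N}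
    (hab : a ≠ b) (hsw : Equiv.swap a b ∈ Swp T π X) :
    ∃ ι : Fin 3 ↪ Fin N, ι 0 = a ∧ ι 1 = b ∧ ι 2 = X.c ∧
      ∃ (F : Type) (_ : Field F) (_ : Fintype F), Nat.card F = 2 ∧
        Nonempty (Loc W T' (M.map π) 𝓔 (Jb T π) (three X.ρ ι) F) := by
  classical
  obtain ⟨hdis, hcov, hnotc⟩ := D.pmd_swaps hE X
  obtain ⟨h, hhJ, heh, -⟩ := hsw
  have hac : a ≠ X.c := hnotc a b hab ⟨h, hhJ, heh⟩
  have hbc : b ≠ X.c := hnotc b a hab.symm ⟨h, hhJ, by rw [heh, Equiv.swap_comm]⟩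
  have hp2 := X.p2
  subst hp2
  let ι : Fin 3 ↪ Fin N := ⟨![a, b, X.c], fun i j e => by
    fin_cases i <;> fin_cases j <;> simp at e <;>
      first | rfl | exact absurd e hab | exact absurd e.symm hab | exact absurd e hac |
        exact absurd e.symm hac | exact absurd e hbc | exact absurd e.symm hbc⟩
  set E' := three X.ρ ι with hE'def
  have hE'E : E' ≤ E := map_subtype_le _
  have hmem : ∀ g ∈ E', ∀ hg : g ∈ E, ∃ σ, Equiv.Perm.viaEmbeddingHom ι σ = X.ρ ⟨g, hg⟩ := by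
    rintro - ⟨g, ⟨σ, hσ⟩, rfl⟩ hg
    exact ⟨σ, hσ⟩
  let f : E' →* E := Subgroup.inclusion hE'E
  let v : Equiv.Perm (Fin 3) →* E :=
    X.ρ.symm.toMonoidHom.comp (Equiv.Perm.viaEmbeddingHom ι)
  have hv : ∀ σ, X.ρ (v σ) = Equiv.Perm.viaEmbeddingHom ι σ := fun σ => X.ρ.apply_symm_apply _
  have hvE' : ∀ σ, ((v σ : E) : P) ∈ E' := fun σ => ⟨v σ, ⟨σ, (hv σ).symm⟩, rfl⟩
  let w : Equiv.Perm (Fin 3) →* E' :=
    MonoidHom.mk' (fun σ => ⟨(v σ : E), hvE' σ⟩) fun σ τ => Subtype.ext (by simp)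
  have hw : Function.Bijective w := by
    refine ⟨(injective_iff_map_eq_one _).2 fun σ hσ => ?_, fun g => ?_⟩
    · have h1 : v σ = 1 := Subtype.ext (congrArg Subtype.val hσ :)
      refine Equiv.Perm.viaEmbeddingHom_injective ι ?_
      rw [← hv, h1, map_one, map_one]
    · obtain ⟨σ, hσ⟩ := hmem g.1 g.2 (hE'E g.2)
      exact ⟨σ, Subtype.ext (congrArg Subtype.val (X.ρ.injective ((hv σ).trans hσ)) :)⟩
  let ρ' : E' ≃* Matrix.SpecialLinearGroup (Fin 2) (ZMod 2) :=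
    (MulEquiv.ofBijective w hw).symm.trans perm3Iso
  have hρ' : ∀ σ, (ρ' (w σ) : Matrix (Fin 2) (Fin 2) (ZMod 2)) = m3 σ := fun σ => by
    show (perm3Iso ((MulEquiv.ofBijective w hw).symm (MulEquiv.ofBijective w hw σ)) :
      Matrix (Fin 2) (Fin 2) (ZMod 2)) = _
    rw [MulEquiv.symm_apply_apply]; rfl
  let ψ' : W →+ (Fin 2 → ZMod 2) := AddMonoidHom.mk' (fun x => L3 fun i => X.ψ x (ι i))
    fun x y => by
      funext i
      fin_cases i <;> simp [L3, map_add] <;> ring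
  have hequi : ∀ (g : E') (x : W), ψ' ((g : P) • x) =
      (ρ' g : Matrix (Fin 2) (Fin 2) (ZMod 2)).mulVec (ψ' x) := by
    intro g x
    obtain ⟨σ, rfl⟩ := hw.2 g
    rw [hρ']
    show L3 (fun i => X.ψ (((v σ : E) : P) • x) (ι i)) = (m3 σ).mulVec (L3 fun i => X.ψ x (ι i))
    rw [← m3_L3, X.equi, hv]
    refine congrArg L3 (funext fun i => ?_)
    rw [pa, ← map_inv, via_apply]
  have hker : ∀ x, ψ' x = 0 ↔ x ∈ fix W E' := by
    intro x
    refine ⟨fun hx g hg => ?_, fun hx => ?_⟩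
    · obtain ⟨σ, hσ⟩ := hw.2 ⟨g, hg⟩
      have hc := L3_eq_zero (fun i => X.ψ x (ι i)) hx
      have h1 : g • x - x ∈ com W E ⊓ fix W E := by
        refine ⟨mem_com (hE'E hg) x, (X.ker _).1 ?_⟩
        rw [map_sub, show g = ((v σ : E) : P) from (congrArg Subtype.val hσ).symm, X.equi, hv,
          sub_eq_zero]
        funext z
        show X.ψ x ((Equiv.Perm.viaEmbeddingHom ι σ)⁻¹ z) = X.ψ x z
        by_cases hz : z ∈ Set.range ι
        · obtain ⟨k, rfl⟩ := hz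
          rw [← map_inv, via_apply]
          exact hc _ _
        · rw [← map_inv, via_apply_not ι _ z hz]
      rw [X.sep0] at h1
      exact sub_eq_zero.1 h1
    · have h1 : ∀ σ : Equiv.Perm (Fin 3), ∀ i, X.ψ x (ι (σ⁻¹ i)) = X.ψ x (ι i) := fun σ i => by
        have h2 := congrArg X.ψ (hx _ (hvE' σ))
        rw [X.equi, hv] at h2
        have h3 := congrFun h2 (ι i)
        rwa [pa, ← map_inv, via_apply] at h3
      funext i
      show L3 (fun j => X.ψ x (ι j)) i = (0 : Fin 2 → ZMod 2) i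
      have e0 := h1 (Equiv.swap 0 2) 0
      have e1 := h1 (Equiv.swap 1 2) 1
      simp [Equiv.swap_inv] at e0 e1
      fin_cases i
      · show X.ψ x (ι 0) + X.ψ x (ι 2) = 0
        rw [e0, CharTwo.add_self_eq_zero]
      · show X.ψ x (ι 1) + X.ψ x (ι 2) = 0
        rw [e1, CharTwo.add_self_eq_zero]
  have honto : ∀ y, ∃ u ∈ com W E', ψ' u = y := by
    have hgen : ∀ (i j k : Fin 3), i ≠ j → i ≠ k → j ≠ k →
        ∃ u ∈ com W E', ψ' u = L3 (Pi.single j 1 + Pi.single k 1) := by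
      intro i j k hij hik hjk
      obtain ⟨x, -, hx⟩ := X.onto (ed (ι i) (ι j)) (ev_ed _ _)
      refine ⟨_, mem_com (hvE' (Equiv.swap j k)) x, ?_⟩
      show L3 (fun l => X.ψ (((v (Equiv.swap j k) : E) : P) • x - x) (ι l)) = _
      rw [map_sub, X.equi, hv, hx]
      refine congrArg L3 (funext fun l => ?_)
      rw [via_swap, pa_ed, Equiv.swap_apply_of_ne_of_ne (ι.injective.ne hij) (ι.injective.ne hik),
        Equiv.swap_apply_left, Pi.sub_apply, CharTwo.sub_eq_add, ← Pi.add_apply, ed_add,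
        ed_comm, ed_apply (ι.injective.ne hjk)]
      simp only [ι.injective.eq_iff, Pi.add_apply, Pi.single_apply]
      fin_cases l <;> fin_cases j <;> fin_cases k <;> simp_all
    obtain ⟨u₁, hu₁, e₁⟩ := hgen 0 1 2 (by decide) (by decide) (by decide)
    obtain ⟨u₂, hu₂, e₂⟩ := hgen 1 0 2 (by decide) (by decide) (by decide)
    intro y
    rcases L3_span y with rfl | rfl | rfl | rfl
    · exact ⟨0, zero_mem _, map_zero _⟩
    · exact ⟨u₁, hu₁, e₁⟩
    · exact ⟨u₂, hu₂, e₂⟩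
    · exact ⟨_, add_mem hu₁ hu₂, by rw [map_add, e₁, e₂]⟩
  have hSL : SLBlock W 2 E' :=
    ⟨ZMod 2, inferInstance, inferInstance, 1, le_rfl, by simp, ρ', ψ', honto, hker, hequi⟩
  -- the offender
  have hhE' : (h : P) ∈ E' := ⟨h, ⟨Equiv.swap 0 1, by
    rw [via_swap]; exact heh.symm⟩, rfl⟩
  have hh2 : (h : P) ^ 2 = 1 := by
    have : h ^ 2 = 1 := X.ρ.injective (by rw [map_pow, heh, pow_two, Equiv.swap_mul_self, map_one])
    simpa using congrArg Subtype.val this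
  set B := zpowers (h : P)
  have hBel : Elem 2 B := by
    refine ⟨fun x hx y hy => ?_, fun x hx => ?_⟩
    · obtain ⟨i, rfl⟩ := hx
      obtain ⟨j, rfl⟩ := hy
      exact (Commute.refl (h : P)).zpow_zpow i j
    · obtain ⟨i, rfl⟩ := hx
      show ((h : P) ^ i) ^ 2 = 1
      rw [← zpow_natCast, ← zpow_mul, mul_comm, zpow_mul, zpow_natCast, hh2, one_zpow]
  have hhne : (h : P) ≠ 1 := fun e0 => hab (Equiv.swap_eq_refl_iff.1
    (heh.symm.trans (by rw [show h = 1 from Subtype.ext e0, map_one]; rfl)))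
  have hBcard : Nat.card B = 2 := by
    rw [Nat.card_zpowers, orderOf_eq_prime hh2 hhne]
  have hBfix : Nat.card W ≤ meas W B := by
    let g : W →+ ZMod 2 := AddMonoidHom.mk' (fun x => X.ψ x a + X.ψ x b) fun x y => by
      simp only [map_add, Pi.add_apply]; ring
    have h1 : g.ker ≤ fix W B := by
      intro x hx
      have hxab : X.ψ x a = X.ψ x b := CharTwo.add_eq_zero.1 hx
      have h2 : (h : P) • x - x ∈ com W E ⊓ fix W E := by
        refine ⟨mem_com h.2 x, (X.ker _).1 ?_⟩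
        rw [map_sub, X.equi, heh, sub_eq_zero]
        funext z
        show X.ψ x ((Equiv.swap a b)⁻¹ z) = X.ψ x z
        rw [Equiv.swap_inv]
        rcases eq_or_ne z a with rfl | hza
        · rw [Equiv.swap_apply_left, hxab]
        rcases eq_or_ne z b with rfl | hzb
        · rw [Equiv.swap_apply_right, hxab]
        rw [Equiv.swap_apply_of_ne_of_ne hza hzb]
      rw [X.sep0] at h2
      intro y hy
      exact (zpowers_le.2 (show (h : P) ∈ MulAction.stabilizer P x from sub_eq_zero.1 h2)) hy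
    rw [AddSubgroup.card_eq_card_quotient_mul_card_addSubgroup g.ker, meas, hBcard]
    refine Nat.mul_le_mul ?_ (AddSubgroup.card_le_of_le h1)
    exact (Nat.card_le_card_of_injective _ (QuotientAddGroup.kerLift_injective g)).trans
      (by simp)
  have hBne : B ≠ ⊥ := fun e0 => hhne (zpowers_eq_bot.1 e0)
  obtain ⟨B', hB'B, hB', -⟩ := exists_mem_le D.hyp.exp D.hyp.faithful hBel hBne hBfix
  have hB'eq : B' = B := by
    refine Subgroup.eq_of_le_of_card_ge hB'B ?_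
    rw [hBcard]
    exact (Subgroup.one_lt_card_iff_ne_bot B').2 hB'.ne
  subst hB'eq
  have hBE' : B ≤ E' := zpowers_le.2 hhE'
  have hBJ : B ≤ Jb T π := zpowers_le.2 hhJ
  obtain ⟨hBeq, F', iF', iFt', ⟨X'⟩⟩ := exists_sld hSL hB' hBE' (hBJ.trans D.Jb_le_T)
  have hUJ : (T' : Subgroup P) ⊓ E' ≤ Jb T π := hBeq ▸ hBJ
  have hF2 : Nat.card F' = 2 := by
    have hinj : Function.Injective fun c : F' => ((X'.ρ.symm (CfsgLib.SL2Pair.up c) : E') : P) := by
      intro c d e0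
      have h1 := X'.ρ.symm.injective (Subtype.ext e0)
      have h2 := congrArg (fun m : Matrix.SpecialLinearGroup (Fin 2) F' =>
        (m : Matrix (Fin 2) (Fin 2) F') 0 1) h1
      simpa [CfsgLib.SL2Pair.up_coe] using h2
    have hle : Nat.card F' ≤ Nat.card B := Nat.card_le_card_of_injective
      (fun c => (⟨_, hBeq.ge ⟨(X'.axis _).2 ⟨c, X'.ρ.apply_symm_apply _⟩,
        Subtype.coe_prop _⟩⟩ : B)) fun c d e0 => hinj (congrArg Subtype.val e0 :)
    have h1 : 1 < Nat.card F' := by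
      haveI := iFt'
      rw [Nat.card_eq_fintype_card]; exact Fintype.one_lt_card
    rw [hBcard] at hle
    omega
  refine ⟨ι, rfl, rfl, rfl, F', iF', iFt', hF2,
    ⟨⟨X', hE'E.trans (le_sSup hE), hUJ, fun j hj => ?_, fun hle => ?_⟩⟩⟩
  · obtain ⟨g, hg⟩ := exists_comp D.blk hE (D.Jb_le_N hj)
    obtain ⟨hgJ, hgσ⟩ := D.pmd_hall hE X j hj g hg
    set σ := X.ρ ⟨g, hg.1⟩ with hσdef
    have hswp : Equiv.swap a b ∈ Swp T π X := ⟨h, hhJ, heh, a, b, hab, rfl⟩
    have hcomm := D.closure_swp_comm hE X _ hgσ _ (subset_closure hswp)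
    have hσc : σ X.c = X.c := X.fix_c ⟨g, hg.1⟩ (D.Jb_le_T hgJ)
    have hσa : σ a = a ∨ σ a = b := by
      by_contra hno
      push Not at hno
      have h3 := congrArg (fun τ : Equiv.Perm (Fin N) => τ a) hcomm
      simp only [Equiv.Perm.mul_apply, Equiv.swap_apply_left] at h3
      rw [Equiv.swap_apply_of_ne_of_ne hno.1 hno.2] at h3
      exact hab (σ.injective h3).symm
    obtain ⟨u, huU, τ, hτ, hτa, hτb, hτc⟩ : ∃ u : E, (u : P) ∈ (T' : Subgroup P) ⊓ E' ∧
        ∃ τ, τ = X.ρ u⁻¹ * σ ∧ τ a = a ∧ τ b = b ∧ τ X.c = X.c := by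
      have hσb : σ b = Equiv.swap a b (σ a) := by
        have h3 := congrArg (fun τ : Equiv.Perm (Fin N) => τ a) hcomm
        simpa [Equiv.Perm.mul_apply] using h3
      rcases hσa with h1 | h1
      · refine ⟨1, ⟨one_mem _, one_mem _⟩, σ, by simp, h1, ?_, hσc⟩
        rw [hσb, h1, Equiv.swap_apply_left]
      · refine ⟨h, ⟨D.Jb_le_T hhJ, hhE'⟩, _, rfl, ?_, ?_, ?_⟩
        · simp [Equiv.Perm.mul_apply, heh, h1]
        · simp [Equiv.Perm.mul_apply, heh, hσb, h1]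
        · simp [Equiv.Perm.mul_apply, heh, hσc,
            Equiv.swap_apply_of_ne_of_ne hac.symm hbc.symm]
    have hfix3 : ∀ k, τ (ι k) = ι k := fun k => by
      fin_cases k
      exacts [hτa, hτb, hτc]
    have hr : ∀ x ∈ E, ((g⁻¹ * j) * x = x * (g⁻¹ * j)) := fun x hx => oth_commute D.blk hE hg.2 hx
    have hρτ : X.ρ (u⁻¹ * ⟨g, hg.1⟩) = τ := by rw [map_mul, hτ]
    refine ⟨u, huU, fun x hx => ?_, fun y => ?_⟩
    · obtain ⟨σ₁, hσ₁⟩ := hw.2 ⟨x, hx⟩
      have hcom : τ * Equiv.Perm.viaEmbeddingHom ι σ₁ = Equiv.Perm.viaEmbeddingHom ι σ₁ * τ := by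
        refine (Equiv.Perm.disjoint_iff_eq_or_eq.2 fun z => ?_ : Equiv.Perm.Disjoint τ _).commute
        by_cases hz : z ∈ Set.range ι
        · obtain ⟨k, rfl⟩ := hz
          exact Or.inl (hfix3 k)
        · exact Or.inr (via_apply_not ι _ z hz)
      have h1 : (u⁻¹ * ⟨g, hg.1⟩) * v σ₁ = v σ₁ * (u⁻¹ * ⟨g, hg.1⟩) :=
        X.ρ.injective (by rw [map_mul _ _ (v σ₁), map_mul _ (v σ₁), hρτ, hv, hcom])
      have h2 := congrArg Subtype.val h1
      simp only [Subgroup.coe_mul, Subgroup.coe_inv,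
        show ((v σ₁ : E) : P) = x from congrArg Subtype.val hσ₁] at h2
      calc (u : P)⁻¹ * j * x = (u : P)⁻¹ * g * ((g⁻¹ * j) * x) := by group
        _ = ((u : P)⁻¹ * g * x) * (g⁻¹ * j) := by rw [hr x (hE'E hx)]; group
        _ = x * ((u : P)⁻¹ * j) := by rw [h2]; group
    · set z := g⁻¹ * j with hz
      have hz1 : z • y - y ∈ fix W E := oth_modFix D.blk hE D.hyp hg.2 y
      set k : E := u⁻¹ * ⟨g, hg.1⟩ with hk
      have e1 : (u : P)⁻¹ * j = (k : P) * z := by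
        rw [hz, hk]; simp only [Subgroup.coe_mul, Subgroup.coe_inv]; group
      rw [e1, mul_smul, show (k : P) • z • y - y =
        ((k : P) • (z • y - y)) + ((k : P) • y - y) by rw [smul_sub]; abel]
      refine (fix W E').add_mem ?_ ((hker _).1 ?_)
      · rw [show (k : P) • (z • y - y) = z • y - y from hz1 _ k.2]
        exact fix_anti hE'E hz1
      · show L3 (fun i => X.ψ ((k : P) • y - y) (ι i)) = 0
        have h0 : ∀ i, X.ψ ((k : P) • y - y) (ι i) = 0 := fun i => by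
          rw [map_sub, X.equi, hρτ, Pi.sub_apply, pa,
            show τ⁻¹ (ι i) = ι i from Equiv.Perm.inv_eq_iff_eq.2 (hfix3 i).symm, sub_self]
        simp only [h0]
        funext i; fin_cases i <;> simp [L3]
  · -- the star of transpositions at the fixed point
    refine D.block_not_le hE ?_
    have hstar : ∀ x, x ≠ X.c → Equiv.swap x X.c ∈
        ((M.map π).subgroupOf E).map X.ρ.toMonoidHom := by
      intro x hx
      obtain ⟨t, ht, hta⟩ := X.trans a x hac hx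
      have h1 : ((v (Equiv.swap 0 2) : E) : P) ∈ M.map π := hle (hvE' _)
      refine ⟨t * v (Equiv.swap 0 2) * t⁻¹, ?_, ?_⟩
      · exact mul_mem (mul_mem (D.hyp.hover.1 ht) h1) (inv_mem (D.hyp.hover.1 ht))
      · show X.ρ (t * v (Equiv.swap 0 2) * t⁻¹) = _
        rw [map_mul, map_mul, map_inv, hv, via_swap, ← Equiv.swap_apply_apply,
          show X.ρ t (ι 0) = x from hta, show X.ρ t (ι 2) = X.c from X.fix_c t ht]
    have htop : ((M.map π).subgroupOf E).map X.ρ.toMonoidHom = ⊤ := by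
      rw [eq_top_iff, ← Equiv.Perm.closure_isSwap, Subgroup.closure_le]
      rintro σ ⟨x, y, hxy, rfl⟩
      by_cases hx : x = X.c
      · subst hx; rw [Equiv.swap_comm]; exact hstar y hxy.symm
      by_cases hy : y = X.c
      · subst hy; exact hstar x hxy
      have e0 : Equiv.swap x y = Equiv.swap x X.c * Equiv.swap y X.c * (Equiv.swap x X.c)⁻¹ := by
        rw [← Equiv.swap_apply_apply, Equiv.swap_apply_of_ne_of_ne hxy.symm hy,
          Equiv.swap_apply_right, Equiv.swap_comm]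
      rw [e0]
      exact mul_mem (mul_mem (hstar x hx) (hstar y hy)) (inv_mem (hstar x hx))
    intro g hg
    obtain ⟨k, hk, hke⟩ : X.ρ ⟨g, hg⟩ ∈ ((M.map π).subgroupOf E).map X.ρ.toMonoidHom :=
      htop ▸ mem_top _
    rw [X.ρ.injective hke] at hk
    exact hk

end PU

end CfsgLib.PushUpB
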