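import Cfsg.Agent.PushUpB.Cocycle
import Cfsg.Agent.PushUpB.LocData
import Cfsg.Agent.PushL2.RankOne

/-!
Pushing up: the rank one group over a local piece.
-/

set_option autoImplicit false
set_option linter.style.haveILetI false
set_option linter.unusedSectionVars false

namespace CfsgLib.PushUpB

open Subgroup Matrix CfsgLib.PMinFF CfsgLib.OffGen
open CfsgLib.SL2Pair (up low up_mul up_inv up_zero up_coe low_coe mem_upper mem_lower)

universe u

variable {G : Type u} [Group G] [Finite G] {p : ℕ} [Fact p.Prime] {T : Sylow p G} {M : Subgroup G}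
  {P : Type u} [Group P] [Finite P] {π : G →* P} {W : Type u} [AddCommGroup W] [Finite W]
  [DistribMulAction P W] {e : W ≃ Vo p G} {T' : Sylow p P} {𝓔 : Set (Subgroup P)}
  {E' : Subgroup P} {F : Type} [Field F] [Fintype F]

theorem SLD.charP {T' : Sylow p P} (X : SLD W T' E' F) : CharP F p :=
  charP_of_card_eq_prime_pow (Fintype.card_eq_nat_card.trans X.card)

/-- A subgroup of `SL₂` above the upper unitriangular group. -/
theorem eq_top_or_borel (H : Subgroup (SpecialLinearGroup (Fin 2) F)) (hup : ∀ c, up c ∈ H)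
    {g : SpecialLinearGroup (Fin 2) F} (hg : g ∈ H)
    (h10 : (g : Matrix (Fin 2) (Fin 2) F) 1 0 ≠ 0) : H = ⊤ := by
  set a := (g : Matrix (Fin 2) (Fin 2) F) 0 0
  set c := (g : Matrix (Fin 2) (Fin 2) F) 1 0
  set h := up (-(a / c)) * g with hh
  have hhH : h ∈ H := mul_mem (hup _) hg
  have h00 : (h : Matrix (Fin 2) (Fin 2) F) 0 0 = 0 := by
    simp [hh, up_coe, Matrix.mul_apply, Fin.sum_univ_two]
    field_simp
    ring
  have hlow : ∀ x, low x ∈ H := fun x => by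
    obtain ⟨d, hd⟩ := eq_up_of_fix (h⁻¹ * low x * h) (by
      rw [← mm, ← mm]
      have e1 : (h : Matrix (Fin 2) (Fin 2) F).mulVec ![1, 0] =
          ![0, (h : Matrix (Fin 2) (Fin 2) F) 1 0] := by
        funext i
        fin_cases i <;> simp [Matrix.mulVec, dotProduct, Fin.sum_univ_two, h00]
      rw [e1, show ((low x : SpecialLinearGroup (Fin 2) F) : Matrix (Fin 2) (Fin 2) F).mulVec
        ![0, (h : Matrix (Fin 2) (Fin 2) F) 1 0] = ![0, (h : Matrix (Fin 2) (Fin 2) F) 1 0] from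
        (PMinFF.low_mulVec x _).trans (by simp), ← e1, inv_mulVec])
    rw [show low x = h * (h⁻¹ * low x * h) * h⁻¹ by group, hd]
    exact mul_mem (mul_mem hhH (hup d)) (inv_mem hhH)
  rw [eq_top_iff, ← SL2Pair.sup_eq_top (k := F)]
  refine sup_le (fun m hm => ?_) (fun m hm => ?_)
  · obtain ⟨x, rfl⟩ := mem_lower.1 hm; exact hlow x
  · obtain ⟨x, rfl⟩ := mem_upper.1 hm; exact hup x

/-- A `p`-subgroup above the upper unitriangular group. -/
theorem eq_up_of_pGroup [CharP F p] (H : Subgroup (SpecialLinearGroup (Fin 2) F))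
    (hH : IsPGroup p H) (hup : ∀ c, up c ∈ H) {g : SpecialLinearGroup (Fin 2) F} (hg : g ∈ H) :
    ∃ c, g = up c := by
  letI : MulAction H (Fin 2 → F) :=
    { smul := fun h v => ((h : SpecialLinearGroup (Fin 2) F) : Matrix (Fin 2) (Fin 2) F).mulVec v
      one_smul := fun v => one_mulVec v
      mul_smul := fun h k v => (mm (h : SpecialLinearGroup (Fin 2) F) k v).symm }
  have hdvd : p ∣ Nat.card (Fin 2 → F) := by
    obtain ⟨n, -, hn⟩ := FiniteField.card F p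
    rw [Nat.card_fun, Nat.card_eq_fintype_card (α := F), hn, ← pow_mul]
    exact dvd_pow_self p (Nat.mul_ne_zero n.2.ne' Nat.card_pos.ne')
  obtain ⟨w, hw, hw0⟩ := hH.exists_fixed_point_of_prime_dvd_card_of_fixed_point (Fin 2 → F) hdvd
    (show (0 : Fin 2 → F) ∈ MulAction.fixedPoints H _ from fun h => Matrix.mulVec_zero _)
  have h1 : ((up 1 : SpecialLinearGroup (Fin 2) F) : Matrix (Fin 2) (Fin 2) F).mulVec w = w :=
    hw ⟨_, hup 1⟩
  rw [PMinFF.up_mulVec] at h1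
  have hw1 : w 1 = 0 := by simpa using congrFun h1 0
  have hw00 : w 0 ≠ 0 := fun h0 => hw0 (funext fun i => by fin_cases i <;> simp [h0, hw1])
  refine eq_up_of_fix g ?_
  have h2 : (g : Matrix (Fin 2) (Fin 2) F).mulVec w = w := hw ⟨g, hg⟩
  rw [show (![1, 0] : Fin 2 → F) = (w 0)⁻¹ • w from funext fun i => by
    fin_cases i <;> simp [hw00, hw1], Matrix.mulVec_smul, h2]

/-- The matrix of the action of `g` on the natural quotient. -/
def Act (π : G →* P) (ψ : W →+ (Fin 2 → F)) (g : G) (A : SpecialLinearGroup (Fin 2) F) : Prop :=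
  ∀ v : W, ψ (π g • v) = (A : Matrix (Fin 2) (Fin 2) F).mulVec (ψ v)

/-- The rank one group over a piece. -/
structure LX (T : Sylow p G) (π : G →* P) (E' : Subgroup P) (X : Subgroup G) : Prop where
  B_le : Cfsg.baumannSubgroupOf p (T : Subgroup G) ≤ X
  le_L : X ≤ Lt p (T : Subgroup G)
  image : X.map π = E' ⊔ Jb T π
  min : ∀ Y ≤ X, Cfsg.baumannSubgroupOf p (T : Subgroup G) ≤ Y → Y.map π = E' ⊔ Jb T π → Y = X

namespace Loc

variable (Λ : Loc W T' (M.map π) 𝓔 (Jb T π) E' F)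

theorem exists_mat {z : P} (hz : z ∈ E' ⊔ Jb T π) :
    ∃ A : SpecialLinearGroup (Fin 2) F,
      ∀ v : W, Λ.sld.ψ (z • v) = (A : Matrix (Fin 2) (Fin 2) F).mulVec (Λ.sld.ψ v) := by
  let S : Subgroup P :=
    { carrier := {z | ∃ A : SpecialLinearGroup (Fin 2) F,
        ∀ v : W, Λ.sld.ψ (z • v) = (A : Matrix (Fin 2) (Fin 2) F).mulVec (Λ.sld.ψ v)}
      one_mem' := ⟨1, fun v => by rw [one_smul]; exact (one_mulVec _).symm⟩
      mul_mem' := fun {a b} ⟨A, hA⟩ ⟨B, hB⟩ => ⟨A * B, fun v => by rw [mul_smul, hA, hB, mm]⟩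
      inv_mem' := fun {a} ⟨A, hA⟩ => ⟨A⁻¹, fun v => by
        have := hA (a⁻¹ • v)
        rw [smul_inv_smul] at this
        rw [this, inv_mulVec]⟩ }
  refine (sup_le (fun x hx => ?_) (fun j hj => ?_) : E' ⊔ Jb T π ≤ S) hz
  · exact ⟨Λ.sld.ρ ⟨x, hx⟩, fun v => Λ.sld.equi ⟨x, hx⟩ v⟩
  · obtain ⟨u, hu, -, hm⟩ := Λ.split j hj
    refine ⟨Λ.sld.ρ ⟨u, hu.2⟩, fun v => ?_⟩
    have h1 : Λ.sld.ψ ((u⁻¹ * j) • v) = Λ.sld.ψ v :=
      sub_eq_zero.1 ((map_sub Λ.sld.ψ _ _).symm.trans ((Λ.sld.ker _).2 (hm v)))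
    have h2 := Λ.sld.equi ⟨u, hu.2⟩ ((u⁻¹ * j) • v)
    rw [← mul_smul, mul_inv_cancel_left, h1] at h2
    exact h2

theorem mat_unique {A B : SpecialLinearGroup (Fin 2) F}
    (h : ∀ v : W, (A : Matrix (Fin 2) (Fin 2) F).mulVec (Λ.sld.ψ v) =
      (B : Matrix (Fin 2) (Fin 2) F).mulVec (Λ.sld.ψ v)) : A = B := by
  refine Subtype.ext (Matrix.ext fun i j => ?_)
  obtain ⟨v, -, hv⟩ := Λ.sld.onto (Pi.single j 1)
  have := congrFun (h v) i
  rw [hv] at this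
  simpa using this

/-- The projection onto `SL₂`. -/
noncomputable def proj {X : Subgroup G} (hX : X.map π = E' ⊔ Jb T π) :
    ↥X →* SpecialLinearGroup (Fin 2) F :=
  MonoidHom.mk' (fun g => (Λ.exists_mat (hX.le ⟨g.1, g.2, rfl⟩)).choose) fun g h => Λ.mat_unique
    fun v => by
      have h1 := (Λ.exists_mat (hX.le ⟨g.1, g.2, rfl⟩)).choose_spec (π h • v)
      rw [(Λ.exists_mat (hX.le ⟨h.1, h.2, rfl⟩)).choose_spec v, mm, ← mul_smul, ← map_mul] at h1
      rw [← (Λ.exists_mat (hX.le ⟨(g * h).1, (g * h).2, rfl⟩)).choose_spec v]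
      exact h1

theorem proj_spec {X : Subgroup G} (hX : X.map π = E' ⊔ Jb T π) (g : X) (v : W) :
    Λ.sld.ψ (π g • v) = (Λ.proj hX g : Matrix (Fin 2) (Fin 2) F).mulVec (Λ.sld.ψ v) :=
  (Λ.exists_mat (hX.le ⟨g.1, g.2, rfl⟩)).choose_spec v

theorem proj_eq {X : Subgroup G} (hX : X.map π = E' ⊔ Jb T π) (g : X)
    {A : SpecialLinearGroup (Fin 2) F}
    (h : ∀ v : W, Λ.sld.ψ (π g • v) = (A : Matrix (Fin 2) (Fin 2) F).mulVec (Λ.sld.ψ v)) :
    Λ.proj hX g = A :=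
  Λ.mat_unique fun v => (Λ.proj_spec hX g v).symm.trans (h v)

theorem proj_of_mem {X : Subgroup G} (hX : X.map π = E' ⊔ Jb T π) (g : X) (hg : π g ∈ E') :
    Λ.proj hX g = Λ.sld.ρ ⟨π g, hg⟩ :=
  Λ.proj_eq hX g fun v => Λ.sld.equi ⟨π g, hg⟩ v

theorem proj_surjective {X : Subgroup G} (hX : X.map π = E' ⊔ Jb T π) :
    Function.Surjective (Λ.proj hX) := fun A => by
  obtain ⟨g, hg, hge⟩ := hX.ge (mem_sup_left (Λ.sld.ρ.symm A).2)
  refine ⟨⟨g, hg⟩, Λ.proj_eq hX _ fun v => ?_⟩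
  show Λ.sld.ψ (π g • v) = _
  rw [hge, Λ.sld.equi, Λ.sld.ρ.apply_symm_apply]

theorem exists_u (c : F) : ∃ z ∈ Jb T π, z ∈ E' ∧ ∀ v : W, Λ.sld.ψ (z • v) =
    ((up c : SpecialLinearGroup (Fin 2) F) : Matrix (Fin 2) (Fin 2) F).mulVec (Λ.sld.ψ v) := by
  refine ⟨(Λ.sld.ρ.symm (up c) : E'), Λ.UJ ⟨(Λ.sld.axis _).2 ⟨c, Λ.sld.ρ.apply_symm_apply _⟩,
    Subtype.coe_prop _⟩, Subtype.coe_prop _, fun v => ?_⟩
  rw [Λ.sld.equi, Λ.sld.ρ.apply_symm_apply]

theorem up_mem {X : Subgroup G} (hX : X.map π = E' ⊔ Jb T π) {Y : Subgroup G} (hYX : Y ≤ X)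
    (hJ : Jb T π ≤ Y.map π) (c : F) : up c ∈ (Y.subgroupOf X).map (Λ.proj hX) := by
  obtain ⟨z, hzJ, -, hz⟩ := Λ.exists_u c
  obtain ⟨y, hy, hyz⟩ := hJ hzJ
  refine ⟨⟨y, hYX hy⟩, hy, Λ.proj_eq hX _ fun v => ?_⟩
  show Λ.sld.ψ (π y • v) = _
  rw [hyz]; exact hz v

theorem proj_B {X : Subgroup G} (hX : X.map π = E' ⊔ Jb T π) (b : X) (hb : π b ∈ Jb T π) :
    ∃ c, Λ.proj hX b = up c := by
  obtain ⟨u, hu, -, hm⟩ := Λ.split _ hb
  obtain ⟨c, hc⟩ := (Λ.sld.axis ⟨u, hu.2⟩).1 hu.1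
  refine ⟨c, Λ.proj_eq hX b fun v => ?_⟩
  have h1 : Λ.sld.ψ ((u⁻¹ * π b) • v) = Λ.sld.ψ v :=
    sub_eq_zero.1 ((map_sub Λ.sld.ψ _ _).symm.trans ((Λ.sld.ker _).2 (hm v)))
  have h2 := Λ.sld.equi ⟨u, hu.2⟩ ((u⁻¹ * π b) • v)
  rw [← mul_smul, mul_inv_cancel_left, h1, hc] at h2
  exact h2

include Λ in
theorem mem_split {z : P} (hz : z ∈ E' ⊔ Jb T π) :
    ∃ a ∈ E', ∃ r ∈ Jb T π, (∀ x ∈ E', r * x = x * r) ∧ r ∈ modFix W E' ∧ a * r = z := by
  let R : Subgroup P :=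
    { carrier := {r | r ∈ Jb T π ∧ (∀ x ∈ E', r * x = x * r) ∧ r ∈ modFix W E'}
      one_mem' := ⟨one_mem _, fun x _ => by simp, one_mem _⟩
      mul_mem' := fun {a b} ha hb => ⟨mul_mem ha.1 hb.1,
        fun x hx => by rw [mul_assoc, hb.2.1 x hx, ← mul_assoc, ha.2.1 x hx, mul_assoc],
        mul_mem ha.2.2 hb.2.2⟩
      inv_mem' := fun {a} ha => ⟨inv_mem ha.1, fun x hx => by
          rw [inv_mul_eq_iff_eq_mul, ← mul_assoc, ha.2.1 x hx, mul_inv_cancel_right],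
        inv_mem ha.2.2⟩ }
  have hEN : E' ≤ normalizer (R : Set P) := fun a ha => mem_normalizer_iff.2 fun r =>
    ⟨fun hr => by rwa [← hr.2.1 a ha, mul_inv_cancel_right], fun hr => by
      have h1 := hr.2.1 a ha
      have h2 : a * r * a⁻¹ = r := by
        calc a * r * a⁻¹ = a⁻¹ * (a * (a * r * a⁻¹)) := by group
          _ = a⁻¹ * ((a * r * a⁻¹) * a) := by rw [h1]
          _ = r := by group
      rwa [h2] at hr⟩
  have hle : E' ⊔ Jb T π ≤ E' ⊔ R := sup_le le_sup_left fun j hj => by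
    obtain ⟨u, hu, hc, hm⟩ := Λ.split j hj
    have : u * (u⁻¹ * j) ∈ E' ⊔ R := mul_mem (mem_sup_left hu.2)
      (mem_sup_right (show u⁻¹ * j ∈ R from ⟨mul_mem (inv_mem (Λ.UJ hu)) hj, hc, hm⟩))
    rwa [mul_inv_cancel_left] at this
  obtain ⟨a, ha, r, hr, rfl⟩ := (CfsgLib.Solvable.mem_sup_of_le_normalizer hEN).1 (hle hz)
  exact ⟨a, ha, r, hr.1, hr.2.1, hr.2.2, rfl⟩

theorem proj_split {X : Subgroup G} (hX : X.map π = E' ⊔ Jb T π) (g : X) {a r : P} (ha : a ∈ E')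
    (hr : r ∈ modFix W E') (hgar : a * r = π g) : Λ.proj hX g = Λ.sld.ρ ⟨a, ha⟩ :=
  Λ.proj_eq hX g fun v => by
    rw [← hgar, mul_smul, Λ.sld.equi ⟨a, ha⟩ (r • v),
      sub_eq_zero.1 ((map_sub Λ.sld.ψ _ _).symm.trans ((Λ.sld.ker _).2 (hr v)))]

/-- A subgroup over `J(T)` with full projection covers the piece. -/
theorem map_eq_top {X : Subgroup G} (hX : X.map π = E' ⊔ Jb T π) {Y : Subgroup G} (hYX : Y ≤ X)
    (hJ : Jb T π ≤ Y.map π) (htop : (Y.subgroupOf X).map (Λ.proj hX) = ⊤) :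
    Y.map π = E' ⊔ Jb T π := by
  refine le_antisymm (hX ▸ Subgroup.map_mono hYX) (sup_le (fun a ha => ?_) hJ)
  obtain ⟨y, hy, hye⟩ : Λ.sld.ρ ⟨a, ha⟩ ∈ (Y.subgroupOf X).map (Λ.proj hX) := htop ▸ mem_top _
  obtain ⟨a', ha', r, hrJ, -, hr, hy'⟩ := Λ.mem_split (hX.le ⟨y.1, y.2, rfl⟩)
  rw [Λ.proj_split hX y ha' hr hy'] at hye
  have haa : a' = a := congrArg Subtype.val (Λ.sld.ρ.injective hye)
  have h1 : π y * r⁻¹ ∈ Y.map π :=
    (Y.map π).mul_mem (Subgroup.mem_map_of_mem π hy) ((Y.map π).inv_mem (hJ hrJ))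
  rwa [← hy', mul_inv_cancel_right, haa] at h1

/-- The unique maximal subgroup over `B(T)`. -/
noncomputable def bor {X : Subgroup G} (hX : X.map π = E' ⊔ Jb T π) : Subgroup ↥X :=
  { carrier := {g | (Λ.proj hX g : Matrix (Fin 2) (Fin 2) F) 1 0 = 0}
    one_mem' := by simp
    mul_mem' := fun {a b} (ha : _ = 0) (hb : _ = 0) => by
      show _ = 0
      rw [map_mul]
      simp [Matrix.mul_apply, Fin.sum_univ_two, ha, hb]
    inv_mem' := fun {a} (ha : _ = 0) => by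
      show _ = 0
      rw [map_inv]
      simp [Matrix.adjugate_fin_two, ha] }

end Loc

namespace PU

variable (D : PU T M π e T' 𝓔) (Λ : Loc W T' (M.map π) 𝓔 (Jb T π) E' F)
include D Λ

theorem exists_LX : ∃ X, LX T π E' X := by
  set B := Cfsg.baumannSubgroupOf p (T : Subgroup G)
  have hne : {X : Subgroup G | B ≤ X ∧ X ≤ Lt p (T : Subgroup G) ∧
      X.map π = E' ⊔ Jb T π}.Nonempty := by
    refine ⟨(E' ⊔ Jb T π).comap π ⊓ Lt p (T : Subgroup G), le_inf ?_ D.B_le_Lt, inf_le_right,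
      le_antisymm ((Subgroup.map_mono inf_le_left).trans (Subgroup.map_comap_le _ _)) ?_⟩
    · exact Subgroup.map_le_iff_le_comap.1 (D.map_B.le.trans le_sup_right)
    · intro z hz
      obtain ⟨g, hg, rfl⟩ := D.map_Lt.ge ((sup_le Λ.le_N D.Jb_le_N) hz)
      exact ⟨g, ⟨hz, hg⟩, rfl⟩
  obtain ⟨X, ⟨h1, h2, h3⟩, hmin⟩ := Set.Finite.exists_minimal (Set.toFinite _) hne
  exact ⟨X, h1, h2, h3, fun Y hY hBY hYm =>
    le_antisymm hY (hmin ⟨hBY, hY.trans h2, hYm⟩ hY)⟩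

variable {X : Subgroup G} (hX : LX T π E' X)
include hX

theorem LX_not_le : ¬ X ≤ M := fun h =>
  Λ.notM fun z hz => by
    obtain ⟨g, hg, rfl⟩ := hX.image.ge (mem_sup_left hz)
    exact Subgroup.mem_map_of_mem π (h hg)

theorem sylow_eq {R : Subgroup G} (hR : IsPGroup p R) (hBR : Cfsg.baumannSubgroupOf p (T : Subgroup G) ≤ R)
    (hRX : R ≤ X) : R = Cfsg.baumannSubgroupOf p (T : Subgroup G) := by
  haveI := Λ.sld.charP
  refine le_antisymm (fun r hr => ?_) hBR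
  have hJR : Jb T π ≤ R.map π := D.map_B ▸ Subgroup.map_mono hBR
  obtain ⟨a, ha, r₀, hr₀J, -, hr₀, har⟩ := Λ.mem_split (hX.image.le ⟨r, hRX hr, rfl⟩)
  obtain ⟨c, hc⟩ := eq_up_of_pGroup ((R.subgroupOf X).map (Λ.proj hX.image))
    ((hR.comap_subtype (K := X)).map _) (Λ.up_mem hX.image hRX hJR)
    ⟨⟨r, hRX hr⟩, hr, rfl⟩
  rw [Λ.proj_split hX.image ⟨r, hRX hr⟩ ha hr₀ har] at hc
  have haJ : a ∈ Jb T π := Λ.UJ ⟨(Λ.sld.axis ⟨a, ha⟩).2 ⟨c, hc⟩, ha⟩
  have hrJ : π r ∈ (Cfsg.baumannSubgroupOf p (T : Subgroup G)).map π :=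
    D.map_B.symm ▸ (har ▸ mul_mem haJ hr₀J : π r ∈ Jb T π)
  obtain ⟨b, hb, hbr⟩ := hrJ
  have hk : b⁻¹ * r ∈ R ⊓ (Lt p (T : Subgroup G) ⊓ π.ker) :=
    ⟨R.mul_mem (R.inv_mem (hBR hb)) hr,
      (Lt p (T : Subgroup G)).mul_mem ((Lt p (T : Subgroup G)).inv_mem (D.B_le_Lt hb))
        (hX.le_L (hRX hr)), by
      show π (b⁻¹ * r) = 1
      rw [map_mul, map_inv, hbr, inv_mul_cancel]⟩
  have h2 := D.pGroup_ker_le (hR.to_le inf_le_left) inf_le_right hk
  have := (Cfsg.baumannSubgroupOf p (T : Subgroup G)).mul_mem hb h2.2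
  rwa [mul_inv_cancel_left] at this

omit hX in
theorem centralizer_Qz_Q {g : G} (hg : (orderOf g).Coprime p)
    (hc : ∀ z ∈ Qz p (T : Subgroup G), g * z = z * g) : g = 1 := by
  have hfix : ∀ x ∈ Cfsg.pCore p G, g * x = x * g := by
    intro x hx
    set d := g * x * g⁻¹ * x⁻¹ with hd
    have hdQ : d ∈ Cfsg.pCore p G :=
      mul_mem ((Q_normal).conj_mem x hx g) (inv_mem hx)
    have hdz : ∀ z ∈ Qz p (T : Subgroup G), d * z = z * d := by
      intro z hz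
      have h1 : x⁻¹ * z * x ∈ Qz p (T : Subgroup G) := by
        simpa using (D.Qz_normal).conj_mem z hz x⁻¹
      have h2 := hc _ h1
      have h3 := hc z hz
      have e1 : g * x * g⁻¹ * (x⁻¹ * z * x) * (g * x * g⁻¹)⁻¹ = z := by
        calc g * x * g⁻¹ * (x⁻¹ * z * x) * (g * x * g⁻¹)⁻¹
            = g * x * (g⁻¹ * ((x⁻¹ * z * x) * g)) * x⁻¹ * g⁻¹ := by group
          _ = g * z * g⁻¹ := by rw [← h2]; group
          _ = z := by rw [h3, mul_inv_cancel_right]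
      calc d * z = (g * x * g⁻¹ * (x⁻¹ * z * x) * (g * x * g⁻¹)⁻¹) * d := by rw [hd]; group
        _ = z * d := by rw [e1]
    have hdQz : d ∈ Qz p (T : Subgroup G) := D.mem_Qz.2 ⟨hdQ, fun y hy =>
      (hdz y (D.Y_le_Qz hy)).symm⟩
    have hgd := hc d hdQz
    have hpow : ∀ k : ℕ, g ^ k * x = d ^ k * x * g ^ k := by
      intro k
      induction k with
      | zero => simp
      | succ k ih =>
        have hcom : Commute g d := hgd
        calc g ^ (k + 1) * x = g * (g ^ k * x) := by rw [pow_succ', mul_assoc]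
          _ = g * (d ^ k * x * g ^ k) := by rw [ih]
          _ = (g * d ^ k) * x * g ^ k := by group
          _ = (d ^ k * g) * x * g ^ k := by rw [(hcom.pow_right k).eq]
          _ = d ^ k * (g * x * g⁻¹ * x⁻¹) * x * (g * g ^ k) := by group
          _ = _ := by rw [← hd, ← pow_succ, ← pow_succ']
    have h1 := hpow (orderOf g)
    rw [pow_orderOf_eq_one, one_mul, mul_one, right_eq_mul] at h1
    obtain ⟨k, hk⟩ := (CfsgLib.Solvable.isPGroup_pCore p : IsPGroup p (Cfsg.pCore p G)) ⟨d, hdQ⟩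
    have hk' : d ^ p ^ k = 1 := congrArg Subtype.val hk
    have hd1 : d = 1 := by
      have := pow_gcd_eq_one.2 ⟨hk', h1⟩
      rwa [(hg.symm.pow_left k), pow_one] at this
    rw [hd] at hd1
    exact mul_inv_eq_iff_eq_mul.1 (mul_inv_eq_one.1 hd1)
  obtain ⟨k, hk⟩ := (CfsgLib.Solvable.isPGroup_pCore p : IsPGroup p (Cfsg.pCore p G))
    ⟨g, D.hG (mem_centralizer_iff.2 fun x hx => (hfix x hx).symm)⟩
  have := pow_gcd_eq_one.2 ⟨(congrArg Subtype.val hk : g ^ p ^ k = 1), pow_orderOf_eq_one g⟩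
  rwa [(hg.symm.pow_left k), pow_one] at this

theorem centralizer_pCore_le :
    centralizer (Cfsg.pCore p ↥X : Set ↥X) ≤ Cfsg.pCore p ↥X := by
  set Q₀ := (Qz p (T : Subgroup G)).subgroupOf X
  haveI := D.Qz_normal
  haveI : Q₀.Normal := Subgroup.Normal.comap inferInstance _
  have hQ₀p : IsPGroup p Q₀ := (T.isPGroup'.to_le (inf_le_left.trans D.Q_le_T)).comap_subtype
  have hQ₀le : Q₀ ≤ Cfsg.pCore p ↥X := CfsgLib.Solvable.le_pCore p inferInstance hQ₀p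
  refine le_trans (centralizer_le hQ₀le) (CfsgLib.Solvable.le_pCore p inferInstance ?_)
  rw [IsPGroup.iff_card]
  by_contra hno
  obtain ⟨r, hr, hrp, hdvd⟩ : ∃ r : ℕ, r.Prime ∧ r ≠ p ∧ r ∣ Nat.card (centralizer (Q₀ : Set ↥X)) := by
    by_contra hall
    push Not at hall
    exact hno ⟨_, Nat.eq_prime_pow_of_unique_prime_dvd Nat.card_pos.ne' fun {d} hd hdd => by
      by_contra hne
      exact hall d hd hne hdd⟩
  haveI : Fact r.Prime := ⟨hr⟩
  obtain ⟨x, hx⟩ := exists_prime_orderOf_dvd_card' r hdvd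
  have hord : orderOf ((x : ↥X) : G) = r := by rw [Subgroup.orderOf_coe, Subgroup.orderOf_coe, hx]
  have h1 := D.centralizer_Qz_Q Λ (g := ((x : ↥X) : G)) (by
    rw [hord]; exact (Nat.coprime_primes hr Fact.out).2 hrp) fun z hz => by
    have hzX : z ∈ X := hX.B_le hz.2
    exact congrArg Subtype.val (mem_centralizer_iff.1 x.2 ⟨z, hzX⟩ hz).symm
  rw [h1, orderOf_one] at hord
  exact hr.ne_one hord.symm

theorem le_bor {Y : Subgroup ↥X}
    (hY : (Cfsg.baumannSubgroupOf p (T : Subgroup G)).subgroupOf X ≤ Y) (hne : Y ≠ ⊤) :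
    Y ≤ Λ.bor hX.image := by
  intro g hg
  by_contra h10
  set Y' := Y.map X.subtype with hY'
  have hY'X : Y' ≤ X := map_subtype_le _
  have hBY : Cfsg.baumannSubgroupOf p (T : Subgroup G) ≤ Y' := fun b hb =>
    ⟨⟨b, hX.B_le hb⟩, hY hb, rfl⟩
  have hJY : Jb T π ≤ Y'.map π := D.map_B ▸ Subgroup.map_mono hBY
  have hsub : Y'.subgroupOf X = Y := Subgroup.comap_map_eq_self_of_injective X.subtype_injective Y
  have htop : (Y'.subgroupOf X).map (Λ.proj hX.image) = ⊤ :=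
    eq_top_or_borel _ (Λ.up_mem hX.image hY'X hJY) ⟨g, hsub.ge hg, rfl⟩ h10
  refine hne ?_
  rw [← hsub, hX.min Y' hY'X hBY (Λ.map_eq_top hX.image hY'X hJY htop), Subgroup.subgroupOf_self]

theorem bor_ne_top : Λ.bor hX.image ≠ ⊤ := fun h => by
  obtain ⟨g, hg⟩ := Λ.proj_surjective hX.image (low 1)
  have h1 : (Λ.proj hX.image g : Matrix (Fin 2) (Fin 2) F) 1 0 = 0 :=
    (h ▸ mem_top g : g ∈ Λ.bor hX.image)
  rw [hg, low_coe] at h1
  simp at h1

theorem B_le_bor : (Cfsg.baumannSubgroupOf p (T : Subgroup G)).subgroupOf X ≤ Λ.bor hX.image := by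
  intro g hg
  obtain ⟨c, hc⟩ := Λ.proj_B hX.image g (D.map_B ▸ Subgroup.mem_map_of_mem π hg)
  show _ = 0
  rw [hc, up_coe]; simp

theorem exists_rankOne :
    ∃ (S : Sylow p ↥X) (M₀ : Subgroup ↥X),
      (S : Subgroup ↥X) = (Cfsg.baumannSubgroupOf p (T : Subgroup G)).subgroupOf X ∧
      PushL2.NoChar p S (Nat.card F) M₀ ∧
      (PushL2.One p S ∨ PushL2.Two p S (Nat.card F) M₀) := by
  classical
  set B := Cfsg.baumannSubgroupOf p (T : Subgroup G) with hB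
  have hBp : IsPGroup p (B.subgroupOf X) := (T.isPGroup'.to_le inf_le_left).comap_subtype
  let S : Sylow p ↥X :=
    { toSubgroup := B.subgroupOf X
      isPGroup' := hBp
      is_maximal' := fun {Q} hQ hle => by
        have h1 := D.sylow_eq Λ hX (hQ.map X.subtype) (fun b hb => ⟨⟨b, hX.B_le hb⟩, hle hb, rfl⟩)
          (map_subtype_le Q)
        rw [show B.subgroupOf X = (Q.map X.subtype).subgroupOf X by rw [h1]]
        exact (Subgroup.comap_map_eq_self_of_injective X.subtype_injective Q).symm }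
  have hS : (S : Subgroup ↥X) = B.subgroupOf X := rfl
  have huniq : ∃! M₁ : Subgroup ↥X, IsCoatom M₁ ∧ (S : Subgroup ↥X) ≤ M₁ := by
    refine ⟨Λ.bor hX.image, ⟨⟨D.bor_ne_top Λ hX, fun Y hY => ?_⟩, D.B_le_bor Λ hX⟩, fun Y hY => ?_⟩
    · by_contra hne
      exact hY.not_ge (D.le_bor Λ hX ((D.B_le_bor Λ hX).trans hY.le) hne)
    · have hle := D.le_bor Λ hX hY.2 hY.1.1
      exact ((hY.1.le_iff.1 hle).resolve_left (D.bor_ne_top Λ hX)).symm
  let f : ↥X →* Matrix.ProjectiveSpecialLinearGroup (Fin 2) F :=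
    (QuotientGroup.mk' _).comp (Λ.proj hX.image)
  have hf : Function.Surjective f :=
    (QuotientGroup.mk'_surjective _).comp (Λ.proj_surjective hX.image)
  have hd : ∀ C : Subgroup ↥(S : Subgroup ↥X), C ≠ ⊥ → C.Characteristic →
      ¬ (C.map (S : Subgroup ↥X).subtype).Normal := by
    intro C hC hCchar hn
    haveI := hCchar
    set C' := (C.map (S : Subgroup ↥X).subtype).map X.subtype with hC'
    have hC'B : C' ≤ B := by
      rintro - ⟨-, ⟨c, -, rfl⟩, rfl⟩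
      exact c.2
    have hne : C' ≠ ⊥ := fun h => hC (by
      rwa [hC', Subgroup.map_eq_bot_iff_of_injective _ X.subtype_injective,
        Subgroup.map_eq_bot_iff_of_injective _ (Subgroup.subtype_injective _)] at h)
    let φ : ↥(S : Subgroup ↥X) ≃* ↥B := Subgroup.subgroupOfEquivOfLe hX.B_le
    have hchar : (C'.subgroupOf B).Characteristic := by
      have hmap : C'.subgroupOf B = C.map φ.toMonoidHom := by
        ext b
        constructor
        · rintro ⟨-, ⟨c, hc, rfl⟩, hcb⟩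
          exact ⟨c, hc, Subtype.ext hcb⟩
        · rintro ⟨c, hc, rfl⟩
          exact ⟨_, ⟨c, hc, rfl⟩, rfl⟩
      rw [hmap]
      refine characteristic_iff_map_le.2 fun α => ?_
      rintro - ⟨-, ⟨c, hc, rfl⟩, rfl⟩
      have h1 := (characteristic_iff_map_le.1 hCchar ((φ.trans α).trans φ.symm)) ⟨c, hc, rfl⟩
      exact ⟨_, h1, by simp⟩
    refine D.hchar C' hC'B hne hchar (Subgroup.normalizer_eq_top_iff.1 ?_)
    have hTB : (T : Subgroup G) ≤ normalizer (B : Set G) :=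
      CfsgLib.Baumann.le_normalizer_baumann T T.isPGroup' inf_le_left
    haveI := hchar
    have hTC : (T : Subgroup G) ≤ normalizer (C' : Set G) :=
      hTB.trans ((CfsgLib.SelfThree.normalizer_le_of_char (C'.subgroupOf B)).trans
        (le_of_eq (by rw [Subgroup.subgroupOf_map_subtype, inf_eq_left.2 hC'B])))
    refine (D.hover.2.2 _ hTC).resolve_right fun hM => D.LX_not_le Λ hX fun x hx => hM ?_
    refine mem_normalizer_of_le ?_
    rintro - ⟨-, ⟨c, hc, rfl⟩, rfl⟩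
    exact ⟨_, hn.conj_mem c hc ⟨x, hx⟩, rfl⟩
  obtain ⟨M₁, hN, hcase⟩ := PushL2.rankOne S (D.centralizer_pCore_le Λ hX) huniq f.ker F
    Λ.sld.n Λ.sld.hn Λ.sld.card (QuotientGroup.quotientKerEquivOfSurjective f hf) hd
  exact ⟨S, M₁, hS, hN, hcase⟩

end PU

end CfsgLib.PushUpB
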