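import Cfsg.Agent.PushUpB.OddAutMems
import Cfsg.Agent.LocalB.CTTools

/-!
Pushing up with automorphisms of odd order of a Sylow 2-subgroup `T` (for S3022).

For an automorphism `a` of `T` the image of `V = Ω₁Z(O₂(G))` under `a` either commutes with `V` or
acts on it as the whole image of `J(T)`. In the second case two such images commute with each
other, and non-commuting along three steps gives non-commuting along one. An automorphism of odd
order never moves `V` to a non-commuting image.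
-/

set_option autoImplicit false
set_option linter.style.haveILetI false
set_option linter.unusedSectionVars false

namespace CfsgLib.PushUpB

open Subgroup Matrix CfsgLib.PMinFF CfsgLib.OffGen

universe u

variable {G : Type u} [Group G] [Finite G] {T : Sylow 2 G} {M : Subgroup G}
  {P : Type u} [Group P] [Finite P] {π : G →* P} {W : Type u} [AddCommGroup W] [Finite W]
  [DistribMulAction P W] {e : W ≃ Vo 2 G} {T' : Sylow 2 P} {𝓔 : Set (Subgroup P)}

/-- `Ω₁Z(O₂(G))` in the Sylow subgroup. -/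
abbrev Vs (T : Sylow 2 G) : Subgroup ↥(T : Subgroup G) := (Vo 2 G).subgroupOf (T : Subgroup G)

/-- The Baumann subgroup in the Sylow subgroup. -/
abbrev Bs (T : Sylow 2 G) : Subgroup ↥(T : Subgroup G) :=
  (Cfsg.baumannSubgroupOf 2 (T : Subgroup G)).subgroupOf (T : Subgroup G)

/-- `O₂(G) ∩ B(T)` in the Sylow subgroup. -/
abbrev Rs (T : Sylow 2 G) : Subgroup ↥(T : Subgroup G) :=
  (Qz 2 (T : Subgroup G)).subgroupOf (T : Subgroup G)

/-- Two images of `Ω₁Z(O₂(G))` that do not commute. -/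
def AdjV (T : Sylow 2 G) (a b : MulAut ↥(T : Subgroup G)) : Prop :=
  ∃ v ∈ Vs T, ∃ w ∈ Vs T, ¬ Commute (a v) (b w)

/-- The action of the image of `Ω₁Z(O₂(G))` under `a`. -/
abbrev Xim (T : Sylow 2 G) (π : G →* P) (a : MulAut ↥(T : Subgroup G)) : Subgroup P :=
  ((Vs T).map a.toMonoidHom).map (π.comp (T : Subgroup G).subtype)

theorem AdjV.symm {a b : MulAut ↥(T : Subgroup G)} : AdjV T a b → AdjV T b a :=
  fun ⟨v, hv, w, hw, h⟩ => ⟨w, hw, v, hv, fun e => h e.symm⟩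

theorem AdjV.mul_left {a b : MulAut ↥(T : Subgroup G)} (c : MulAut ↥(T : Subgroup G)) :
    AdjV T a b → AdjV T (c * a) (c * b) :=
  fun ⟨v, hv, w, hw, h⟩ => ⟨v, hv, w, hw, fun e => h (by
    simpa using e.map c.symm.toMonoidHom)⟩

theorem Vs_commute {v w : ↥(T : Subgroup G)} (hv : v ∈ Vs T) (hw : w ∈ Vs T) : Commute v w :=
  Subtype.ext (CfsgLib.Thompson.elab_commute elab_Vo hv hw)

theorem Vs_sq {v : ↥(T : Subgroup G)} (hv : v ∈ Vs T) : v * v = 1 := by
  rw [← pow_two]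
  exact Subtype.ext (elab_Vo.2 _ hv)

theorem not_adjV_self (a : MulAut ↥(T : Subgroup G)) : ¬ AdjV T a a :=
  fun ⟨_, hv, _, hw, h⟩ => h ((Vs_commute hv hw).map a.toMonoidHom)

/-- The Baumann subgroup is invariant. -/
theorem map_mem_Bs (a : MulAut ↥(T : Subgroup G)) {x : ↥(T : Subgroup G)} (hx : x ∈ Bs T) :
    a x ∈ Bs T := by
  have h := CfsgLib.CTheorem.characteristic_of_baumann (p := 2) (S := (T : Subgroup G))
    (C := Cfsg.baumannSubgroupOf 2 (T : Subgroup G)) le_rfl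
    (by rw [Subgroup.subgroupOf_self]; infer_instance)
  exact mem_comap.1 ((characteristic_iff_comap_eq.1 h a).ge hx)

/-- Products in two factorizations of commuting elements. -/
theorem commutator_of_factor {H : Type*} [Group H] {u u' w w' k k' : H} (huu : Commute u u')
    (hku' : Commute k u') (hkw' : Commute k w') (hk'u : Commute k' u) (hk'w : Commute k' w)
    (hu : u⁻¹ = u) (hu' : u'⁻¹ = u') (h : Commute (u * w * k) (u' * w' * k')) :
    u' * w * u'⁻¹ * w' * (k * k') = u * w' * u⁻¹ * w * (k' * k) := by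
  have e1 : u * w * k * (u' * w' * k') = u * u' * (u'⁻¹ * w * u' * w' * (k * k')) := by
    calc u * w * k * (u' * w' * k') = u * w * ((k * u') * w') * k' := by group
      _ = u * w * (u' * (k * w')) * k' := by rw [hku'.eq]; group
      _ = u * w * u' * (w' * k) * k' := by rw [hkw'.eq]; group
      _ = _ := by group
  have e2 : u' * w' * k' * (u * w * k) = u' * u * (u⁻¹ * w' * u * w * (k' * k)) := by
    calc u' * w' * k' * (u * w * k) = u' * w' * ((k' * u) * w) * k := by group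
      _ = u' * w' * (u * (k' * w)) * k := by rw [hk'u.eq]; group
      _ = u' * w' * u * (w * k') * k := by rw [hk'w.eq]; group
      _ = _ := by group
  have h' := h.eq
  rw [e1, e2, ← huu.eq] at h'
  have h2 := mul_left_cancel h'
  rw [show u * w' * u⁻¹ = u⁻¹ * w' * u by rw [hu],
    show u' * w * u'⁻¹ = u'⁻¹ * w * u' by rw [hu']]
  exact h2

namespace PU

variable (D : PU T M π e T' 𝓔)
include D

theorem Vs_le_Rs : Vs T ≤ Rs T := fun _ h => D.V_le_Qz h

theorem Vs_le_Bs : Vs T ≤ Bs T := fun _ h => (D.V_le_Qz h).2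

theorem π_eq_one {x : ↥(T : Subgroup G)} (hx : x ∈ Rs T) : π (x : G) = 1 :=
  D.eq_one (D.Q_le_ker hx.1)

theorem mem_Rs {x : ↥(T : Subgroup G)} (hx : x ∈ Bs T) (h : π (x : G) = 1) : x ∈ Rs T :=
  ⟨D.mem_Q_of_ker x.2 h, hx⟩

theorem Rs_commute {x v : ↥(T : Subgroup G)} (hx : x ∈ Rs T) (hv : v ∈ Vs T) : Commute x v :=
  Subtype.ext (D.ker_commute (D.Q_le_ker hx.1) hv)

theorem mem_Rs_of_commute {x : ↥(T : Subgroup G)} (hx : x ∈ Bs T)
    (h : ∀ v ∈ Vs T, Commute x v) : x ∈ Rs T := by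
  refine D.mem_Rs hx (D.quot.faithful _ fun y => D.quot.smul_eq_iff.2 ?_)
  exact congrArg Subtype.val (h ⟨(e y : G), D.V_le_T (e y).2⟩ (e y).2).eq

theorem exists_val {w : ↥(T : Subgroup G)} (hw : w ∈ Vs T) : ∃ y : W, (e y : G) = w :=
  D.quot.exists_of_mem hw

/-- Membership in the translate of `O₂(G) ∩ B(T)`. -/
theorem symm_mem_Rs {u : MulAut ↥(T : Subgroup G)} {x : ↥(T : Subgroup G)} (hx : x ∈ Bs T)
    (h : ∀ v ∈ Vs T, Commute x (u v)) : u.symm x ∈ Rs T := by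
  refine D.mem_Rs_of_commute (map_mem_Bs u.symm hx) fun v hv => ?_
  have := (h v hv).map u.symm.toMonoidHom
  simpa using this

theorem commute_of_symm_mem {u : MulAut ↥(T : Subgroup G)} {x v : ↥(T : Subgroup G)}
    (hx : u.symm x ∈ Rs T) (hv : v ∈ Vs T) : Commute x (u v) := by
  have := (D.Rs_commute hx hv).map u.toMonoidHom
  simpa using this

theorem Xim_le_Jb (a : MulAut ↥(T : Subgroup G)) : Xim T π a ≤ Jb T π := by
  rintro _ ⟨_, ⟨v, hv, rfl⟩, rfl⟩
  exact D.map_B.le (mem_map_of_mem π (map_mem_Bs a (D.Vs_le_Bs hv)))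

theorem Xim_inv (a : MulAut ↥(T : Subgroup G)) :
    ∀ t ∈ (T' : Subgroup P), cj t (Xim T π a) ≤ Xim T π a := by
  intro t ht
  rw [D.hT'] at ht
  obtain ⟨t₀, ht₀, rfl⟩ := ht
  rintro _ ⟨_, ⟨_, ⟨v, hv, rfl⟩, rfl⟩, rfl⟩
  set s := a.symm ⟨t₀, ht₀⟩ with hs
  refine ⟨a (s * v * s⁻¹), ⟨s * v * s⁻¹, (Vo_normal (G := G) (p := 2)).conj_mem _ hv _, rfl⟩, ?_⟩
  rw [map_mul a, map_mul a, map_inv, hs, a.apply_symm_apply]
  simp

/-- The image of `a(V)` measures as an offender. -/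
theorem meas_Xim (a : MulAut ↥(T : Subgroup G)) : meas W (Xim T π a) = Nat.card W := by
  set φ := π.comp (T : Subgroup G).subtype with hφ
  set C : MulAut ↥(T : Subgroup G) → Subgroup ↥(T : Subgroup G) :=
    fun a => Vs T ⊓ centralizer (((Vs T).map a.toMonoidHom : Subgroup _) : Set _) with hC
  have hcardV : Nat.card W = Nat.card (Vs T) :=
    (Nat.card_congr e).trans (Nat.card_congr (subgroupOfEquivOfLe D.V_le_T).toEquiv).symm
  have hfix : ∀ a, Nat.card (fix W (Xim T π a)) = Nat.card (C a) := by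
    intro a
    refine Nat.card_eq_of_bijective (fun k => ⟨⟨(e k.1 : G), D.V_le_T (e k.1).2⟩, (e k.1).2,
      mem_centralizer_iff.2 fun y hy => Subtype.ext
        (D.quot.smul_eq_iff.1 (k.2 _ ⟨y, hy, rfl⟩))⟩) ⟨fun k l h => ?_, fun c => ?_⟩
    · exact Subtype.ext (e.injective (Subtype.ext
        (congrArg (fun z : C a => ((z : ↥(T : Subgroup G)) : G)) h :)))
    · obtain ⟨k, hk⟩ := D.exists_val c.2.1
      refine ⟨⟨k, ?_⟩, Subtype.ext (Subtype.ext hk)⟩
      rintro _ ⟨y, hy, rfl⟩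
      refine D.quot.smul_eq_iff.2 ?_
      rw [hk]
      exact congrArg Subtype.val (mem_centralizer_iff.1 c.2.2 y hy)
  have hker : ∀ a, (Vs T).map a.toMonoidHom ⊓ φ.ker = (C a⁻¹).map a.toMonoidHom := by
    intro a
    ext x
    constructor
    · rintro ⟨⟨w, hw, rfl⟩, hx⟩
      refine ⟨w, ⟨hw, mem_centralizer_iff.2 ?_⟩, rfl⟩
      rintro _ ⟨v, hv, rfl⟩
      have h1 := (D.Rs_commute (D.mem_Rs (map_mem_Bs a (D.Vs_le_Bs hw)) hx) hv).map
        a.symm.toMonoidHom
      simpa [Commute, SemiconjBy] using h1.eq.symm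
    · rintro ⟨w, hw, rfl⟩
      refine ⟨⟨w, hw.1, rfl⟩, D.π_eq_one (D.mem_Rs_of_commute (map_mem_Bs a (D.Vs_le_Bs hw.1))
        fun v hv => ?_)⟩
      have h1 := (show Commute w (a⁻¹ v) from
        (mem_centralizer_iff.1 hw.2 _ ⟨v, hv, rfl⟩).symm).map a.toMonoidHom
      simpa using h1
  have hcm : ∀ (a : MulAut ↥(T : Subgroup G)) (K : Subgroup ↥(T : Subgroup G)),
      Nat.card (K.map a.toMonoidHom) = Nat.card K := fun a K =>
    (Nat.card_congr (K.equivMapOfInjective a.toMonoidHom a.injective).toEquiv).symm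
  have hle : ∀ a, Nat.card (C a) ≤ Nat.card (C a⁻¹) := by
    intro a
    have h1 := card_map_mul_ker φ ((Vs T).map a.toMonoidHom)
    rw [hker, hcm, hcm,
      ← hcardV] at h1
    have h2 := D.hyp.meas_le (D.Jb_elem.mono (D.Xim_le_Jb a))
    rw [meas, hfix, h1] at h2
    exact Nat.le_of_mul_le_mul_left h2 Nat.card_pos
  have h1 := card_map_mul_ker φ ((Vs T).map a.toMonoidHom)
  rw [hker, hcm, hcm, ← hcardV] at h1
  rw [meas, hfix, h1, le_antisymm (hle a) (by simpa using hle a⁻¹)]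

/-- A non-commuting image acts as the whole image of `J(T)`. -/
theorem Xim_eq {a : MulAut ↥(T : Subgroup G)} (h : AdjV T 1 a) : Xim T π a = Jb T π := by
  refine D.eq_Jb (D.Xim_le_Jb a) (fun h0 => ?_) (D.meas_Xim a).ge (D.Xim_inv a)
  obtain ⟨v, hv, w, hw, hc⟩ := h
  refine hc (D.Rs_commute (D.mem_Rs (map_mem_Bs a (D.Vs_le_Bs hw)) ?_) hv).symm
  exact mem_bot.1 (h0 ▸ (⟨a w, ⟨w, hw, rfl⟩, rfl⟩ : π ((a w : ↥(T : Subgroup G)) : G) ∈ Xim T π a))

/-- `B(T) = a(V) (O₂(G) ∩ B(T))` for a non-commuting image. -/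
theorem cover {a : MulAut ↥(T : Subgroup G)} (h : AdjV T 1 a) {b : ↥(T : Subgroup G)}
    (hb : b ∈ Bs T) : ∃ w ∈ Vs T, (a w)⁻¹ * b ∈ Rs T := by
  have hj : π (b : G) ∈ Xim T π a := (D.Xim_eq h).ge (D.map_B.le (mem_map_of_mem π hb))
  obtain ⟨_, ⟨w, hw, rfl⟩, hwb⟩ := hj
  refine ⟨w, hw, D.mem_Rs (mul_mem (inv_mem (map_mem_Bs a (D.Vs_le_Bs hw))) hb) ?_⟩
  show π ((((a w)⁻¹ * b : ↥(T : Subgroup G))) : G) = 1
  rw [Subgroup.coe_mul, Subgroup.coe_inv, map_mul, map_inv]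
  exact inv_mul_eq_one.2 hwb

/-- `O₂(G) ∩ B(T) = V (O₂(G) ∩ B(T) ∩ u(O₂(G) ∩ B(T)))`. -/
theorem split {u : MulAut ↥(T : Subgroup G)} (h : AdjV T 1 u) {r : ↥(T : Subgroup G)}
    (hr : r ∈ Rs T) : ∃ w ∈ Vs T, w⁻¹ * r ∈ Rs T ∧ u.symm (w⁻¹ * r) ∈ Rs T := by
  have h' : AdjV T 1 u⁻¹ := by simpa using (h.mul_left u⁻¹).symm
  obtain ⟨w, hw, hwr⟩ := D.cover h' (map_mem_Bs u.symm (show r ∈ Bs T from hr.2))
  refine ⟨w, hw, mul_mem (inv_mem (D.Vs_le_Rs hw)) hr, ?_⟩
  rw [map_mul, map_inv]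
  exact hwr

/-- Elements of order prime to `2` move `O₂(G) ∩ B(T)` into `Ω₁Z(O₂(G))`. -/
theorem move {g z : G} (hg : (orderOf g).Coprime 2) (hz : z ∈ Qz 2 (T : Subgroup G)) :
    g * z * g⁻¹ * z⁻¹ ∈ Vo 2 G := by
  obtain ⟨E, hE⟩ := D.blk.nonempty
  obtain ⟨E', -, F, iF, iFt, Λ, X, hX⟩ := D.exists_piece hE
  obtain ⟨S, M₀, hS, hU⟩ := D.exists_pc Λ hX
  have hT : Piece.Twisted 2 S := by
    by_contra hn
    obtain ⟨α, h, E0, tw⟩ := Piece.exists_tw hU hn
    haveI := tw.mid.lines.normalW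
    have := tw.three (rfl : Nat.card F = Nat.card F)
    omega
  haveI := D.Qz_normal
  refine D.coprime_move Λ hX (D1 := Qz 2 (T : Subgroup G)) ?_ hg hz
  rintro _ ⟨x, hx, rfl⟩ y hy
  exact D.wc_le_Vo E' (mem_subgroupOf.1
    (hU.move_le hT hx (D.Qz_mem_core Λ hX hy (D.Qz_le_X Λ hX hy))))

/-- A vector centralized by the `2'`-elements and by lifts of `J(T)` is fixed by the blocks. -/
theorem mem_fix_blocks {y : W}
    (hodd : ∀ g : G, (orderOf g).Coprime 2 → g * (e y : G) = (e y : G) * g)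
    (hJ : Jb T π ≤ MulAction.stabilizer P y) : y ∈ fix W (sSup 𝓔) := by
  set L := (sSup (bset T π 𝓔)).map π with hL
  haveI hLn : L.Normal := (D.sSup_bset_normal).map π D.quot.surj
  have hLs : L ≤ MulAction.stabilizer P y := by
    rw [hL, Subgroup.map_le_iff_le_comap, sSup_le_iff]
    rintro _ ⟨E, hE, rfl⟩
    exact CfsgLib.WeakFactor.pResidualOf_le fun x _ ho =>
      mem_comap.2 (MulAction.mem_stabilizer_iff.2 (D.quot.smul_eq_iff.2 (hodd x ho)))
  haveI : (L ⊔ Jb T π).Normal := by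
    refine normalizer_eq_top_iff.1 (top_le_iff.1 ?_)
    rw [← map_top_of_surjective π D.quot.surj, ← D.bset_sup_T, Subgroup.map_sup, ← D.hT']
    refine sup_le (le_sup_left.trans le_normalizer) fun t ht => mem_normalizer_of_le ?_
    rw [cj_sup]
    refine sup_le ?_ ((D.Jb_inv ht).le.trans le_sup_right)
    rintro _ ⟨x, hx, rfl⟩
    exact mem_sup_left (hLn.conj_mem x hx t)
  obtain ⟨E, hE⟩ := D.blk.nonempty
  obtain ⟨B, hB, -, hBJ⟩ := D.exists_mem_Jb E hE
  intro g hg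
  exact MulAction.mem_stabilizer_iff.1
    (sup_le hLs hJ (D.hyp.le_normal D.blk hB (hBJ.trans le_sup_right) hg))

theorem omega_mem {x : G} (hx : x ∈ Vo 2 G) : x ∈ PushL2.omega 2 G :=
  ⟨⟨(mem_omegaOneCenter hx).1, mem_centralizer_iff.2 (mem_omegaOneCenter hx).2.1⟩,
    (mem_omegaOneCenter hx).2.2⟩

/-- The members lie in the image of `J(T)`. -/
theorem mems_le_Jb : sSup (mems W 2 (T' : Subgroup P)) ≤ Jb T π := by
  obtain ⟨E, hE⟩ := D.blk.nonempty
  obtain ⟨B, hB, -, hBJ⟩ := D.exists_mem_Jb E hE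
  refine sSup_le fun C hC => ?_
  obtain ⟨t, ht, rfl⟩ := mems_transitive D.hyp ⟨hB, hBJ.trans D.Jb_le_T⟩ hC
  exact (cj_mono t hBJ).trans (D.Jb_inv ht).le

/-- The value of the commutation of two factorized elements. -/
theorem factor_fix {u : MulAut ↥(T : Subgroup G)} (hu : AdjV T 1 u)
    {v v' w w' k k' : ↥(T : Subgroup G)} (hv : v ∈ Vs T) (hv' : v' ∈ Vs T) (hw : w ∈ Vs T)
    (hw' : w' ∈ Vs T) (hk : k ∈ Rs T) (hku : u.symm k ∈ Rs T) (hk' : k' ∈ Rs T)
    (hku' : u.symm k' ∈ Rs T) (hc : Commute (u v * w * k) (u v' * w' * k'))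
    {y y' : W} (hy : (e y : G) = w) (hy' : (e y' : G) = w') :
    (π (u v : G) • y' - y') - (π (u v' : G) • y - y) ∈ fix W (sSup 𝓔) := by
  have hinv : ∀ x ∈ Vs T, (u x)⁻¹ = u x := fun x hx => by
    rw [← map_inv, inv_eq_of_mul_eq_one_right (Vs_sq hx)]
  have h0 := commutator_of_factor ((Vs_commute hv hv').map u.toMonoidHom)
    (D.commute_of_symm_mem hku hv') (D.Rs_commute hk hw') (D.commute_of_symm_mem hku' hv)
    (D.Rs_commute hk' hw) (hinv v hv) (hinv v' hv') hc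
  set z := (π (u v : G) • y' + y) - (π (u v' : G) • y + y') with hz
  have hcom : (e z : G) = ((k : G) * k' * (k : G)⁻¹ * (k' : G)⁻¹) := by
    have h1 := congrArg Subtype.val h0
    simp only [Subgroup.coe_mul, Subgroup.coe_inv, MulEquiv.coe_toMonoidHom] at h1
    set a := (e (π (u v' : G) • y + y') : G) with ha
    set b := (e (π (u v : G) • y' + y) : G) with hb
    have ha' : a = (u v' : G) * w * (u v' : G)⁻¹ * w' := by
      rw [ha, D.quot.add, Subgroup.coe_mul, D.quot.smul, hy, hy']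
    have hb' : b = (u v : G) * w' * (u v : G)⁻¹ * w := by
      rw [hb, D.quot.add, Subgroup.coe_mul, D.quot.smul, hy, hy']
    rw [← ha', ← hb'] at h1
    have hab : Commute b a⁻¹ :=
      (show Commute b a from CfsgLib.Thompson.elab_commute elab_Vo
        (e (π (u v : G) • y' + y)).2 (e (π (u v' : G) • y + y')).2).inv_right
    rw [hz, D.quot.val_sub]
    show b * a⁻¹ = _
    rw [hab.eq]
    calc a⁻¹ * b = a⁻¹ * (b * ((k' : G) * k)) * ((k' : G) * k)⁻¹ := by group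
      _ = a⁻¹ * (a * ((k : G) * k')) * ((k' : G) * k)⁻¹ := by rw [h1]
      _ = _ := by group
  rw [show (π (u v : G) • y' - y') - (π (u v' : G) • y - y) = z by rw [hz]; abel]
  refine D.mem_fix_blocks (fun g hg => ?_) fun j hj => ?_
  · rw [hcom]
    exact PushL2.fix_commutator hk.1 hk'.1 (D.omega_mem (D.move hg hk))
      (D.omega_mem (D.move hg hk'))
  · obtain ⟨_, ⟨x, hx, rfl⟩, rfl⟩ := (D.Xim_eq hu).ge hj
    refine MulAction.mem_stabilizer_iff.2 (D.quot.smul_eq_iff.2 ?_)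
    rw [hcom]
    have c1 : Commute ((u x : ↥(T : Subgroup G)) : G) (k : G) :=
      congrArg Subtype.val (D.commute_of_symm_mem hku hx).symm.eq
    have c2 : Commute ((u x : ↥(T : Subgroup G)) : G) (k' : G) :=
      congrArg Subtype.val (D.commute_of_symm_mem hku' hx).symm.eq
    exact (((c1.mul_right c2).mul_right c1.inv_right).mul_right c2.inv_right).eq

/-- The value of the square of a factorized involution. -/
theorem square_fix {u : MulAut ↥(T : Subgroup G)} (hu : AdjV T 1 u)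
    {v w k : ↥(T : Subgroup G)} (hv : v ∈ Vs T) (hw : w ∈ Vs T) (hk : k ∈ Rs T)
    (hku : u.symm k ∈ Rs T) (hsq : u v * w * k * (u v * w * k) = 1) {y : W}
    (hy : (e y : G) = w) : π (u v : G) • y - y ∈ fix W (sSup 𝓔) := by
  set a := u v with ha
  have hinv : a⁻¹ = a := by rw [ha, ← map_inv, inv_eq_of_mul_eq_one_right (Vs_sq hv)]
  have h1 : a * w * a⁻¹ * w * (k * k) = 1 := by
    rw [← hsq, hinv]
    calc a * w * a * w * (k * k) = a * w * (a * (w * k)) * k := by group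
      _ = a * w * (a * (k * w)) * k := by rw [(D.Rs_commute hk hw).eq]
      _ = a * w * ((a * k) * (w * k)) := by group
      _ = a * w * ((k * a) * (w * k)) := by
        rw [(D.commute_of_symm_mem hku hv).eq]
      _ = _ := by group
  set z := π (a : G) • y + y with hz
  have hze : (e z : G) = ((k : G) ^ 2)⁻¹ := by
    rw [hz, D.quot.add, Subgroup.coe_mul, D.quot.smul, hy, pow_two]
    exact eq_inv_of_mul_eq_one_left (congrArg Subtype.val h1)
  have hyy : y + y = 0 := by rw [← two_nsmul]; exact D.hyp.exp y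
  rw [show π (a : G) • y - y = z by
    rw [hz, sub_eq_add_neg, neg_eq_of_add_eq_zero_left hyy]]
  refine D.mem_fix_blocks (fun g hg => ?_) fun j hj => ?_
  · rw [hze]
    exact (show Commute g ((k : G) ^ 2) from
      PushL2.fix_pow hk.1 (D.omega_mem (D.move hg hk))).inv_right.eq
  · obtain ⟨_, ⟨x, hx, rfl⟩, rfl⟩ := (D.Xim_eq hu).ge hj
    refine MulAction.mem_stabilizer_iff.2 (D.quot.smul_eq_iff.2 ?_)
    rw [hze]
    have c1 : Commute ((u x : ↥(T : Subgroup G)) : G) (k : G) :=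
      congrArg Subtype.val (D.commute_of_symm_mem hku hx).symm.eq
    exact (c1.pow_right 2).inv_right.eq

/-- Two images not commuting with `V` commute with each other. -/
theorem neighbours {u x : MulAut ↥(T : Subgroup G)} (hu : AdjV T 1 u) (hx : AdjV T 1 x) :
    ¬ AdjV T u x := by
  classical
  set φ := π.comp (T : Subgroup G).subtype with hφ
  -- an element of `x(V)` factorized over `u(V)`
  have hfac : ∀ z ∈ (Vs T).map x.toMonoidHom, ∃ v w k : ↥(T : Subgroup G), v ∈ Vs T ∧ w ∈ Vs T ∧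
      k ∈ Rs T ∧ u.symm k ∈ Rs T ∧ z = u v * w * k ∧ π (u v : G) = π (z : G) := by
    rintro _ ⟨t, ht, rfl⟩
    obtain ⟨v, hv, hr⟩ := D.cover hu (map_mem_Bs x (D.Vs_le_Bs ht))
    obtain ⟨w, hw, hk, hku⟩ := D.split hu hr
    refine ⟨v, w, _, hv, hw, hk, hku, ?_, ?_⟩
    · show x t = _
      rw [mul_assoc, mul_inv_cancel_left, mul_inv_cancel_left]
    · have := D.π_eq_one hr
      rw [Subgroup.coe_mul, Subgroup.coe_inv, map_mul, map_inv] at this
      exact inv_mul_eq_one.1 this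
  have hab : ∀ z ∈ (Vs T).map x.toMonoidHom, ∀ z' ∈ (Vs T).map x.toMonoidHom, Commute z z' := by
    rintro _ ⟨t, ht, rfl⟩ _ ⟨t', ht', rfl⟩
    exact (Vs_commute ht ht').map x.toMonoidHom
  -- the factor in `V` is fixed by the image of `J(T)`
  have hkey : ∀ z ∈ (Vs T).map x.toMonoidHom,
      (π (z : G) = 1 ∨ ∃ B ∈ mems W 2 (T' : Subgroup P), π (z : G) ∈ B) →
      u.symm z ∈ Rs T := by
    intro z hz hzB
    obtain ⟨v, w, k, hv, hw, hk, hku, rfl, hπ⟩ := hfac z hz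
    obtain ⟨y, hy⟩ := D.exists_val hw
    set j := π (u v : G) with hj
    have hfixC : ∀ C ∈ mems W 2 (T' : Subgroup P), C ≤ MulAction.stabilizer P y := by
      intro C hC g hg
      refine MulAction.mem_stabilizer_iff.2 ?_
      obtain ⟨c, hc, hc1⟩ := (Subgroup.bot_or_exists_ne_one C).resolve_left hC.1.ne
      suffices h : c • y = y from D.hyp.key hC.1 hc hc1 h g hg
      obtain ⟨z', hz', hz'c⟩ := (D.Xim_eq hx).ge (D.mems_le_Jb (le_sSup hC hc))
      obtain ⟨v', w', k', hv', hw', hk', hku', rfl, hπ'⟩ := hfac z' hz'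
      obtain ⟨y', hy'⟩ := D.exists_val hw'
      have hj' : π (u v' : G) = c := hπ'.trans hz'c
      have hdiff := D.factor_fix hu hv hv' hw hw' hk hku hk' hku' (hab _ hz _ hz') hy hy'
      rw [hj'] at hdiff
      rw [← hπ] at hzB
      by_cases hj1 : j = 1
      · rw [← hj, hj1, one_smul, sub_self, zero_sub, neg_mem_iff] at hdiff
        exact fix_of_moved D.hyp D.blk hC.1 hc hc1 hdiff
      obtain ⟨B, hB, hjB⟩ := hzB.resolve_left hj1
      by_cases hBC : B = C
      · subst hBC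
        refine (D.hyp.key hB.1 hjB hj1 ?_) c hc
        refine fix_of_moved D.hyp D.blk hB.1 hjB hj1 (D.square_fix hu hv hw hk hku ?_ hy)
        obtain ⟨t, ht, htz⟩ := hz
        rw [← htz, ← map_mul, Vs_sq ht, map_one]
      · refine fix_of_moved_pair D.hyp D.blk hC hB (Ne.symm hBC) hc hc1 hjB hj1 (w' := y') ?_
        have := neg_mem hdiff
        rwa [neg_sub] at this
    refine D.symm_mem_Rs (mul_mem (mul_mem (map_mem_Bs u (D.Vs_le_Bs hv)) (D.Vs_le_Bs hw)) hk.2)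
      fun t ht => ?_
    have c1 : Commute (u v) (u t) := (Vs_commute hv ht).map u.toMonoidHom
    have c2 : Commute w (u t) := by
      refine Subtype.ext ?_
      have hstab : π (u t : G) ∈ MulAction.stabilizer P y :=
        sSup_le hfixC (D.Jb_le_mems ((D.Xim_eq hu).le ⟨u t, ⟨t, ht, rfl⟩, rfl⟩))
      have := D.quot.smul_eq_iff.1 (MulAction.mem_stabilizer_iff.1 hstab)
      rw [hy] at this
      exact this.symm
    exact (c1.mul_left c2).mul_left (D.commute_of_symm_mem hku ht)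
  -- the elements of `x(V)` commuting with `u(V)` cover the image
  set Y := (Vs T).map x.toMonoidHom ⊓ (Rs T).comap u.symm.toMonoidHom with hY
  have hcov : sSup (mems W 2 (T' : Subgroup P)) ≤ Y.map φ := by
    refine sSup_le fun B hB b hb => ?_
    obtain ⟨z, hz, hzb⟩ := (D.Xim_eq hx).ge (D.mems_le_Jb (le_sSup hB hb))
    exact ⟨z, ⟨hz, hkey z hz (Or.inr ⟨B, hB, hzb.symm ▸ hb⟩)⟩, hzb⟩
  rintro ⟨v, hv, t, ht, hc⟩
  obtain ⟨z₀, ⟨hz₀, hz₀u⟩, hz₀e⟩ := hcov (D.Jb_le_mems (D.Xim_le_Jb x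
    (⟨x t, ⟨t, ht, rfl⟩, rfl⟩ : π (x t : G) ∈ Xim T π x)))
  have hz₁ : z₀⁻¹ * x t ∈ (Vs T).map x.toMonoidHom := mul_mem (inv_mem hz₀) ⟨t, ht, rfl⟩
  have h1 : u.symm (z₀⁻¹ * x t) ∈ Rs T := hkey _ hz₁ (Or.inl (by
    rw [Subgroup.coe_mul, Subgroup.coe_inv, map_mul, map_inv]
    exact inv_mul_eq_one.2 hz₀e))
  have h2 : u.symm (x t) ∈ Rs T := by
    have := mul_mem (mem_comap.1 hz₀u) h1
    rwa [← MulEquiv.coe_toMonoidHom, ← map_mul, mul_inv_cancel_left] at this
  exact hc (D.commute_of_symm_mem h2 hv).symm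

/-- Three steps of non-commuting give one. -/
theorem adjV_trans {x u v : MulAut ↥(T : Subgroup G)} (hx : AdjV T 1 x) (hu : AdjV T 1 u)
    (huv : AdjV T u v) : AdjV T x v := by
  by_contra hxv
  have hu' : AdjV T 1 u⁻¹ := by simpa using (hu.mul_left u⁻¹).symm
  have huv' : AdjV T 1 (u⁻¹ * v) := by simpa using huv.mul_left u⁻¹
  have hV : ∀ t ∈ Vs T, v t ∈ Rs T := by
    intro t ht
    refine D.mem_Rs_of_commute (map_mem_Bs v (D.Vs_le_Bs ht)) fun s hs => ?_
    by_contra hc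
    refine D.neighbours hu' huv' ⟨s, hs, t, ht, fun e => hc ?_⟩
    simpa using (e.map u.toMonoidHom).symm
  obtain ⟨E, hE⟩ := D.blk.nonempty
  obtain ⟨B, hB, -, hBJ⟩ := D.exists_mem_Jb E hE
  obtain ⟨j, hj, hj1⟩ := (Subgroup.bot_or_exists_ne_one B).resolve_left hB.ne
  obtain ⟨_, ⟨t, ht, rfl⟩, htj⟩ := (D.Xim_eq hx).ge (hBJ hj)
  obtain ⟨s, hs, hr⟩ := D.cover hu (map_mem_Bs x (D.Vs_le_Bs ht))
  have hπ : π (u s : G) = j := by
    have := D.π_eq_one hr
    rw [Subgroup.coe_mul, Subgroup.coe_inv, map_mul, map_inv] at this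
    exact (inv_mul_eq_one.1 this).trans htj
  set k := (u s)⁻¹ * x t with hkdef
  have hku : u.symm k ∈ Rs T := by
    refine D.symm_mem_Rs hr.2 fun t' ht' => ?_
    refine ((Vs_commute hs ht').map u.toMonoidHom).inv_left.mul_left ?_
    by_contra hc
    exact D.neighbours hu hx ⟨t', ht', t, ht, fun e => hc e.symm⟩
  refine hj1 (D.hyp.faithful j fun y => ?_)
  refine fix_of_moved D.hyp D.blk hB hj hj1 ?_
  set w : ↥(T : Subgroup G) := ⟨(e y : G), D.V_le_T (e y).2⟩ with hwdef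
  have hw : w ∈ Vs T := (e y).2
  obtain ⟨t', ht', hr'⟩ := D.cover huv' (map_mem_Bs u.symm (D.Vs_le_Bs hw))
  have hku' : u.symm ((v t')⁻¹ * w) ∈ Rs T := by
    rw [map_mul, map_inv]
    exact hr'
  set k' := ((v t')⁻¹ * w)⁻¹ with hk'def
  have hk' : k' ∈ Rs T := inv_mem (mul_mem (inv_mem (hV t' ht')) (D.Vs_le_Rs hw))
  have hk'u : u.symm k' ∈ Rs T := by rw [hk'def, map_inv]; exact inv_mem hku'
  have hvt : v t' = u 1 * w * k' := by rw [hk'def, map_one, one_mul]; group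
  have hxt : x t = u s * 1 * k := by rw [hkdef, mul_one, mul_inv_cancel_left]
  have hc : Commute (u s * 1 * k) (u 1 * w * k') := by
    rw [← hxt, ← hvt]
    by_contra hc
    exact hxv ⟨t, ht, t', ht', hc⟩
  have h := D.factor_fix hu hs (one_mem _) (one_mem _) hw hr hku hk' hk'u hc (y := 0) (y' := y)
    D.quot.val_zero rfl
  rw [hπ, smul_zero, sub_zero, sub_zero] at h
  exact h

/-- An automorphism of odd order does not move `V` to a non-commuting image. -/
theorem not_adjV_odd {a : MulAut ↥(T : Subgroup G)} (ha : Odd (orderOf a)) : ¬ AdjV T 1 a := by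
  intro h
  have hk : ∀ k : ℕ, AdjV T 1 (a ^ (2 * k + 1)) := by
    intro k
    induction k with
    | zero => simpa using h
    | succ k ih =>
      have h1 : AdjV T 1 (a ^ (2 * k + 1))⁻¹ := by
        simpa using (ih.mul_left (a ^ (2 * k + 1))⁻¹).symm
      have h2 : AdjV T a (a * a) := by simpa using h.mul_left a
      have h3 := (D.adjV_trans h1 h h2).mul_left (a ^ (2 * k + 1))
      rwa [mul_inv_cancel, ← pow_two, ← pow_add,
        show 2 * k + 1 + 2 = 2 * (k + 1) + 1 by ring] at h3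
  obtain ⟨m, hm⟩ := ha
  have h0 := hk m
  rw [← hm, pow_orderOf_eq_one] at h0
  exact not_adjV_self 1 h0

/-- The subgroup invariant under the automorphisms. -/
theorem exists_invariant (A : Subgroup (MulAut ↥(T : Subgroup G))) (hA : Odd (Nat.card A)) :
    ∃ U : Subgroup G, U ≠ ⊥ ∧ U.Normal ∧ U ≤ (T : Subgroup G) ∧
      ∀ a ∈ A, ∀ x : ↥(T : Subgroup G), (x : G) ∈ U → ((a x : ↥(T : Subgroup G)) : G) ∈ U := by
  classical
  haveI : (Vs T).Normal := (Vo_normal (G := G) (p := 2)).subgroupOf _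
  set U₀ : Subgroup ↥(T : Subgroup G) := ⨆ a ∈ A, (Vs T).map a.toMonoidHom with hU₀
  have hU₀R : U₀ ≤ Rs T := by
    refine iSup₂_le fun a ha => ?_
    rintro _ ⟨t, ht, rfl⟩
    refine D.mem_Rs_of_commute (map_mem_Bs a (D.Vs_le_Bs ht)) fun v hv => ?_
    by_contra hc
    refine D.not_adjV_odd (a := a) ?_ ⟨v, hv, t, ht, fun e => hc e.symm⟩
    exact hA.of_dvd_nat (Subgroup.orderOf_coe (⟨a, ha⟩ : A) ▸ orderOf_dvd_natCard _)
  set U := U₀.map (T : Subgroup G).subtype with hU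
  have hVU : Vo 2 G ≤ U := fun v hv =>
    ⟨⟨v, D.V_le_T hv⟩, mem_iSup_of_mem 1 (mem_iSup_of_mem A.one_mem ⟨⟨v, D.V_le_T hv⟩, hv, rfl⟩),
      rfl⟩
  refine ⟨U, fun h0 => ?_, ?_, map_subtype_le _, fun a ha x hx => ?_⟩
  · obtain ⟨E, hE⟩ := D.blk.nonempty
    refine D.blG_com_Z hE ?_
    rw [le_bot_iff.1 ((Z_le_Vo T D.hG).trans (hVU.trans h0.le)), commutator_bot_right]
  · refine normalizer_eq_top_iff.1 (top_le_iff.1 ?_)
    rw [← D.bset_sup_T]
    refine sup_le (sSup_le ?_) fun t ht => mem_normalizer_of_le ?_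
    · rintro _ ⟨E, hE, rfl⟩
      refine CfsgLib.WeakFactor.pResidualOf_le fun g _ ho => mem_normalizer_of_le ?_
      rintro _ ⟨_, ⟨z, hz, rfl⟩, rfl⟩
      have h1 := U.mul_mem (hVU (D.move ho (hU₀R hz))) (mem_map_of_mem _ hz : (z : G) ∈ U)
      simpa [mul_assoc] using h1
    · rintro _ ⟨_, ⟨z, hz, rfl⟩, rfl⟩
      refine ⟨⟨t, ht⟩ * z * ⟨t, ht⟩⁻¹, ?_, by simp⟩
      have hn : U₀.Normal := by
        rw [hU₀]
        haveI : ∀ a : MulAut ↥(T : Subgroup G), ((Vs T).map a.toMonoidHom).Normal := fun a =>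
          Subgroup.Normal.map inferInstance _ a.surjective
        infer_instance
      exact hn.conj_mem z hz _
  · obtain ⟨z, hz, hzx⟩ := hx
    obtain rfl : z = x := Subtype.ext hzx
    refine mem_map_of_mem _ ?_
    have h1 : U₀.map a.toMonoidHom ≤ U₀ := by
      rw [hU₀, Subgroup.map_iSup]
      refine iSup_le fun b => ?_
      rw [Subgroup.map_iSup]
      refine iSup_le fun hb => ?_
      rw [Subgroup.map_map]
      exact le_iSup₂_of_le (a * b) (mul_mem ha hb) (le_of_eq rfl)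
    exact h1 (mem_map_of_mem a.toMonoidHom hz)

end PU

end CfsgLib.PushUpB
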