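import Cfsg.Agent.PushUpB.Structure

/-!
Pushing up with automorphisms: the Sylow subgroup permutes its members transitively, and members
move vectors independently modulo the fixed points of the blocks (for S3022).
-/

set_option autoImplicit false
set_option linter.style.haveILetI false
set_option linter.unusedSectionVars false

namespace CfsgLib.PushUpB

open Subgroup Matrix CfsgLib.PMinFF CfsgLib.OffGen CfsgLib.BlockPermCombi

universe u

variable {P : Type u} [Group P] [Finite P] {W : Type u} [AddCommGroup W] [Finite W]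
  [DistribMulAction P W] {T' : Sylow 2 P} {M' : Subgroup P}

section

variable (H : Hyp W 2 T' M')
include H

section Small

variable (hsmall : ∀ A : Subgroup P, Mem W 2 A → Nat.card A ≤ 2)
include hsmall

/-- A transvection of the maximal subgroup fails to commute with one outside. -/
theorem exists_out_noncomm {D : Subgroup P} (hD : Mem W 2 D) {d : P} (hd : d ∈ D) (hd1 : d ≠ 1)
    (hdM : d ∈ M') : ∃ x, IsTv W x ∧ x ∉ M' ∧ ¬ Commute d x := by
  letI : Module (ZMod 2) W := AddCommGroup.zmodModule H.exp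
  by_contra hcon
  push Not at hcon
  obtain ⟨x, hx, hxM⟩ := exists_outside H hsmall hD
  have hDM : D ≤ M' := fun b hb => by
    by_cases hb1 : b = 1
    · exact hb1 ▸ one_mem M'
    · exact eq_of_card_two (hsmall D hD) hd hb hd1 hb1 ▸ hdM
  refine H.false_of_centralized
    (𝒮 := {B | Mem W 2 B ∧ B ≤ M' ∧ ∀ b ∈ B, ∀ y, IsTv W y → y ∉ M' → Commute b y}) (B := D)
    ⟨hD, hDM, fun b hb y hy hyM => ?_⟩ hD (fun C hC => hC.2.1) ?_ hxM ?_
  · by_cases hb1 : b = 1
    · exact hb1 ▸ Commute.one_left y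
    · exact eq_of_card_two (hsmall D hD) hd hb hd1 hb1 ▸ hcon y hy hyM
  · rintro C ⟨hC, hCM, hC1⟩ t ht
    refine ⟨hC.cj t, ?_, ?_⟩
    · rintro - ⟨c, hc, rfl⟩
      exact M'.mul_mem (M'.mul_mem (H.hover.1 ht) (hCM hc)) (M'.inv_mem (H.hover.1 ht))
    · rintro - ⟨c, hc, rfl⟩ y hy hyM
      show Commute (t * c * t⁻¹) y
      rw [← commute_conj_iff t⁻¹, show t⁻¹ * (t * c * t⁻¹) * t⁻¹⁻¹ = c by group]
      refine hC1 c hc _ (hy.conj _) fun h => hyM ?_
      simpa [mul_assoc] using M'.mul_mem (M'.mul_mem (H.hover.1 ht) h) (M'.inv_mem (H.hover.1 ht))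
  · exact fun C hC y hy => (hC.2.2 y hy x hx hxM).symm.eq

/-- An outside transvection not commuting with `b` commutes with the other transvections of `T`. -/
theorem exists_separating {B : Subgroup P} (hB : B ∈ mems W 2 (T' : Subgroup P)) {b : P}
    (hb : b ∈ B) (hb1 : b ≠ 1) :
    ∃ x, IsTv W x ∧ x ∉ M' ∧ ¬ Commute b x ∧
      ∀ C ∈ mems W 2 (T' : Subgroup P), C ≠ B → ∀ c ∈ C, Commute c x := by
  letI : Module (ZMod 2) W := AddCommGroup.zmodModule H.exp
  obtain ⟨x, hx, hxM, hnc⟩ := exists_out_noncomm H hsmall hB.1 hb hb1 (H.hover.1 (hB.2 hb))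
  refine ⟨x, hx, hxM, hnc, fun C hC hne c hc => ?_⟩
  by_cases hc1 : c = 1
  · exact hc1 ▸ Commute.one_left x
  by_contra hcc
  refine no_two H hsmall ⟨B, hB.1, hsmall B hB.1, hb, hb1⟩ ⟨C, hC.1, hsmall C hC.1, hc, hc1⟩ hx
    (H.hover.1 (hB.2 hb)) (H.hover.1 (hC.2 hc)) hxM (H.commute_mems hB hC b hb c hc) ?_ hnc hcc
  intro e
  refine hne (le_antisymm (fun y hy => ?_) fun y hy => ?_)
  · by_cases hy1 : y = 1
    · exact hy1 ▸ one_mem B
    · exact eq_of_card_two (hsmall C hC.1) hc hy hc1 hy1 ▸ e ▸ hb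
  · by_cases hy1 : y = 1
    · exact hy1 ▸ one_mem C
    · exact eq_of_card_two (hsmall B hB.1) hb hy hb1 hy1 ▸ e ▸ hc

end Small

/-- Either all members have more than two elements or none has. -/
theorem mems_kind : (∀ A : Subgroup P, Mem W 2 A → Nat.card A ≤ 2) ∨
    ∀ A : Subgroup P, Mem W 2 A → 2 < Nat.card A := by
  by_cases hlarge : ∃ B : Subgroup P, Mem W 2 B ∧ 2 < Nat.card B
  · obtain ⟨B, hB, hq⟩ := hlarge
    obtain ⟨g, hgT, F, iF, iFt, L, ⟨b⟩, hL⟩ := H.exists_block_moved hB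
    have hqF : 2 < Nat.card F := by rw [← b.card_A, card_cj]; exact hq
    refine Or.inr fun A hA => ?_
    obtain ⟨k, hk⟩ := H.exists_conj_mems hA
    obtain ⟨t, ht, e⟩ := H.mems_eq b (hB.cj g) hgT hL hqF hk
    rw [← card_cj k A, e, card_cj, card_cj]
    exact hq
  · push Not at hlarge
    exact Or.inl hlarge

/-- The Sylow subgroup permutes its members transitively. -/
theorem mems_transitive {B C : Subgroup P} (hB : B ∈ mems W 2 (T' : Subgroup P))
    (hC : C ∈ mems W 2 (T' : Subgroup P)) : ∃ t ∈ (T' : Subgroup P), C = cj t B := by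
  rcases mems_kind H with hsmall | hbig
  · by_contra hcon
    push Not at hcon
    obtain ⟨b, hb, hb1⟩ := (Subgroup.bot_or_exists_ne_one B).resolve_left hB.1.ne
    obtain ⟨x, -, hxM, -, hsep⟩ := exists_separating H hsmall hB hb hb1
    have hmem : ∀ t ∈ (T' : Subgroup P), cj t C ∈ mems W 2 (T' : Subgroup P) := fun t ht =>
      ⟨hC.1.cj t, (cj_mono t hC.2).trans_eq (cj_self ht)⟩
    refine H.false_of_centralized (𝒮 := {D | ∃ t ∈ (T' : Subgroup P), D = cj t C}) (B := C)
      ⟨1, one_mem _, (cj_one C).symm⟩ hC.1 ?_ ?_ hxM ?_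
    · rintro D ⟨t, ht, rfl⟩
      exact (hmem t ht).2.trans H.hover.1
    · rintro D ⟨t, ht, rfl⟩ u hu
      exact ⟨u * t, mul_mem hu ht, (cj_mul u t C).symm⟩
    · rintro D ⟨t, ht, rfl⟩ y hy
      refine (hsep _ (hmem t ht) (fun e => hcon t⁻¹ (inv_mem ht) ?_) y hy).eq.symm
      rw [← e, cj_inv_cj]
  · obtain ⟨g, hgT, F, iF, iFt, L, ⟨b⟩, hL⟩ := H.exists_block_moved hB.1
    have hqF : 2 < Nat.card F := by rw [← b.card_A, card_cj]; exact hbig B hB.1
    obtain ⟨t, ht, e⟩ := H.mems_eq b (hB.1.cj g) hgT hL hqF hB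
    obtain ⟨t', ht', e'⟩ := H.mems_eq b (hB.1.cj g) hgT hL hqF hC
    refine ⟨t' * t⁻¹, mul_mem ht' (inv_mem ht), ?_⟩
    conv_rhs => rw [e]
    rw [← cj_mul, inv_mul_cancel_right, ← e']

end

variable {𝓔 : Set (Subgroup P)}

/-- A block of a member lies in the product of the blocks. -/
theorem block_le (hb : Blocks W 2 T' 𝓔) {B L : Subgroup P} (hB : Mem W 2 B) {F : Type} [Field F]
    [Finite F] (b : Block W F B L) : L ≤ sSup 𝓔 :=
  b.le_of_le (hb.mem_le B hB) (hb.mem_le _ (hB.cj b.w))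

/-- A member moving a vector by a fixed vector of the blocks fixes it. -/
theorem fix_of_moved (H : Hyp W 2 T' M') (hb : Blocks W 2 T' 𝓔) {B : Subgroup P}
    (hB : Mem W 2 B) {j : P} (hj : j ∈ B) (hj1 : j ≠ 1) {w : W}
    (h : j • w - w ∈ fix W (sSup 𝓔)) : j • w = w := by
  obtain ⟨F, iF, iFt, L, ⟨b⟩⟩ := H.exists_block hB
  obtain ⟨c, rfl⟩ := b.exists_a hj
  have hc : c ≠ 0 := fun e => hj1 (by rw [e, b.a_zero])
  have h1 : b.ψ (b.a c • w - w) = 0 := (b.ker _).2 (fix_anti (block_le hb hB b) h)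
  have h2 := congrFun h1 0
  rw [map_sub, Pi.sub_apply, b.psi_a] at h2
  have h3 : c * b.ψ w 1 = 0 := by simpa using h2
  exact ((b.fix_eq w).2 ((mul_eq_zero.1 h3).resolve_left hc)) _ (b.a_mem c)

/-- Members move vectors independently modulo the fixed vectors of the blocks. -/
theorem fix_of_moved_pair (H : Hyp W 2 T' M') (hb : Blocks W 2 T' 𝓔) {B B' : Subgroup P}
    (hB : B ∈ mems W 2 (T' : Subgroup P)) (hB' : B' ∈ mems W 2 (T' : Subgroup P)) (hne : B ≠ B')
    {j j' : P} (hj : j ∈ B) (hj1 : j ≠ 1) (hj' : j' ∈ B') (hj1' : j' ≠ 1) {w w' : W}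
    (h : (j • w - w) - (j' • w' - w') ∈ fix W (sSup 𝓔)) : j • w = w := by
  letI : Module (ZMod 2) W := AddCommGroup.zmodModule H.exp
  have hd : j' • w' - w' ∈ com W B' := mem_com hj' w'
  rcases mems_kind H with hsmall | hbig
  · by_contra hmove
    obtain ⟨x, hx, hxM, hnc, hsep⟩ := exists_separating H hsmall hB hj hj1
    have htj : IsTv W j := ⟨B, hB.1, hsmall B hB.1, hj, hj1⟩
    have htj' : IsTv W j' := ⟨B', hB'.1, hsmall B' hB'.1, hj', hj1'⟩
    obtain ⟨X, hX, hxX, -, -⟩ := hx.mem_zpowers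
    have hxf : x • ((j • w - w) - (j' • w' - w')) = (j • w - w) - (j' • w' - w') :=
      h x (hb.mem_le X hX hxX)
    have hxd : x • (j' • w' - w') = j' • w' - w' := by
      rw [tv_apply H htj', add_sub_cancel_left]
      rcases zmod_two_cases (fv W j' w') with e | e <;> rw [e]
      · rw [zero_smul, smul_zero]
      · rw [one_smul]
        exact fv_eq_zero.1 (fv_of_commute H htj' hx (hsep B' hB' hne.symm j' hj'))
    rw [smul_sub, hxd, sub_left_inj, ← cen_eq H htj (fv_eq_one.2 hmove)] at hxf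
    exact (fv_eq_one.1 (fv_noncommute H htj hx hnc)) hxf
  · obtain ⟨F, iF, iFt, L, ⟨b⟩⟩ := H.exists_block hB.1
    have hq : 2 < Nat.card F := by rw [← b.card_A]; exact hbig B hB.1
    have h1 : j • w - w ∈ fix W L := by
      have h2 := add_mem (fix_anti (block_le hb hB.1 b) h)
        (H.com_le_fix_block b hB.1 hB'.1 (H.commute_mems hB hB') hne hq hd)
      rwa [sub_add_cancel] at h2
    obtain ⟨c, rfl⟩ := b.exists_a hj
    have hc : c ≠ 0 := fun e => hj1 (by rw [e, b.a_zero])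
    have h2 := congrFun ((b.ker _).2 h1) 0
    rw [map_sub, Pi.sub_apply, b.psi_a] at h2
    have h3 : c * b.ψ w 1 = 0 := by simpa using h2
    exact ((b.fix_eq w).2 ((mul_eq_zero.1 h3).resolve_left hc)) _ (b.a_mem c)

section Thompson

variable {G : Type u} [Group G] [Finite G] {T : Sylow 2 G} {M : Subgroup G} {π : G →* P}
  {e : W ≃ Vo 2 G}

namespace PU

variable (D : PU T M π e T' 𝓔)
include D

/-- A transposition of `J(T)` generates a member. -/
theorem swap_mem {E : Subgroup P} {N : ℕ} (X : PMD W T' E N)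
    {h : E} (hh : (h : P) ∈ Jb T π) {a b : Fin N} (hab : a ≠ b) (hρ : X.ρ h = Equiv.swap a b) :
    Mem W 2 (zpowers (h : P)) := by
  have h2 : (h : P) ^ 2 = 1 := D.Jb_elem.pow _ hh
  have hh1 : (h : P) ≠ 1 := fun e0 => by
    have : X.ρ h = 1 := by rw [show h = 1 from Subtype.ext e0, map_one]
    rw [hρ] at this
    exact hab (Equiv.swap_eq_one_iff.1 this)
  have hcard : Nat.card (zpowers (h : P)) = 2 := by
    rw [Nat.card_zpowers]
    exact orderOf_eq_prime h2 hh1
  have hel : Elem 2 (zpowers (h : P)) := by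
    refine D.Jb_elem.mono ?_
    exact zpowers_le.2 hh
  have hfix : ∀ v : W, X.ψ v a + X.ψ v b = 0 → (h : P) • v = v := by
    intro v hv
    have hab' : X.ψ v a = X.ψ v b := by
      revert hv; generalize X.ψ v a = y; generalize X.ψ v b = z; revert y z; decide
    have h1 : (h : P) • v - v ∈ com W E ⊓ fix W E := by
      refine ⟨mem_com h.2 v, (X.ker _).1 ?_⟩
      rw [map_sub, X.equi, hρ, sub_eq_zero]
      funext i
      rw [pa, Equiv.swap_inv]
      rcases eq_or_ne i a with rfl | hia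
      · rw [Equiv.swap_apply_left, hab']
      rcases eq_or_ne i b with rfl | hib
      · rw [Equiv.swap_apply_right, hab']
      rw [Equiv.swap_apply_of_ne_of_ne hia hib]
    rw [X.sep0] at h1
    exact sub_eq_zero.1 h1
  refine ⟨hel, fun e0 => hh1 (mem_bot.1 (e0 ▸ mem_zpowers (h : P))), ?_, ?_, ?_⟩
  · rw [meas, hcard]
    let f : W →+ ZMod 2 := AddMonoidHom.mk' (fun v => X.ψ v a + X.ψ v b) fun u v => by
      simp only [map_add, Pi.add_apply]; abel
    have hker : f.ker ≤ fix W (zpowers (h : P)) := fun v hv g hg =>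
      (zpowers_le.2 (MulAction.mem_stabilizer_iff.2 (hfix v hv)) :
        zpowers (h : P) ≤ MulAction.stabilizer P v) hg
    have h3 : f.ker.index ≤ 2 := by
      rw [AddSubgroup.index_ker]
      exact le_trans (Nat.card_le_card_of_injective _ Subtype.val_injective)
        (by rw [Nat.card_zmod])
    rw [← f.ker.card_mul_index, mul_comm 2]
    exact Nat.mul_le_mul (AddSubgroup.card_le_of_le hker) h3
  · intro B hB hBne hBne'
    exact absurd (eq_of_le_of_card_ge hB (by
      rw [hcard]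
      haveI : Nontrivial B := (Subgroup.nontrivial_iff_ne_bot B).2 hBne
      exact Finite.one_lt_card)) hBne'
  · intro a' ha' b' hb' v
    by_cases hb1 : b' = 1
    · rw [hb1, one_smul]
    by_cases ha1 : a' = 1
    · rw [ha1, one_smul, sub_self, smul_zero]
    obtain rfl : a' = (h : P) := eq_of_card_two hcard.le ha' (mem_zpowers _) ha1 hh1
    obtain rfl : b' = (h : P) := eq_of_card_two hcard.le hb' (mem_zpowers _) hb1 hh1
    have h4 : ((h : P) • v - v) + ((h : P) • v - v) = 0 := by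
      rw [← two_nsmul]; exact D.hyp.exp _
    rw [smul_sub, ← mul_smul, ← pow_two, h2, one_smul, ← neg_sub ((h : P) • v) v,
      neg_eq_iff_add_eq_zero]
    exact h4

/-- The image of `J(T)` is generated by members. -/
theorem Jb_le_mems : Jb T π ≤ sSup (mems W 2 (T' : Subgroup P)) := by
  have hS : sSup (mems W 2 (T' : Subgroup P)) ≤ sSup 𝓔 :=
    sSup_le fun B hB => D.blk.mem_le B hB.1
  intro j hj
  refine D.mem_of_comps hS (D.Jb_le_N hj) fun E hE g hg => ?_
  obtain ⟨g', hg', hc⟩ := (D.nice hE).comp j hj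
  rw [comp_unique D.blk hE D.hyp hg hc]
  rcases D.blk.nat E hE with hSL | ⟨hP, hI, hd⟩
  · obtain ⟨B, hB, hBE, hBJ⟩ := D.exists_mem_Jb E hE
    obtain ⟨hBeq, -⟩ := exists_sld hSL hB hBE (hBJ.trans D.Jb_le_T)
    refine (le_sSup (show B ∈ mems W 2 (T' : Subgroup P) from ⟨hB, hBJ.trans D.Jb_le_T⟩)) ?_
    rw [hBeq]
    exact ⟨D.Jb_le_T hg', hc.1⟩
  · obtain ⟨N, ⟨X⟩⟩ := exists_pmd D.blk hE hP hI hd
    have h1 := D.pmd_gen hE X (g := ⟨g', hc.1⟩) hg'
    have hle : closure (Swp T π X) ≤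
        ((sSup (mems W 2 (T' : Subgroup P))).subgroupOf E).map X.ρ.toMonoidHom := by
      rw [Subgroup.closure_le]
      rintro σ ⟨h, hh, rfl, a, b, hab, hρ⟩
      refine ⟨h, ?_, rfl⟩
      exact (le_sSup (show zpowers (h : P) ∈ mems W 2 (T' : Subgroup P) from
        ⟨D.swap_mem X hh hab hρ, zpowers_le.2 (D.Jb_le_T hh)⟩)) (mem_zpowers (h : P))
    obtain ⟨h, hh, hhe⟩ := hle h1
    have := X.ρ.injective hhe
    subst this
    exact hh

/-- A nontrivial offender inside `J(T)` normalized by `T` is the whole image of `J(T)`. -/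
theorem eq_Jb {X : Subgroup P} (hle : X ≤ Jb T π) (hne : X ≠ ⊥) (hm : Nat.card W ≤ meas W X)
    (hinv : ∀ t ∈ (T' : Subgroup P), cj t X ≤ X) : X = Jb T π := by
  obtain ⟨B, hBX, hB, -⟩ :=
    exists_mem_le D.hyp.exp D.hyp.faithful (D.Jb_elem.mono hle) hne hm
  refine le_antisymm hle (D.Jb_le_mems.trans (sSup_le fun C hC => ?_))
  obtain ⟨t, ht, rfl⟩ :=
    mems_transitive D.hyp ⟨hB, hBX.trans (hle.trans D.Jb_le_T)⟩ hC
  exact (cj_mono t hBX).trans (hinv t ht)

end PU

end Thompson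

end CfsgLib.PushUpB
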