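import Cfsg.Agent.PushUpB.Baumann
import Cfsg.Agent.LocalB.BlockPermCombi

/-!
Pushing up: offenders on the even vectors and the Sylow 2-subgroups of `S_{2ⁿ+1}`.
-/

set_option autoImplicit false
set_option linter.style.haveILetI false
set_option linter.unusedSectionVars false

namespace CfsgLib.PushUpB

open Subgroup CfsgLib.BlockPermCombi

variable {n : ℕ}

open MulAction in
/-- An elementary offender on the even vectors is generated by transpositions. -/
theorem le_closure_swaps (hn : Odd n) (H : Subgroup (Equiv.Perm (Fin n)))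
    (hexp : ∀ h ∈ H, h * h = 1)
    (heq : Nat.card {v : Vec n // Ev v} ≤
      Nat.card H * Nat.card {v : Vec n // Ev v ∧ ∀ h ∈ H, pa h v = v}) :
    H ≤ closure {σ | σ ∈ H ∧ σ.IsSwap} := by
  classical
  have hcomm : ∀ a ∈ H, ∀ b ∈ H, a * b = b * a := fun a ha b hb => by
    have h := hexp _ (mul_mem ha hb)
    calc a * b = a * (a * b * (a * b)) * b := by rw [h, mul_one]
      _ = (a * a) * (b * a) * (b * b) := by group
      _ = b * a := by rw [hexp a ha, hexp b hb, one_mul, mul_one]
  letI : Fintype ↥H := Fintype.ofFinite _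
  let Ω := orbitRel.Quotient ↥H (Fin n)
  letI : Fintype Ω := Fintype.ofFinite _
  let O : Ω → Type := fun o => {i : Fin n // (Quotient.mk'' i : Ω) = o}
  have hmk : ∀ (h : ↥H) (i : Fin n), (Quotient.mk'' ((h : Equiv.Perm (Fin n)) i) : Ω) =
      Quotient.mk'' i := fun h i => Quotient.sound' ⟨h, rfl⟩
  have hH : Nat.card H ≤ ∏ o : Ω, Nat.card (O o) := by
    rw [← Nat.card_pi]
    refine Nat.card_le_card_of_injective (fun h o => (⟨(h : Equiv.Perm (Fin n)) o.out,
      (hmk h o.out).trans (Quotient.out_eq' o)⟩ : O o)) fun h h' e => Subtype.ext (Equiv.ext fun i => ?_)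
    obtain ⟨k, hk⟩ : i ∈ orbit ↥H (Quotient.mk'' i : Ω).out :=
      Quotient.exact' (Quotient.out_eq' (Quotient.mk'' i : Ω)).symm
    have hk' : (k : Equiv.Perm (Fin n)) (Quotient.mk'' i : Ω).out = i := hk
    have he : (h : Equiv.Perm (Fin n)) (Quotient.mk'' i : Ω).out =
        (h' : Equiv.Perm (Fin n)) (Quotient.mk'' i : Ω).out :=
      congrArg Subtype.val (congrFun e (Quotient.mk'' i : Ω))
    calc (h : Equiv.Perm (Fin n)) i = ((h : Equiv.Perm (Fin n)) * k) (Quotient.mk'' i : Ω).out := by
          rw [Equiv.Perm.mul_apply, hk']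
      _ = ((k : Equiv.Perm (Fin n)) * h') (Quotient.mk'' i : Ω).out := by
          rw [hcomm _ h.2 _ k.2, Equiv.Perm.mul_apply, Equiv.Perm.mul_apply, he]
      _ = (h' : Equiv.Perm (Fin n)) i := by
          rw [← hcomm _ h'.2 _ k.2, Equiv.Perm.mul_apply, hk']
  -- an orbit of odd length
  obtain ⟨o₁, ho₁⟩ : ∃ o : Ω, Odd (Nat.card (O o)) := by
    by_contra hno
    push Not at hno
    have h1 : n = ∑ o : Ω, Nat.card (O o) := by
      simp only [O, Nat.card_eq_fintype_card, Fintype.card_subtype]
      conv_lhs => rw [← Fintype.card_fin n, ← Finset.card_univ]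
      exact Finset.card_eq_sum_card_fiberwise fun _ _ => Finset.mem_univ _
    refine Nat.not_even_iff_odd.2 hn ?_
    rw [h1]
    exact Finset.even_sum _ fun o _ => Nat.not_odd_iff_even.1 (hno o)
  let χ : Vec n := fun i => if (Quotient.mk'' i : Ω) = o₁ then 1 else 0
  have hχ : ∑ i, χ i = 1 := by
    simp only [χ]
    rw [Finset.sum_boole]
    obtain ⟨m, hm⟩ := ho₁
    rw [Nat.card_eq_fintype_card, Fintype.card_subtype] at hm
    rw [hm]; push_cast
    rw [show (2 : ZMod 2) = 0 from rfl, zero_mul, zero_add]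
  have hfix : Nat.card {v : Vec n // Ev v ∧ ∀ h ∈ H, pa h v = v} * 2 ≤ 2 ^ Fintype.card Ω := by
    have h2 : Nat.card (Ω → ZMod 2) = 2 ^ Fintype.card Ω := by
      rw [Nat.card_fun, Nat.card_zmod, Nat.card_eq_fintype_card]
    rw [← h2]
    conv_lhs => arg 2; rw [← Nat.card_zmod 2]
    rw [← Nat.card_prod]
    refine Nat.card_le_card_of_injective (fun x o => (x.1 : Vec n) o.out + x.2 * χ o.out) ?_
    rintro ⟨⟨v, hv, hvf⟩, s⟩ ⟨⟨v', hv', hvf'⟩, s'⟩ e
    have hconst : ∀ (w : Vec n), (∀ h ∈ H, pa h w = w) →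
        ∀ i, w i = w (Quotient.mk'' i : Ω).out := by
      intro w hw i
      obtain ⟨k, hk⟩ : i ∈ orbit ↥H (Quotient.mk'' i : Ω).out :=
        Quotient.exact' (Quotient.out_eq' (Quotient.mk'' i : Ω)).symm
      have := congrFun (hw _ (inv_mem k.2)) (Quotient.mk'' i : Ω).out
      rw [pa, inv_inv] at this
      rw [← this]
      exact congrArg w hk.symm
    have hχf : ∀ i, χ i = χ (Quotient.mk'' i : Ω).out := fun i => by
      simp only [χ, Quotient.out_eq']
    have e' : ∀ i, v i + s * χ i = v' i + s' * χ i := fun i => by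
      rw [hconst v hvf i, hconst v' hvf' i, hχf i]
      exact congrFun e _
    have hs : s = s' := by
      have := Finset.sum_congr (rfl : (Finset.univ : Finset (Fin n)) = _) fun i _ => e' i
      rw [Finset.sum_add_distrib, Finset.sum_add_distrib, ← Finset.mul_sum, ← Finset.mul_sum,
        show ∑ i, v i = 0 from hv, show ∑ i, v' i = 0 from hv', hχ] at this
      simpa using this
    subst hs
    exact Prod.ext (Subtype.ext (funext fun i => add_right_cancel (e' i))) rfl
  have hall : 2 ^ n ≤ Nat.card {v : Vec n // Ev v} * 2 := by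
    have h2 : Nat.card (Vec n) = 2 ^ n := by
      rw [Nat.card_fun, Nat.card_zmod, Nat.card_eq_fintype_card, Fintype.card_fin]
    rw [← h2]
    conv_rhs => arg 2; rw [← Nat.card_zmod 2]
    rw [← Nat.card_prod]
    have a : Fin n := ⟨0, hn.pos⟩
    refine Nat.card_le_card_of_injective (fun v : Vec n =>
      ((⟨v + Pi.single a (∑ i, v i), ?_⟩ : {v : Vec n // Ev v}), ∑ i, v i)) fun v w e => ?_
    · unfold Ev
      simp only [Pi.add_apply, Finset.sum_add_distrib, Finset.sum_pi_single', Finset.mem_univ,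
        if_true]
      exact CharTwo.add_self_eq_zero _
    · have e1 := congrArg (fun x => ((x.1 : {v : Vec n // Ev v}) : Vec n)) e
      have e2 := congrArg Prod.snd e
      dsimp only at e1 e2
      rw [e2] at e1
      exact add_right_cancel e1
  have hprod : (∏ o : Ω, Nat.card (O o)) * 2 ^ Fintype.card Ω ≤ 2 ^ n := by
    rw [← Finset.card_univ (α := Ω), ← Finset.prod_const, ← Finset.prod_mul_distrib]
    have hsum : n = ∑ o : Ω, Nat.card (O o) := by
      simp only [O, Nat.card_eq_fintype_card, Fintype.card_subtype]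
      conv_lhs => rw [← Fintype.card_fin n, ← Finset.card_univ]
      exact Finset.card_eq_sum_card_fiberwise fun _ _ => Finset.mem_univ _
    conv_rhs => rw [hsum, ← Finset.prod_pow_eq_pow_sum]
    refine Finset.prod_le_prod' fun o _ => ?_
    generalize Nat.card (O o) = m
    rcases Nat.eq_zero_or_pos m with rfl | hm
    · simp
    calc m * 2 ≤ 2 ^ (m - 1) * 2 := by
          refine Nat.mul_le_mul_right _ ?_
          have := (m - 1).lt_two_pow_self
          omega
      _ = 2 ^ m := by rw [← pow_succ]; congr 1; omega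
  have hterm : ∀ o : Ω, Nat.card (O o) * 2 ≤ 2 ^ Nat.card (O o) := fun o => by
    generalize Nat.card (O o) = m
    rcases Nat.eq_zero_or_pos m with rfl | hm
    · simp
    calc m * 2 ≤ 2 ^ (m - 1) * 2 := by
          refine Nat.mul_le_mul_right _ ?_
          have := (m - 1).lt_two_pow_self
          omega
      _ = 2 ^ m := by rw [← pow_succ]; congr 1; omega
  have hsum : n = ∑ o : Ω, Nat.card (O o) := by
    simp only [O, Nat.card_eq_fintype_card, Fintype.card_subtype]
    conv_lhs => rw [← Fintype.card_fin n, ← Finset.card_univ]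
    exact Finset.card_eq_sum_card_fiberwise fun _ _ => Finset.mem_univ _
  have hchain : 2 ^ n ≤ Nat.card H * 2 ^ Fintype.card Ω := by
    refine hall.trans ((Nat.mul_le_mul_right 2 heq).trans ?_)
    rw [mul_assoc]
    exact Nat.mul_le_mul_left _ hfix
  have hHeq : Nat.card H = ∏ o : Ω, Nat.card (O o) :=
    le_antisymm hH (Nat.le_of_mul_le_mul_right (hprod.trans hchain) (by positivity))
  have hsmall : ∀ o : Ω, Nat.card (O o) ≤ 2 := by
    intro o
    by_contra hbig
    push Not at hbig
    have hlt : (∏ o : Ω, Nat.card (O o) * 2) < ∏ o : Ω, 2 ^ Nat.card (O o) := by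
      refine Finset.prod_lt_prod (fun o _ => ?_) (fun o _ => hterm o) ⟨o, Finset.mem_univ _, ?_⟩
      · haveI : Nonempty (O o) := ⟨⟨o.out, Quotient.out_eq' o⟩⟩
        have : 0 < Nat.card (O o) := Nat.card_pos
        positivity
      · generalize Nat.card (O o) = m at hbig
        have h1 : 2 ^ 2 * (m - 2) ≤ 2 ^ 2 * (2 ^ (m - 2) - 1) :=
          Nat.mul_le_mul_left _ (Nat.le_sub_one_of_lt (m - 2).lt_two_pow_self)
        have h2 : 2 ^ 2 * 2 ^ (m - 2) = 2 ^ m := by rw [← pow_add]; congr 1; omega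
        rw [Nat.mul_sub, Nat.mul_sub, h2] at h1
        omega
    rw [Finset.prod_mul_distrib, Finset.prod_const, Finset.card_univ, ← hHeq,
      Finset.prod_pow_eq_pow_sum, ← hsum] at hlt
    exact hchain.not_gt hlt
  let f : ↥H → ((o : Ω) → O o) := fun h o => ⟨(h : Equiv.Perm (Fin n)) o.out,
    (hmk h o.out).trans (Quotient.out_eq' o)⟩
  have hinj : Function.Injective f := fun h h' e => Subtype.ext (Equiv.ext fun i => by
    obtain ⟨k, hk⟩ : i ∈ orbit ↥H (Quotient.mk'' i : Ω).out :=
      Quotient.exact' (Quotient.out_eq' (Quotient.mk'' i : Ω)).symm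
    have hk' : (k : Equiv.Perm (Fin n)) (Quotient.mk'' i : Ω).out = i := hk
    have he : (h : Equiv.Perm (Fin n)) (Quotient.mk'' i : Ω).out =
        (h' : Equiv.Perm (Fin n)) (Quotient.mk'' i : Ω).out :=
      congrArg Subtype.val (congrFun e (Quotient.mk'' i : Ω))
    rw [← hk', ← Equiv.Perm.mul_apply, ← Equiv.Perm.mul_apply, hcomm _ h.2 _ k.2,
      hcomm _ h'.2 _ k.2, Equiv.Perm.mul_apply, Equiv.Perm.mul_apply, he])
  have hsurj : Function.Surjective f :=
    ((Fintype.bijective_iff_injective_and_card f).2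
      ⟨hinj, by rw [← Nat.card_eq_fintype_card, ← Nat.card_eq_fintype_card, Nat.card_pi, hHeq]⟩).2
  suffices hs : ∀ s : Finset Ω, ∀ h : ↥H, (∀ o ∉ s, (h : Equiv.Perm (Fin n)) o.out = o.out) →
      (h : Equiv.Perm (Fin n)) ∈ closure {σ | σ ∈ H ∧ σ.IsSwap} by
    intro h hh
    exact hs Finset.univ ⟨h, hh⟩ fun o ho => absurd (Finset.mem_univ o) ho
  intro s
  induction s using Finset.induction_on with
  | empty =>
    intro h hh
    have : h = 1 := hinj (funext fun o => Subtype.ext (by simpa [f] using hh o (by simp)))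
    rw [this]; exact one_mem _
  | @insert o s hos ih =>
    intro h hh
    by_cases hfixo : (h : Equiv.Perm (Fin n)) o.out = o.out
    · exact ih h fun o' ho' => by
        rcases eq_or_ne o' o with rfl | hne
        · exact hfixo
        · exact hh o' (by simp [hne, ho'])
    obtain ⟨k, hk⟩ := hsurj fun o' => if o' = o then f h o' else f 1 o'
    have hko : (k : Equiv.Perm (Fin n)) o.out = (h : Equiv.Perm (Fin n)) o.out := by
      have := congrArg Subtype.val (congrFun hk o)
      simpa [f] using this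
    have hko' : ∀ o', o' ≠ o → (k : Equiv.Perm (Fin n)) o'.out = o'.out := fun o' hne => by
      have := congrArg Subtype.val (congrFun hk o')
      simpa [f, hne] using this
    have hkswap : (k : Equiv.Perm (Fin n)) =
        Equiv.swap o.out ((k : Equiv.Perm (Fin n)) o.out) := by
      have hkk : (k : Equiv.Perm (Fin n)) ((k : Equiv.Perm (Fin n)) o.out) = o.out := by
        rw [← Equiv.Perm.mul_apply, hexp _ k.2]; rfl
      refine Equiv.ext fun i => ?_
      by_cases hi : (Quotient.mk'' i : Ω) = o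
      · have hmem : i = o.out ∨ i = (k : Equiv.Perm (Fin n)) o.out := by
          by_contra hne
          push Not at hne
          have h3 : 3 ≤ Nat.card (O o) := by
            rw [Nat.card_eq_fintype_card]
            refine Fintype.two_lt_card_iff.2 ⟨⟨i, hi⟩, ⟨o.out, Quotient.out_eq' o⟩,
              ⟨(k : Equiv.Perm (Fin n)) o.out, (hmk k o.out).trans (Quotient.out_eq' o)⟩, ?_, ?_, ?_⟩
            · exact fun e => hne.1 (congrArg Subtype.val e)
            · exact fun e => hne.2 (congrArg Subtype.val e)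
            · exact fun e => hfixo (hko.symm.trans (congrArg Subtype.val e).symm)
          have := hsmall o
          omega
        rcases hmem with rfl | rfl
        · rw [Equiv.swap_apply_left]
        · rw [Equiv.swap_apply_right, hkk]
      · rw [Equiv.swap_apply_of_ne_of_ne (fun e => hi (by rw [e]; exact Quotient.out_eq' o))
          (fun e => hi (by rw [e]; exact (hmk k o.out).trans (Quotient.out_eq' o)))]
        obtain ⟨l, hl⟩ : i ∈ orbit ↥H (Quotient.mk'' i : Ω).out :=
          Quotient.exact' (Quotient.out_eq' (Quotient.mk'' i : Ω)).symm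
        have hl' : (l : Equiv.Perm (Fin n)) (Quotient.mk'' i : Ω).out = i := hl
        rw [← hl', ← Equiv.Perm.mul_apply, hcomm _ k.2 _ l.2, Equiv.Perm.mul_apply,
          hko' _ hi]
    have hkmem : (k : Equiv.Perm (Fin n)) ∈ closure {σ | σ ∈ H ∧ σ.IsSwap} :=
      subset_closure ⟨k.2, _, _, by rw [hko]; exact Ne.symm hfixo, hkswap⟩
    have h1 := ih (k * h) fun o' ho' => by
      rcases eq_or_ne o' o with rfl | hne
      · rw [Subgroup.coe_mul, Equiv.Perm.mul_apply, ← hko, ← Equiv.Perm.mul_apply, hexp _ k.2]; rfl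
      · rw [Subgroup.coe_mul, Equiv.Perm.mul_apply, hh o' (by simp [hne, ho']), hko' o' hne]
    rw [Subgroup.coe_mul] at h1
    have h2 := mul_mem hkmem h1
    rwa [← mul_assoc, hexp _ k.2, one_mul] at h2

/-- A 2-subgroup of odd index of `S_{2ⁿ+1}` fixes one point and is transitive on the others. -/
theorem sylow_point {n : ℕ} (hn : 1 ≤ n) (S : Subgroup (Equiv.Perm (Fin (2 ^ n + 1))))
    (hS : IsPGroup 2 S) (hodd : ¬ 2 ∣ S.index) :
    ∃ c, (∀ s ∈ S, s c = c) ∧ ∀ a b, a ≠ c → b ≠ c → ∃ s ∈ S, s a = b := by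
  classical
  have heven : 2 ∣ 2 ^ n := dvd_pow_self 2 (by omega)
  have hodd' : Odd (Nat.card (Fin (2 ^ n + 1))) := by
    rw [Nat.card_fin]; exact Even.add_one ((even_iff_two_dvd).2 heven)
  obtain ⟨c, hc⟩ : (MulAction.fixedPoints S (Fin (2 ^ n + 1))).Nonempty :=
    hS.nonempty_fixed_point_of_prime_not_dvd_card _ (hodd'.not_two_dvd_nat)
  have hcfix : ∀ s ∈ S, s c = c := fun s hs => hc ⟨s, hs⟩
  refine ⟨c, hcfix, fun a b ha hb => ?_⟩
  set O : Finset (Fin (2 ^ n + 1)) := Finset.univ.filter fun x => ∃ s ∈ S, s a = x with hO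
  by_contra hno
  have hbO : b ∉ O := fun h => hno (Finset.mem_filter.1 h).2
  have haO : a ∈ O := Finset.mem_filter.2 ⟨Finset.mem_univ _, 1, one_mem S, rfl⟩
  have hcO : c ∉ O := fun h => by
    obtain ⟨s, hs, e⟩ := (Finset.mem_filter.1 h).2
    exact ha (s.injective (e.trans (hcfix s hs).symm))
  obtain ⟨j, hj⟩ : ∃ j, O.card = 2 ^ j := by
    obtain ⟨j, hj⟩ := hS.card_orbit a
    refine ⟨j, ?_⟩
    rw [← hj, Nat.card_eq_fintype_card]
    refine (Fintype.card_of_subtype O fun x => ?_).symm
    simp only [hO, Finset.mem_filter, Finset.mem_univ, true_and]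
    exact ⟨fun ⟨s, hs, e⟩ => ⟨⟨s, hs⟩, e⟩, fun ⟨s, e⟩ => ⟨s.1, s.2, e⟩⟩
  have hjn : j < n := by
    have h1 : (insert c (insert b O)).card ≤ 2 ^ n + 1 := by
      simpa using Finset.card_le_univ (insert c (insert b O))
    rw [Finset.card_insert_of_notMem (by simp [hcO, Ne.symm hb]),
      Finset.card_insert_of_notMem hbO, hj] at h1
    exact (Nat.pow_lt_pow_iff_right one_lt_two).1 (by omega)
  refine hodd ?_
  by_cases hj0 : j = 0
  · -- two fixed points
    have hOa : O = {a} := Finset.eq_singleton_iff_unique_mem.2 ⟨haO, fun x hx =>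
      Finset.card_le_one.1 (by rw [hj, hj0]; rfl) x hx a haO⟩
    let X := {x : Fin (2 ^ n + 1) × Fin (2 ^ n + 1) // x.1 ≠ x.2}
    letI : MulAction (Equiv.Perm (Fin (2 ^ n + 1))) X :=
      { smul := fun g x => ⟨(g x.1.1, g x.1.2), fun e => x.2 (g.injective e)⟩
        one_smul := fun x => rfl
        mul_smul := fun g h x => rfl }
    haveI : MulAction.IsPretransitive (Equiv.Perm (Fin (2 ^ n + 1))) X := by
      refine MulAction.isPretransitive_iff_base (a := (⟨(c, a), Ne.symm ha⟩ : X)) |>.2 ?_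
      rintro ⟨⟨x, y⟩, hxy⟩
      refine ⟨Equiv.swap (Equiv.swap c x a) y * Equiv.swap c x, Subtype.ext (Prod.ext ?_ ?_)⟩
      · show Equiv.swap (Equiv.swap c x a) y (Equiv.swap c x c) = x
        rw [Equiv.swap_apply_left, Equiv.swap_apply_of_ne_of_ne ?_ hxy]
        intro e
        have := congrArg (Equiv.swap c x) e
        rw [Equiv.swap_apply_right, Equiv.swap_apply_self] at this
        exact ha this.symm
      · show Equiv.swap (Equiv.swap c x a) y (Equiv.swap c x a) = y
        rw [Equiv.swap_apply_left]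
    have hle : S ≤ MulAction.stabilizer _ (⟨(c, a), Ne.symm ha⟩ : X) := fun s hs =>
      Subtype.ext (Prod.ext (hcfix s hs) (Finset.mem_singleton.1 (hOa ▸
        Finset.mem_filter.2 ⟨Finset.mem_univ _, s, hs, rfl⟩)))
    refine dvd_trans ?_ (Subgroup.index_dvd_of_le hle)
    rw [MulAction.index_stabilizer_of_transitive, Nat.card_eq_fintype_card,
      Fintype.card_subtype_compl]
    have hd : Fintype.card {x : Fin (2 ^ n + 1) × Fin (2 ^ n + 1) // x.1 = x.2} = 2 ^ n + 1 := by
      refine (Fintype.card_congr (β := Fin (2 ^ n + 1)) ?_).trans (Fintype.card_fin _)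
      exact ⟨fun x => x.1.1, fun i => ⟨(i, i), rfl⟩,
        fun x => Subtype.ext (Prod.ext rfl x.2), fun i => rfl⟩
    rw [hd, Fintype.card_prod, Fintype.card_fin, show (2 ^ n + 1) * (2 ^ n + 1) - (2 ^ n + 1) =
      (2 ^ n + 1) * 2 ^ n from Nat.sub_eq_of_eq_add (by ring)]
    exact dvd_mul_of_dvd_right heven _
  · letI : MulAction (Equiv.Perm (Fin (2 ^ n + 1))) (Finset (Fin (2 ^ n + 1))) :=
      { smul := fun g F => F.map g.toEmbedding
        one_smul := fun F => by
          show F.map _ = F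
          exact Finset.map_refl
        mul_smul := fun g h F => by
          show F.map _ = (F.map _).map _
          rw [Finset.map_map]; rfl }
    have horb : MulAction.orbit (Equiv.Perm (Fin (2 ^ n + 1))) O =
        ((Finset.univ : Finset (Fin (2 ^ n + 1))).powersetCard (2 ^ j) : Set _) := by
      ext F
      simp only [Finset.mem_coe, Finset.mem_powersetCard, Finset.subset_univ, true_and,
        MulAction.mem_orbit_iff]
      refine ⟨fun ⟨g, e⟩ => by rw [← e]; exact (Finset.card_map _).trans hj, fun hF => ?_⟩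
      let e := Finset.equivOfCardEq (hj.trans hF.symm)
      refine ⟨e.extendSubtype, ?_⟩
      show O.map _ = F
      refine Finset.eq_of_subset_of_card_le (fun x hx => ?_) (by rw [Finset.card_map, hj, hF])
      obtain ⟨y, hy, rfl⟩ := Finset.mem_map.1 hx
      exact e.extendSubtype_mem y hy
    have hle : S ≤ MulAction.stabilizer _ O := fun s hs => by
      show O.map s.toEmbedding = O
      refine Finset.eq_of_subset_of_card_le (fun x hx => ?_) (Finset.card_map _).ge
      obtain ⟨y, hy, rfl⟩ := Finset.mem_map.1 hx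
      obtain ⟨t, ht, e⟩ := (Finset.mem_filter.1 hy).2
      exact Finset.mem_filter.2 ⟨Finset.mem_univ _, s * t, mul_mem hs ht, by simp [e]⟩
    refine dvd_trans ?_ (Subgroup.index_dvd_of_le hle)
    rw [MulAction.index_stabilizer, horb, Set.ncard_coe_finset, Finset.card_powersetCard,
      Finset.card_univ, Fintype.card_fin]
    obtain ⟨k, hk⟩ := Nat.exists_eq_succ_of_ne_zero (Nat.two_pow_pos j).ne'
    have hjlt : 2 ^ j < 2 ^ n := Nat.pow_lt_pow_right one_lt_two hjn
    have h2j : 2 ∣ 2 ^ j := dvd_pow_self 2 hj0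
    rw [hk, Nat.choose_succ_succ]
    refine dvd_add (Nat.Prime.dvd_choose_pow Nat.prime_two ?_ (by omega)) ?_
    · omega
    · exact Nat.Prime.dvd_choose_pow Nat.prime_two (Nat.succ_ne_zero _) (by omega)

/-- Two transpositions of a 2-group commute. -/
theorem swap_disjoint {S : Subgroup (Equiv.Perm (Fin n))} (hS : IsPGroup 2 S) {a b c : Fin n}
    (hab : a ≠ b) (hac : a ≠ c) (h1 : Equiv.swap a b ∈ S) (h2 : Equiv.swap a c ∈ S) : b = c := by
  by_contra hbc
  have h3 : orderOf (⟨_, mul_mem h2 h1⟩ : S) = 3 := by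
    rw [← Subgroup.orderOf_coe]
    exact (Equiv.Perm.isThreeCycle_swap_mul_swap_same hac hab (Ne.symm hbc)).orderOf
  obtain ⟨k, hk⟩ := (IsPGroup.iff_orderOf.1 hS) ⟨_, mul_mem h2 h1⟩
  rw [h3] at hk
  rcases k with _ | k
  · omega
  · have : 2 ∣ 3 := hk ▸ dvd_pow_self 2 (Nat.succ_ne_zero k)
    omega

end CfsgLib.PushUpB
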