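import Cfsg.Agent.PushUpB.Baumann

/-!
Pushing up: normalised coordinates for an `SL₂(q)` block.
-/

set_option autoImplicit false
set_option linter.style.haveILetI false
set_option linter.unusedSectionVars false

namespace CfsgLib.PushUpB

open Subgroup Matrix CfsgLib.PMinFF CfsgLib.OffGen
open CfsgLib.SL2Pair (up low up_mul up_inv up_zero up_coe low_coe)

universe u

variable {P : Type u} [Group P] [Finite P] {W : Type u} [AddCommGroup W] [Finite W]
  [DistribMulAction P W]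

/-- An element of `SL₂` fixing the first axis vector is upper unitriangular. -/
theorem eq_up_of_fix {F : Type*} [Field F] (m : SpecialLinearGroup (Fin 2) F)
    (h : (m : Matrix (Fin 2) (Fin 2) F).mulVec ![1, 0] = ![1, 0]) : ∃ c, m = up c := by
  have e0 := congrFun h 0
  have e1 := congrFun h 1
  simp [Matrix.mulVec, dotProduct, Fin.sum_univ_two] at e0 e1
  have hd := m.2
  rw [Matrix.det_fin_two, e0, e1] at hd
  simp at hd
  refine ⟨(m : Matrix (Fin 2) (Fin 2) F) 0 1, ?_⟩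
  ext i j
  fin_cases i <;> fin_cases j <;> simp [up_coe, e0, e1, hd]

theorem up_mulVec_axis {F : Type*} [Field F] (c : F) (v : Fin 2 → F) (hv : v 1 = 0) :
    ((up c : SpecialLinearGroup (Fin 2) F) : Matrix (Fin 2) (Fin 2) F).mulVec v = v := by
  rw [PMinFF.up_mulVec]
  funext i
  fin_cases i <;> simp [hv]

theorem mm {F : Type*} [Field F] (a b : SpecialLinearGroup (Fin 2) F) (v : Fin 2 → F) :
    (a : Matrix (Fin 2) (Fin 2) F).mulVec ((b : Matrix (Fin 2) (Fin 2) F).mulVec v) =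
      ((a * b : SpecialLinearGroup (Fin 2) F) : Matrix (Fin 2) (Fin 2) F).mulVec v := by
  exact Matrix.mulVec_mulVec _ _ _

theorem inv_mulVec {F : Type*} [Field F] (a : SpecialLinearGroup (Fin 2) F) (v : Fin 2 → F) :
    ((a⁻¹ : SpecialLinearGroup (Fin 2) F) : Matrix (Fin 2) (Fin 2) F).mulVec
      ((a : Matrix (Fin 2) (Fin 2) F).mulVec v) = v := by
  rw [mm, inv_mul_cancel]; exact one_mulVec v

theorem mulVec_inv {F : Type*} [Field F] (a : SpecialLinearGroup (Fin 2) F) (v : Fin 2 → F) :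
    (a : Matrix (Fin 2) (Fin 2) F).mulVec
      (((a⁻¹ : SpecialLinearGroup (Fin 2) F) : Matrix (Fin 2) (Fin 2) F).mulVec v) = v := by
  rw [mm, mul_inv_cancel]; exact one_mulVec v

/-- Normalised coordinates on a block: the Sylow trace is the upper unitriangular group. -/
structure SLD (W : Type u) [AddCommGroup W] [DistribMulAction P W] {p : ℕ} (T' : Sylow p P)
    (E : Subgroup P) (F : Type) [Field F] where
  n : ℕ
  hn : 1 ≤ n
  card : Nat.card F = p ^ n
  ρ : E ≃* SpecialLinearGroup (Fin 2) F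
  ψ : W →+ (Fin 2 → F)
  onto : ∀ y, ∃ u ∈ com W E, ψ u = y
  ker : ∀ v, ψ v = 0 ↔ v ∈ fix W E
  equi : ∀ (g : E) (v : W),
    ψ ((g : P) • v) = (ρ g : Matrix (Fin 2) (Fin 2) F).mulVec (ψ v)
  axis : ∀ g : E, (g : P) ∈ (T' : Subgroup P) ↔ ∃ c, ρ g = up c
  fix_eq : ∀ v, v ∈ fix W ((T' : Subgroup P) ⊓ E) ↔ ψ v 1 = 0

/-- An offender of a block inside the Sylow subgroup is the whole trace. -/
theorem exists_sld {p : ℕ} [Fact p.Prime] {T' : Sylow p P} {E B : Subgroup P}
    (hE : SLBlock W p E) (hB : Mem W p B) (hBE : B ≤ E)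
    (hBT : B ≤ (T' : Subgroup P)) :
    B = (T' : Subgroup P) ⊓ E ∧
      ∃ (F : Type) (_ : Field F) (_ : Fintype F), Nonempty (SLD W T' E F) := by
  classical
  obtain ⟨F, iF, iFt, n, hn, hcard, ρ₀, ψ₀, hs₀, hk₀, he₀⟩ := hE
  set S := (T' : Subgroup P) ⊓ E with hS
  -- a fixed vector of the trace
  let f : S →* Equiv.Perm (Fin 2 → F) :=
    { toFun := fun s =>
        { toFun := fun y => (ρ₀ ⟨s.1, s.2.2⟩ : Matrix (Fin 2) (Fin 2) F).mulVec y
          invFun := fun y => ((ρ₀ ⟨s.1, s.2.2⟩)⁻¹ :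
            SpecialLinearGroup (Fin 2) F).1.mulVec y
          left_inv := fun y => inv_mulVec _ y
          right_inv := fun y => mulVec_inv _ y }
      map_one' := Equiv.ext fun y => by
        show (ρ₀ (1 : E) : Matrix (Fin 2) (Fin 2) F).mulVec y = y
        rw [map_one]; exact one_mulVec y
      map_mul' := fun s t => Equiv.ext fun y => by
        show (ρ₀ (⟨s.1, s.2.2⟩ * ⟨t.1, t.2.2⟩ : E) : Matrix (Fin 2) (Fin 2) F).mulVec y = _
        rw [map_mul]
        exact (mm _ _ _).symm }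
  letI : MulAction S (Fin 2 → F) := MulAction.compHom _ f
  have hdvd : p ∣ Nat.card (Fin 2 → F) := by
    rw [Nat.card_fun, Nat.card_eq_fintype_card, hcard, ← pow_mul]
    exact dvd_pow_self p (Nat.mul_ne_zero (by omega) Nat.card_pos.ne')
  obtain ⟨w₀, hw₀, hw0⟩ :=
    (T'.isPGroup'.to_le (inf_le_left : S ≤ _)).exists_fixed_point_of_prime_dvd_card_of_fixed_point
      (Fin 2 → F) hdvd (show (0 : Fin 2 → F) ∈ MulAction.fixedPoints S _ from
        fun s => by
          show (ρ₀ ⟨s.1, s.2.2⟩ : Matrix (Fin 2) (Fin 2) F).mulVec 0 = 0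
          exact Matrix.mulVec_zero _)
  obtain ⟨h, hh⟩ := exists_to_axis (Ne.symm hw0)
  let ρ : E ≃* SpecialLinearGroup (Fin 2) F := ρ₀.trans (MulAut.conj h)
  let ψ : W →+ (Fin 2 → F) := ((h : Matrix (Fin 2) (Fin 2) F).mulVecLin.toAddMonoidHom).comp ψ₀
  have hψ : ∀ v, ψ v = (h : Matrix (Fin 2) (Fin 2) F).mulVec (ψ₀ v) := fun _ => rfl
  have hhinv : ∀ y : Fin 2 → F, (h : Matrix (Fin 2) (Fin 2) F).mulVec
      (((h⁻¹ : SpecialLinearGroup (Fin 2) F) : Matrix (Fin 2) (Fin 2) F).mulVec y) = y := fun y => mulVec_inv h y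
  have honto : ∀ y, ∃ u ∈ com W E, ψ u = y := fun y => by
    obtain ⟨u, hu, e⟩ := hs₀ (((h⁻¹ : SpecialLinearGroup (Fin 2) F) :
      Matrix (Fin 2) (Fin 2) F).mulVec y)
    exact ⟨u, hu, by rw [hψ, e, hhinv]⟩
  have hk : ∀ v, ψ v = 0 ↔ v ∈ fix W E := fun v => by
    rw [← hk₀, hψ]
    refine ⟨fun e => ?_, fun e => by rw [e, Matrix.mulVec_zero]⟩
    have := congrArg (fun y => ((h⁻¹ : SpecialLinearGroup (Fin 2) F) :
      Matrix (Fin 2) (Fin 2) F).mulVec y) e
    simp only [inv_mulVec, Matrix.mulVec_zero] at this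
    exact this
  have he : ∀ (g : E) (v : W), ψ ((g : P) • v) = (ρ g : Matrix (Fin 2) (Fin 2) F).mulVec (ψ v) := by
    intro g v
    show _ = ((h * ρ₀ g * h⁻¹ : SpecialLinearGroup (Fin 2) F) : Matrix (Fin 2) (Fin 2) F).mulVec _
    rw [hψ, hψ, he₀, mm, mm, inv_mul_cancel_right]
  have hup : ∀ s : S, ∃ c, ρ ⟨s.1, s.2.2⟩ = up c := fun s => eq_up_of_fix _ (by
    show ((h * ρ₀ ⟨s.1, s.2.2⟩ * h⁻¹ : SpecialLinearGroup (Fin 2) F) :
      Matrix (Fin 2) (Fin 2) F).mulVec ![1, 0] = _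
    rw [← hh, mm, inv_mul_cancel_right, ← mm]
    exact congrArg (fun y => (h : Matrix (Fin 2) (Fin 2) F).mulVec y) (hw₀ s))
  choose c hc using hup
  have hcinj : Function.Injective c := fun s t e => by
    have := (hc s).trans ((congrArg up e).trans (hc t).symm)
    exact Subtype.ext (congrArg (fun z : E => (z : P)) (ρ.injective this))
  have hBS : B ≤ S := le_inf hBT hBE
  -- the kernel of the second coordinate
  let K : AddSubgroup W := ((Pi.evalAddMonoidHom (fun _ : Fin 2 => F) 1).comp ψ).ker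
  have hK : ∀ v, v ∈ K ↔ ψ v 1 = 0 := fun v => AddMonoidHom.mem_ker
  have hcardS : Nat.card S ≤ Nat.card F := Nat.card_le_card_of_injective c hcinj
  have hBne : B ≠ ⊥ := hB.ne
  obtain ⟨b, hb, hb1⟩ := (Subgroup.bot_or_exists_ne_one B).resolve_left hBne
  have hfixB : fix W B ≤ K := by
    intro v hv
    rw [hK]
    have h1 := he ⟨b, hBE hb⟩ v
    rw [show ((⟨b, hBE hb⟩ : E) : P) • v = v from hv b hb, hc ⟨b, hBS hb⟩, PMinFF.up_mulVec] at h1
    have h2 := congrFun h1 0
    simp at h2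
    refine h2.resolve_left fun h0 => hb1 ?_
    have h3 : c ⟨b, hBS hb⟩ = c 1 := by
      rw [h0]
      have := hc 1
      rw [show (⟨((1 : S) : P), (1 : S).2.2⟩ : E) = 1 from rfl, map_one] at this
      have h4 := congrArg (fun m : SpecialLinearGroup (Fin 2) F =>
        (m : Matrix (Fin 2) (Fin 2) F) 0 1) this
      simpa [up_coe] using h4
    exact congrArg (fun z : S => (z : P)) (hcinj h3)
  have hKcard : Nat.card W = Nat.card F * Nat.card K := by
    let g : W →+ F := (Pi.evalAddMonoidHom (fun _ : Fin 2 => F) 1).comp ψ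
    rw [AddSubgroup.card_eq_card_quotient_mul_card_addSubgroup K]
    congr 1
    refine Nat.card_congr (QuotientAddGroup.quotientKerEquivOfSurjective g fun y => ?_).toEquiv
    obtain ⟨u, -, hu⟩ := honto ![0, y]
    exact ⟨u, by show ψ u 1 = y; rw [hu]; rfl⟩
  have hmeas : Nat.card F * Nat.card K ≤ Nat.card B * Nat.card (fix W B) := hKcard ▸ hB.bound
  have hBcard : Nat.card F ≤ Nat.card B :=
    Nat.le_of_mul_le_mul_right (hmeas.trans
      (Nat.mul_le_mul_left _ (AddSubgroup.card_le_of_le hfixB))) Nat.card_pos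
  have hBeq : B = S := Subgroup.eq_of_le_of_card_ge hBS (hcardS.trans hBcard)
  have hcS : Nat.card S = Nat.card F := le_antisymm hcardS (hBeq ▸ hBcard)
  have hfixeq : fix W S = K := by
    subst hBeq
    refine AddSubgroup.eq_of_le_of_card_ge hfixB ?_
    rw [hcS] at hmeas
    exact Nat.le_of_mul_le_mul_left hmeas Nat.card_pos
  have hsurj : Function.Surjective c := by
    haveI : Fintype S := Fintype.ofFinite _
    exact ((Fintype.bijective_iff_injective_and_card c).2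
      ⟨hcinj, by rw [← Nat.card_eq_fintype_card, hcS, Nat.card_eq_fintype_card]⟩).2
  refine ⟨hBeq, F, iF, iFt, ⟨⟨n, hn, by rw [Nat.card_eq_fintype_card, hcard], ρ, ψ, honto, hk, he,
    fun g => ⟨fun hg => ⟨_, hc ⟨g.1, hg, g.2⟩⟩, fun ⟨d, hd⟩ => ?_⟩,
    fun v => by rw [← hS, hfixeq, hK]⟩⟩⟩
  obtain ⟨t, rfl⟩ := hsurj d
  rw [ρ.injective (hd.trans (hc t).symm)]
  exact t.2.1

end CfsgLib.PushUpB
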