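import Cfsg.Agent.PushUpB.PermCombi
import Cfsg.Agent.PushUpB.SLData
import Cfsg.Agent.CharP.PointStabilizerJoin

/-!
Pushing up: the decomposition over the blocks and coordinates for a symmetric block.
-/

set_option autoImplicit false
set_option linter.style.haveILetI false
set_option linter.unusedSectionVars false

namespace CfsgLib.PushUpB

open Subgroup CfsgLib.PMinFF CfsgLib.OffGen CfsgLib.BlockPermCombi

universe u

variable {P : Type u} [Group P] [Finite P] {W : Type u} [AddCommGroup W] [Finite W]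
  [DistribMulAction P W] {p : ℕ} [Fact p.Prime] {T' : Sylow p P} {M' : Subgroup P}
  {𝓔 : Set (Subgroup P)}

/-- The product of the other blocks. -/
abbrev oth (𝓔 : Set (Subgroup P)) (E : Subgroup P) : Subgroup P := sSup (𝓔 \ {E})

/-- The component of `x` in `E`. -/
def IsComp (𝓔 : Set (Subgroup P)) (E : Subgroup P) (x g : P) : Prop :=
  g ∈ E ∧ g⁻¹ * x ∈ oth 𝓔 E

variable (hb : Blocks W p T' 𝓔) {E : Subgroup P} (hE : E ∈ 𝓔)
include hb hE

theorem N_le_normalizer : sSup 𝓔 ≤ normalizer (E : Set P) := sSup_le fun E' hE' => by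
  rcases eq_or_ne E' E with rfl | hne
  · exact le_normalizer
  · intro x hx
    refine mem_normalizer_of_le ?_
    rintro - ⟨y, hy, rfl⟩
    simp only [MulEquiv.coe_toMonoidHom, MulAut.conj_apply]
    rwa [hb.comm E' hE' E hE hne x hx y hy, mul_inv_cancel_right]

theorem oth_commute {r y : P} (hr : r ∈ oth 𝓔 E) (hy : y ∈ E) : r * y = y * r :=
  (sSup_le fun E' hE' x hx => mem_centralizer_iff.2 fun z hz =>
    (hb.comm E' hE'.1 E hE hE'.2 x hx z hz).symm : oth 𝓔 E ≤ centralizer (E : Set P)) hr |>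
    fun h => (mem_centralizer_iff.1 h y hy).symm

theorem exists_comp {x : P} (hx : x ∈ sSup 𝓔) : ∃ g, IsComp 𝓔 E x g := by
  have h1 : E ≤ normalizer (oth 𝓔 E : Set P) := fun g hg => by
    refine mem_normalizer_of_le ?_
    rintro - ⟨y, hy, rfl⟩
    simp only [MulEquiv.coe_toMonoidHom, MulAut.conj_apply]
    rwa [← oth_commute hb hE hy hg, mul_inv_cancel_right]
  have h2 : sSup 𝓔 ≤ E ⊔ oth 𝓔 E := sSup_le fun E' hE' => by
    rcases eq_or_ne E' E with rfl | hne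
    · exact le_sup_left
    · exact (le_sSup (show E' ∈ 𝓔 \ {E} from ⟨hE', hne⟩)).trans le_sup_right
  obtain ⟨g, hg, r, hr, rfl⟩ := (CfsgLib.Solvable.mem_sup_of_le_normalizer h1).1 (h2 hx)
  exact ⟨g, hg, by simpa⟩

theorem comp_mul {x y g h : P} (h1 : IsComp 𝓔 E x g) (h2 : IsComp 𝓔 E y h) :
    IsComp 𝓔 E (x * y) (g * h) := by
  refine ⟨mul_mem h1.1 h2.1, ?_⟩
  rw [show (g * h)⁻¹ * (x * y) = h⁻¹ * (g⁻¹ * x) * y by group,
    ← oth_commute hb hE h1.2 (inv_mem h2.1), mul_assoc]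
  exact mul_mem h1.2 h2.2

theorem comp_inv {x g : P} (h1 : IsComp 𝓔 E x g) : IsComp 𝓔 E x⁻¹ g⁻¹ := by
  refine ⟨inv_mem h1.1, ?_⟩
  rw [show g⁻¹⁻¹ * x⁻¹ = g * (g⁻¹ * x)⁻¹ * g⁻¹ by group,
    ← oth_commute hb hE (inv_mem h1.2) h1.1, mul_inv_cancel_right]
  exact inv_mem h1.2

theorem comp_pow {x g : P} (h1 : IsComp 𝓔 E x g) (n : ℕ) : IsComp 𝓔 E (x ^ n) (g ^ n) := by
  induction n with
  | zero => exact ⟨by simp, by simp⟩
  | succ n ih => rw [pow_succ, pow_succ]; exact comp_mul hb hE ih h1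

theorem comp_self {g : P} (hg : g ∈ E) : IsComp 𝓔 E g g := ⟨hg, by simp⟩

variable (H : Hyp W p T' M')
include H

theorem oth_modFix {r : P} (hr : r ∈ oth 𝓔 E) : r ∈ modFix W E :=
  (sSup_le fun E' hE' _ hx => H.mem_modFix_other hb hE'.1 hE (Ne.symm hE'.2) hx :
    oth 𝓔 E ≤ modFix W E) hr

theorem oth_fix_com {r : P} (hr : r ∈ oth 𝓔 E) {u : W} (hu : u ∈ com W E) : r • u = u :=
  (sSup_le fun E' hE' x hx => hb.sep E hE E' hE'.1 (Ne.symm hE'.2) hu x hx :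
    oth 𝓔 E ≤ MulAction.stabilizer P u) hr

theorem comp_unique {x g h : P} (h1 : IsComp 𝓔 E x g) (h2 : IsComp 𝓔 E x h) : g = h := by
  have h3 : g⁻¹ * h ∈ E ⊓ oth 𝓔 E := by
    refine ⟨E.mul_mem (E.inv_mem h1.1) h2.1, ?_⟩
    rw [show g⁻¹ * h = (g⁻¹ * x) * (h⁻¹ * x)⁻¹ by group]
    exact (oth 𝓔 E).mul_mem h1.2 ((oth 𝓔 E).inv_mem h2.2)
  rw [hb.inf_others H.faithful hE, mem_bot] at h3
  exact inv_mul_eq_one.1 h3

theorem comp_eq_smul_com {x g : P} (h1 : IsComp 𝓔 E x g) {u : W} (hu : u ∈ com W E) :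
    x • u = g • u := by
  conv_lhs => rw [show x = g * (g⁻¹ * x) by group, mul_smul, oth_fix_com hb hE H h1.2 hu]

/-- The components of the elements of the Sylow subgroup lie in its trace. -/
theorem comp_mem_T {x g : P} (hxT : x ∈ (T' : Subgroup P)) (h1 : IsComp 𝓔 E x g) :
    g ∈ (T' : Subgroup P) := by
  have hN : E.IsSubnormal := by
    haveI := hb.normal
    have hsub : (E.subgroupOf (sSup 𝓔)).Normal :=
      Subgroup.normal_subgroupOf_of_le_normalizer (N_le_normalizer hb hE)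
    exact .step E _ (le_sSup hE) (.step _ ⊤ le_top .top
      (Subgroup.Normal.comap inferInstance _)) hsub
  let K : Subgroup P :=
    { carrier := {g | ∃ x ∈ (T' : Subgroup P), IsComp 𝓔 E x g}
      one_mem' := ⟨1, one_mem _, comp_self hb hE (one_mem E)⟩
      mul_mem' := fun {a b} ⟨x, hx, ha⟩ ⟨y, hy, hb'⟩ => ⟨x * y, mul_mem hx hy, comp_mul hb hE ha hb'⟩
      inv_mem' := fun {a} ⟨x, hx, ha⟩ => ⟨x⁻¹, inv_mem hx, comp_inv hb hE ha⟩ }
  have hKE : K ≤ E := fun a ⟨_, _, ha⟩ => ha.1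
  have hK : IsPGroup p (K.subgroupOf E) := by
    intro a
    obtain ⟨y, hy, ha⟩ := a.2
    obtain ⟨k, hk⟩ := T'.isPGroup' ⟨y, hy⟩
    refine ⟨k, Subtype.ext (Subtype.ext ?_)⟩
    have h2 := comp_pow hb hE ha (p ^ k)
    rw [show y ^ p ^ k = 1 from congrArg Subtype.val hk] at h2
    simpa using comp_unique hb hE H h2 (comp_self hb hE (one_mem E))
  have hS : ¬ p ∣ (((T' : Subgroup P) ⊓ E).subgroupOf E).index :=
    CfsgLib.Kieler.not_dvd_relIndex_subnormal T' hN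
  have hle : ((T' : Subgroup P) ⊓ E).subgroupOf E ≤ K.subgroupOf E := fun a ha =>
    ⟨a.1, ha.1, comp_self hb hE a.2⟩
  have h3 := ((T'.isPGroup'.to_le inf_le_left).comap_subtype (K := E)).toSylow hS |>.is_maximal' hK hle
  have h4 : (⟨g, h1.1⟩ : E) ∈ K.subgroupOf E := ⟨x, hxT, h1⟩
  rw [h3] at h4
  exact h4.1

omit hb hE H

/-- Coordinates on a symmetric block. -/
structure PMD (W : Type u) [AddCommGroup W] [DistribMulAction P W] {p : ℕ} (T' : Sylow p P)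
    (E : Subgroup P) (N : ℕ) where
  n : ℕ
  hn : 1 ≤ n
  hN : N = 2 ^ n + 1
  p2 : p = 2
  ρ : E ≃* Equiv.Perm (Fin N)
  ψ : W →+ (Fin N → ZMod 2)
  zero : ∀ v, Ev (ψ v)
  onto : ∀ y, Ev y → ∃ u ∈ com W E, ψ u = y
  ker : ∀ v, ψ v = 0 ↔ v ∈ fix W E
  equi : ∀ (g : E) (v : W), ψ ((g : P) • v) = pa (ρ g) (ψ v)
  inner : Inner W (T' : Subgroup P) E
  sep0 : com W E ⊓ fix W E = ⊥
  c : Fin N
  fix_c : ∀ g : E, (g : P) ∈ (T' : Subgroup P) → ρ g c = c
  trans : ∀ a b, a ≠ c → b ≠ c → ∃ g : E, (g : P) ∈ (T' : Subgroup P) ∧ ρ g a = b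

theorem exists_pmd (hb : Blocks W p T' 𝓔) (hE : E ∈ 𝓔) (hP : PermBlock W p E)
    (hI : Inner W (T' : Subgroup P) E) (hd : com W E ⊓ fix W E = ⊥) :
    ∃ N, Nonempty (PMD W T' E N) := by
  obtain ⟨hp2, n, hn, ρ, ψ, hz, hs, hk, he⟩ := hP
  subst hp2
  have hN : E.IsSubnormal := by
    haveI := hb.normal
    exact .step E _ (le_sSup hE) (.step _ ⊤ le_top .top
      (Subgroup.Normal.comap inferInstance _))
      (Subgroup.normal_subgroupOf_of_le_normalizer (N_le_normalizer hb hE))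
  set S := (((T' : Subgroup P) ⊓ E).subgroupOf E).map ρ.toMonoidHom with hS
  have hSp : IsPGroup 2 S :=
    ((T'.isPGroup'.to_le inf_le_left).comap_subtype (K := E)).map _
  have hodd : ¬ 2 ∣ S.index := by
    rw [hS, Subgroup.index_map_of_bijective ρ.bijective]
    exact CfsgLib.Kieler.not_dvd_relIndex_subnormal T' hN
  obtain ⟨c, hc, htr⟩ := sylow_point hn S hSp hodd
  refine ⟨_, ⟨⟨n, hn, rfl, rfl, ρ, ψ, hz, hs, hk, fun g v => funext (he g v), hI, hd, c,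
    fun g hg => hc _ ⟨g, ⟨hg, g.2⟩, rfl⟩, fun a b ha hb => ?_⟩⟩⟩
  obtain ⟨-, ⟨g, hg, rfl⟩, e⟩ := htr a b ha hb
  exact ⟨g, hg.1, e⟩

end CfsgLib.PushUpB
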