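import Cfsg.Agent.PushL2.RankOne
import Cfsg.Agent.LocalB.BlockSL2
import Cfsg.Agent.Transfer.PResidual
import Cfsg.Agent.PushUpB.Local
import Cfsg.Prelude.Def_BaumannBlocks

/-!
Pushing up: `O^p` of a rank one group.
-/

set_option autoImplicit false
set_option linter.style.haveILetI false
set_option linter.unusedSectionVars false

namespace CfsgLib.PushUpB

open Subgroup Matrix CfsgLib.PushL2
open CfsgLib.SL2Pair (up low up_coe low_coe mem_upper mem_lower)
open scoped commutatorElement

universe u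

section SL

variable {F : Type} [Field F] [Fintype F] {p : ℕ} [Fact p.Prime]

local notation "SL2" => SpecialLinearGroup (Fin 2) F

theorem pow_up [CharP F p] (c : F) : (up c : SL2) ^ p = 1 := by
  rw [up_pow, CharP.cast_eq_zero, zero_mul, SL2Pair.up_zero]

theorem pow_low [CharP F p] (c : F) : (low c : SL2) ^ p = 1 := by
  rw [low_pow, CharP.cast_eq_zero, zero_mul, SL2Pair.low_zero]

/-- The residual of `SL₂` in its own characteristic is the derived group. -/
theorem pResidual_SL [CharP F p] : Cfsg.pResidual p SL2 = commutator SL2 := by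
  classical
  haveI : (commutator SL2).Normal := inferInstance
  -- the abelian quotient has exponent `p`
  have hexp : ∀ g : SL2, g ^ p ∈ commutator SL2 := by
    intro g
    let f := Abelianization.of (G := SL2)
    have hle : (⊤ : Subgroup SL2) ≤ ((powMonoidHom p).comp f).ker := by
      rw [← SL2Pair.sup_eq_top (k := F)]
      refine sup_le (fun x hx => ?_) (fun x hx => ?_)
      · obtain ⟨c, rfl⟩ := mem_lower.1 hx
        show f (low c) ^ p = 1
        rw [← map_pow, pow_low, map_one]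
      · obtain ⟨c, rfl⟩ := mem_upper.1 hx
        show f (up c) ^ p = 1
        rw [← map_pow, pow_up, map_one]
    have h : f (g ^ p) = 1 := by rw [map_pow]; exact hle (mem_top g)
    rw [← Abelianization.ker_of]
    exact h
  refine le_antisymm ((closure_le _).2 fun g hg => ?_) ?_
  · have h1 : orderOf (g : SL2 ⧸ commutator SL2) ∣ p := orderOf_dvd_of_pow_eq_one (by
      rw [← QuotientGroup.mk_pow, QuotientGroup.eq_one_iff]; exact hexp g)
    have h2 := Nat.eq_one_of_dvd_coprimes (show (orderOf g).Coprime p from hg)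
      (orderOf_map_dvd (QuotientGroup.mk' _) g) h1
    exact (QuotientGroup.eq_one_iff g).1 (orderOf_eq_one_iff.1 h2)
  · by_cases hbig : ∃ t : F, t ≠ 0 ∧ t * t ≠ 1
    · set N := Cfsg.pResidual p SL2
      have hN : N = ⊤ := by
        by_contra hne
        haveI : Nontrivial (SL2 ⧸ N) := QuotientGroup.nontrivial_iff.2 hne
        have hP : IsPGroup p (SL2 ⧸ N) := PResidual.isPGroup_quotient_pResidual
        haveI := hP.isNilpotent
        refine IsSolvable.commutator_lt_top_of_nontrivial (G := SL2 ⧸ N) |>.ne ?_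
        have h1 := congrArg (Subgroup.map (QuotientGroup.mk' N)) (BlockSL2.R_eq_top (F := F) hbig)
        rw [Subgroup.map_top_of_surjective _ (QuotientGroup.mk'_surjective N), BlockSL2.R,
          commutator_def, map_commutator,
          Subgroup.map_top_of_surjective _ (QuotientGroup.mk'_surjective N), ← commutator_def] at h1
        exact h1
      rw [hN]; exact le_top
    · intro g hg
      rcases eq_or_ne (p : ℕ) 2 with rfl | hp2
      · have h2 : (2 : F) = 0 := CharP.cast_eq_zero F 2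
        set N := Cfsg.pResidual 2 SL2
        have h01 : ∀ x : F, x = 0 ∨ x = 1 := fun x => by
          rcases BlockSL2.small_cases hbig x with h | h | h
          · exact Or.inl h
          · exact Or.inr h
          · exact Or.inr (h.trans (by linear_combination (-(1 : F)) * h2))
        have h3 : up (1 : F) * low 1 ∈ N := by
          refine PResidual.mem_pResidual 2 (Nat.Coprime.coprime_dvd_left
            (orderOf_dvd_of_pow_eq_one (n := 3) ?_) (by norm_num))
          refine Subtype.ext ?_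
          ext i j
          fin_cases i <;> fin_cases j <;>
            simp [pow_succ, Matrix.SpecialLinearGroup.coe_mul, up_coe, low_coe, Matrix.mul_apply,
              Fin.sum_univ_two]
          all_goals grind
        set f := QuotientGroup.mk' N
        set Z : Subgroup SL2 := (zpowers (f (up (1 : F)))).comap f
        have htop : (⊤ : Subgroup SL2) ≤ Z := by
          rw [← SL2Pair.sup_eq_top (k := F)]
          refine sup_le (fun x hx => ?_) (fun x hx => ?_)
          · obtain ⟨c, rfl⟩ := mem_lower.1 hx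
            rcases h01 c with rfl | rfl
            · rw [SL2Pair.low_zero]; exact one_mem _
            · have h4 : f (up (1 : F) * low 1) = 1 := (QuotientGroup.eq_one_iff _).2 h3
              rw [map_mul, mul_eq_one_iff_inv_eq] at h4
              show f (low 1) ∈ zpowers _
              rw [← h4]
              exact inv_mem (mem_zpowers _)
          · obtain ⟨c, rfl⟩ := mem_upper.1 hx
            rcases h01 c with rfl | rfl
            · rw [SL2Pair.up_zero]; exact one_mem _
            · exact mem_zpowers (f (up (1 : F)))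
        have hle : commutator SL2 ≤ N :=
          Subgroup.Normal.quotient_commutative_iff_commutator_le.1 ⟨⟨fun a b => by
            obtain ⟨x, rfl⟩ := QuotientGroup.mk'_surjective N a
            obtain ⟨y, rfl⟩ := QuotientGroup.mk'_surjective N b
            obtain ⟨i, hi⟩ := htop (mem_top x)
            obtain ⟨j, hj⟩ := htop (mem_top y)
            change f (up (1 : F)) ^ i = f x at hi
            change f (up (1 : F)) ^ j = f y at hj
            show f x * f y = f y * f x
            rw [← hi, ← hj, ← _root_.zpow_add, add_comm, _root_.zpow_add]⟩⟩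
        exact hle hg
      · have h2 : (2 : F) ≠ 0 := fun h => hp2 ((Nat.prime_dvd_prime_iff_eq Fact.out Nat.prime_two).1
          ((CharP.cast_eq_zero_iff F p 2).1 (by exact_mod_cast h)))
        refine PResidual.mem_pResidual p ?_
        obtain ⟨k, hk⟩ := (BlockSL2.isPGroup_R_of_small h2 hbig) ⟨g, hg⟩
        have hk' : g ^ 2 ^ k = 1 := congrArg Subtype.val hk
        exact Nat.Coprime.coprime_dvd_left (orderOf_dvd_of_pow_eq_one hk')
          (Nat.Coprime.pow_left k ((Nat.coprime_primes Nat.prime_two Fact.out).2 (Ne.symm hp2)))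

end SL

namespace Piece

variable {H : Type u} [Group H] [Finite H] {p : ℕ} [Fact p.Prime] {S : Sylow p H} {q : ℕ}
  {M₀ : Subgroup H} {F : Type} [Field F] [Fintype F]

/-- A rank one group with a natural piece `U`. -/
structure PC (p : ℕ) [Fact p.Prime] (S : Sylow p H) (q : ℕ) (M₀ : Subgroup H) (U : Subgroup H) :
    Prop where
  nc : NoChar p S q M₀
  ker : kerOf (omega p H) (z0 p H) = Cfsg.pCore p H
  normal : U.Normal
  le : U ≤ omega p H
  cover : omega p H ≤ U ⊔ z0 p H
  com : ⁅U, (⊤ : Subgroup H)⁆ = U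

namespace PC

variable {U : Subgroup H} (hU : PC p S q M₀ U)

/-- `O^p`. -/
local notation "E" => Cfsg.pResidual p H

theorem res_sup : E ⊔ (S : Subgroup H) = ⊤ := by
  rw [← index_eq_one]
  by_contra h
  obtain ⟨r, hr, hrX⟩ := Nat.exists_prime_and_dvd h
  obtain ⟨k, hk⟩ := PResidual.exists_index_pResidual (G := H) (p := p)
  have h1 := (Nat.prime_dvd_prime_iff_eq hr Fact.out).1
    (hr.dvd_of_dvd_pow (hk ▸ hrX.trans (index_dvd_of_le le_sup_left)))
  exact S.not_dvd_index ((h1 ▸ hrX).trans (index_dvd_of_le le_sup_right))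

include hU

theorem res_not_le : ¬ E ≤ Cfsg.pCore p H := fun h => hU.nc.core.ne (by
  have hS : (S : Subgroup H) = ⊤ := by
    rw [eq_top_iff, ← res_sup (S := S)]
    exact sup_le (h.trans hU.nc.core.le_S) le_rfl
  have : IsPGroup p ↥(⊤ : Subgroup H) := hS ▸ S.isPGroup'
  rw [hS]
  exact le_pCore_of_normal inferInstance this)

/-- The fixed points of `E` on `Ω₁Z(O_p)`. -/
theorem fixed_le {x : H} (hx : x ∈ omega p H) (hc : ∀ g ∈ E, g * x = x * g) : x ∈ z0 p H := by
  haveI : (z0 p H).Normal := inferInstance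
  set X := (omega p H ⊓ centralizer (E : Set H)) ⊔ z0 p H with hX
  haveI : (omega p H ⊓ centralizer (E : Set H)).Normal := inferInstance
  have hXn : X.Normal := inferInstance
  have hXV : X ≤ omega p H := sup_le inf_le_left (fix_le _)
  rcases (hU.nc.toStd.linesV.isChiefFactor hU.nc.ctx).2.2.2 X hXn le_sup_right hXV with h | h
  · have : x ∈ X := mem_sup_left ⟨hx, mem_centralizer_iff.2 hc⟩
    rwa [h] at this
  · refine absurd ?_ hU.res_not_le
    rw [← hU.ker]
    intro g hg
    refine mem_kerOf.2 fun v hv => ?_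
    obtain ⟨a, ha, z, hz, rfl⟩ := mem_sup_of_normal_right.1 (h.ge hv)
    rw [show g * (a * z) * g⁻¹ * (a * z)⁻¹ = (g * a) * (z * g⁻¹) * z⁻¹ * a⁻¹ by group,
      mem_centralizer_iff.1 ha.2 g hg, show z * g⁻¹ = g⁻¹ * z from (z0_central hz g⁻¹).symm,
      show a * g * (g⁻¹ * z) * z⁻¹ * a⁻¹ = 1 by group]
    exact one_mem _

theorem com_res : ⁅U, E⁆ = U := by
  haveI := hU.normal
  haveI : (E).Normal := inferInstance
  set D := ⁅U, E⁆ with hD
  haveI hDn : D.Normal := commutator_normal U E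
  have hDU : D ≤ U := commutator_le_left U E
  have hV : omega p H ≤ D ⊔ z0 p H := by
    rcases (hU.nc.toStd.linesV.isChiefFactor hU.nc.ctx).2.2.2 (D ⊔ z0 p H) inferInstance
      le_sup_right (sup_le (hDU.trans hU.le) (fix_le _)) with h | h
    · refine absurd ?_ hU.res_not_le
      rw [← hU.ker]
      intro g hg
      refine mem_kerOf.2 fun v hv => ?_
      obtain ⟨a, ha, z, hz, rfl⟩ := mem_sup_of_normal_right.1 (hU.cover hv)
      have h1 : ⁅a, g⁆ ∈ z0 p H := h.le (mem_sup_left (commutator_mem_commutator ha hg))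
      rw [show g * (a * z) * g⁻¹ * (a * z)⁻¹ = (g * a * g⁻¹) * (g * z * g⁻¹) * z⁻¹ * a⁻¹ by group,
        z0_central hz g, show g * a * g⁻¹ * (z * g * g⁻¹) * z⁻¹ * a⁻¹ = ⁅a, g⁆⁻¹ by
          rw [commutatorElement_def]; group]
      exact inv_mem h1
    · exact h.ge
  refine le_antisymm hDU ?_
  conv_lhs => rw [← hU.com]
  refine commutator_le.2 fun a ha g _ => ?_
  obtain ⟨d, hd, z, hz, rfl⟩ := mem_sup_of_normal_right.1 (hV (hU.le ha))
  rw [commutatorElement_def, show d * z * g * (d * z)⁻¹ * g⁻¹ = d * (z * g) * z⁻¹ * d⁻¹ * g⁻¹ by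
    group, ← z0_central hz g, show d * (g * z) * z⁻¹ * d⁻¹ * g⁻¹ = d * (g * d⁻¹ * g⁻¹) by group]
  exact D.mul_mem hd (hDn.conj_mem _ (D.inv_mem hd) g)

theorem U_le_res : U ≤ E := by
  haveI : (E).Normal := inferInstance
  rw [← hU.com_res]
  exact commutator_le_right U E

theorem U_inf_z0 : U ⊓ centralizer (E : Set H) = U ⊓ z0 p H := by
  ext x
  constructor
  · exact fun hx => ⟨hx.1, hU.fixed_le (hU.le hx.1) fun g hg => mem_centralizer_iff.1 hx.2 g hg⟩
  · exact fun hx => ⟨hx.1, mem_centralizer_iff.2 fun g _ => z0_central hx.2 g⟩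

theorem res_eq_com : ⁅E, (S : Subgroup H)⁆ = E := by
  haveI : (E).Normal := inferInstance
  set D := ⁅E, (S : Subgroup H)⁆ with hD
  haveI hDn : D.Normal := by
    refine normalizer_eq_top_iff.1 (top_le_iff.1 ?_)
    rw [← res_sup (S := S), hD]
    exact sup_le (CfsgLib.Baumann.le_normalizer_commutator_left _ _)
      (CfsgLib.Baumann.le_normalizer_commutator_right _ _)
  have hDE : D ≤ E := commutator_le_left E _
  -- `E` normalises `S` modulo `D`
  have hN : (D ⊔ (S : Subgroup H)).Normal := by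
    refine normalizer_eq_top_iff.1 (top_le_iff.1 ?_)
    rw [← res_sup (S := S)]
    refine sup_le (fun g hg => ?_) (le_normalizer.trans' le_sup_right)
    refine mem_normalizer_fintype fun x hx => ?_
    obtain ⟨d, hd, s, hs, rfl⟩ := mem_sup_of_normal_left.1 hx
    rw [show g * (d * s) * g⁻¹ = (g * d * g⁻¹) * ⁅g, s⁆ * s by rw [commutatorElement_def]; group]
    exact mul_mem (mem_sup_left (mul_mem (hDn.conj_mem d hd g) (commutator_mem_commutator hg hs)))
      (mem_sup_right hs)
  refine le_antisymm hDE ((closure_le _).2 fun g hg => ?_)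
  rcases hU.nc.core.dich _ hN with h | h
  · rw [sup_assoc, sup_idem] at h
    exact mem_of_coprime_of_sup_eq_top S h hg
  · rw [inf_eq_left.2 le_sup_right] at h
    exact absurd (le_pCore_of_normal h S.isPGroup') hU.nc.core.ne

theorem pCore_res : Cfsg.pCore p ↥(E) = (Cfsg.pCore p H).subgroupOf (E) := by
  haveI : (E).Normal := inferInstance
  refine le_antisymm (fun x hx => ?_) (CfsgLib.Solvable.le_pCore p
    (Subgroup.Normal.comap inferInstance _)
    ((CfsgLib.Solvable.isPGroup_pCore p : IsPGroup p (Cfsg.pCore p H)).comap_subtype))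
  haveI : (Cfsg.pCore p ↥(E)).Characteristic :=
    characteristic_iff_map_le.2 fun φ => CfsgLib.Solvable.le_pCore p
      (Subgroup.Normal.map inferInstance φ.toMonoidHom φ.surjective)
      ((CfsgLib.Solvable.isPGroup_pCore p).map φ.toMonoidHom)
  exact le_pCore_of_normal (N := (Cfsg.pCore p ↥(E)).map (E).subtype) inferInstance
    ((CfsgLib.Solvable.isPGroup_pCore p).map _) ⟨x, hx, rfl⟩

theorem pCoreOf_res : Cfsg.pCoreOf p (E) = E ⊓ Cfsg.pCore p H := by
  rw [Cfsg.pCoreOf, hU.pCore_res, Subgroup.subgroupOf_map_subtype, inf_comm]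

variable (φ : Nat2 p S F (omega p H) (zs S) (z0 p H))

include φ

theorem charP : CharP F p := by
  rw [← CharP.ringChar_of_prime_eq_zero Fact.out (φ.char_eq hU.nc.toStd.linesV)]
  infer_instance

theorem rho_ker {g : H} : φ.ρ g = 1 ↔ g ∈ Cfsg.pCore p H := by
  rw [← MonoidHom.mem_ker, φ.ker, hU.ker]

theorem map_res : (E).map φ.ρ = commutator (SpecialLinearGroup (Fin 2) F) := by
  haveI := hU.charP φ
  haveI : (E).Normal := inferInstance
  rw [← pResidual_SL (p := p)]
  haveI : ((E).map φ.ρ).Normal := Subgroup.Normal.map inferInstance _ φ.surj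
  obtain ⟨k, hk⟩ := PResidual.exists_index_pResidual (G := H) (p := p)
  obtain ⟨j, -, hj⟩ := (Nat.dvd_prime_pow Fact.out).1 (hk ▸ (E).index_map_dvd φ.surj)
  exact le_antisymm (PResidual.map_pResidual_le φ.ρ) (PResidual.pResidual_le hj)

theorem quot_iso : Nonempty
    (↥(E) ⧸ Cfsg.pCore p ↥(E) ≃* ↥(commutator (SpecialLinearGroup (Fin 2) F))) := by
  let f := φ.ρ.comp (E).subtype
  have hr : f.range = commutator (SpecialLinearGroup (Fin 2) F) := by
    rw [MonoidHom.range_comp, Subgroup.range_subtype, hU.map_res φ]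
  have hk : f.ker = Cfsg.pCore p ↥(E) := by
    rw [hU.pCore_res]
    ext x
    exact hU.rho_ker φ
  exact ⟨((QuotientGroup.quotientMulEquivOfEq hk.symm).trans
    (QuotientGroup.quotientKerEquivRange f)).trans (MulEquiv.subgroupCongr hr)⟩

theorem acts : Cfsg.ActsAsSL2OnSection F (commutator (SpecialLinearGroup (Fin 2) F)) (E) U
    (U ⊓ centralizer ((E : Subgroup H) : Set H)) := by
  haveI := hU.normal
  refine ⟨fun g _ => by rw [Subgroup.normalizer_eq_top (H := U)]; exact mem_top g, inf_le_left,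
    φ.ρ.comp (E).subtype, MonoidHom.mk' (fun u : ↥U => Multiplicative.ofAdd (φ.ψ u))
      fun u v => by
        rw [Subgroup.coe_mul, φ.map_mul _ (hU.le u.2) _ (hU.le v.2), ofAdd_add], ?_, fun y => ?_,
    fun u => ?_, fun g u => ?_⟩
  · rw [MonoidHom.range_comp, Subgroup.range_subtype, hU.map_res φ]
  · obtain ⟨v, hv, hvy⟩ := φ.onto (Multiplicative.toAdd y)
    obtain ⟨a, ha, z, hz, rfl⟩ := mem_sup_of_normal_right.1 (hU.cover hv)
    refine ⟨⟨a, ha⟩, ?_⟩
    rw [φ.map_mul _ (hU.le ha) _ (fix_le _ hz), (φ.eq_zero _ (fix_le _ hz)).2 hz, add_zero] at hvy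
    show Multiplicative.ofAdd (φ.ψ a) = y
    rw [hvy, ofAdd_toAdd]
  · show Multiplicative.ofAdd (φ.ψ u) = 1 ↔ _
    rw [ofAdd_eq_one, φ.eq_zero _ (hU.le u.2), hU.U_inf_z0]
    exact ⟨fun h => ⟨u.2, h⟩, fun h => h.2⟩
  · exact ⟨⟨_, hU.normal.conj_mem u u.2 g⟩, rfl, φ.equiv g u (hU.le u.2)⟩

omit hU in
/-- The preimage of the upper triangular matrices. -/
def bor : Subgroup H where
  carrier := {g | (φ.ρ g : Matrix (Fin 2) (Fin 2) F) 1 0 = 0}
  one_mem' := by simp
  mul_mem' := fun {a b} (ha : _ = 0) (hb : _ = 0) => by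
    show _ = 0
    rw [_root_.map_mul]
    simp [Matrix.mul_apply, Fin.sum_univ_two, ha, hb]
  inv_mem' := fun {a} (ha : _ = 0) => by
    show _ = 0
    rw [_root_.map_inv]
    simp [Matrix.adjugate_fin_two, ha]

omit hU in
theorem mem_bor {g : H} : g ∈ bor φ ↔ (φ.ρ g : Matrix (Fin 2) (Fin 2) F) 1 0 = 0 := Iff.rfl

omit hU in
theorem S_le_bor : (S : Subgroup H) ≤ bor φ := fun s hs => by
  obtain ⟨c, hc⟩ := φ.mem_up s hs
  rw [mem_bor, hc, up_coe]; simp

theorem mem_S_iff {g : H} : g ∈ (S : Subgroup H) ↔ ∃ c, φ.ρ g = up c := by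
  refine ⟨φ.mem_up g, fun ⟨c, hc⟩ => ?_⟩
  obtain ⟨s, hs, hsc⟩ := φ.exists_up c
  have h : g * s⁻¹ ∈ Cfsg.pCore p H := (hU.rho_ker φ).1 (by
    rw [_root_.map_mul, _root_.map_inv, hc, hsc, mul_inv_cancel])
  have := (S : Subgroup H).mul_mem (hU.nc.core.le_S h) hs
  rwa [inv_mul_cancel_right] at this

theorem le_bor {Y : Subgroup H} (hS : (S : Subgroup H) ≤ Y) (hne : Y ≠ ⊤) : Y ≤ bor φ := by
  intro g hg
  by_contra h10
  refine hne ?_
  have htop : Y.map φ.ρ = ⊤ := eq_top_or_borel _ (fun c => by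
    obtain ⟨s, hs, hsc⟩ := φ.exists_up c
    exact ⟨s, hS hs, hsc⟩) ⟨g, hg, rfl⟩ h10
  refine eq_top_iff.2 fun x _ => ?_
  obtain ⟨y, hy, hyx⟩ : φ.ρ x ∈ Y.map φ.ρ := htop ▸ mem_top _
  have := hS (hU.nc.core.le_S ((hU.rho_ker φ (g := y⁻¹ * x)).1 (by
    rw [_root_.map_mul, _root_.map_inv, hyx, inv_mul_cancel])))
  have h2 := Y.mul_mem hy this
  rwa [mul_inv_cancel_left] at h2

theorem bor_le_normalizer : bor φ ≤ normalizer ((S : Subgroup H) : Set H) := fun g hg => by
  refine mem_normalizer_fintype fun s hs => ?_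
  obtain ⟨c, hc⟩ := φ.mem_up s hs
  refine (hU.mem_S_iff φ).2 ?_
  have h10 : (φ.ρ g : Matrix (Fin 2) (Fin 2) F) 1 0 = 0 := hg
  set A := φ.ρ g with hA
  have hdet : (A : Matrix (Fin 2) (Fin 2) F) 0 0 * (A : Matrix (Fin 2) (Fin 2) F) 1 1 = 1 := by
    have := A.2
    rw [Matrix.det_fin_two, h10, mul_zero, sub_zero] at this
    exact this
  refine ⟨(A : Matrix (Fin 2) (Fin 2) F) 0 0 ^ 2 * c, ?_⟩
  rw [_root_.map_mul, _root_.map_mul, _root_.map_inv, ← hA, hc, mul_inv_eq_iff_eq_mul]
  refine Subtype.ext ?_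
  ext i j
  fin_cases i <;> fin_cases j <;>
    simp [Matrix.SpecialLinearGroup.coe_mul, up_coe, Matrix.mul_apply, Fin.sum_univ_two, h10]
  linear_combination (-((A : Matrix (Fin 2) (Fin 2) F) 0 0) * c) * hdet

omit hU in
theorem bor_ne_top : bor φ ≠ ⊤ := fun h => by
  obtain ⟨g, hg⟩ := φ.surj (low 1)
  have h1 : (φ.ρ g : Matrix (Fin 2) (Fin 2) F) 1 0 = 0 := (mem_bor φ).1 (h ▸ mem_top g)
  rw [hg, low_coe] at h1
  simp at h1

/-- The large case. -/
theorem res_normalizer (hbig : ∃ t : F, t ≠ 0 ∧ t * t ≠ 1) :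
    E ⊓ normalizer (((S : Subgroup H) ⊓ E : Subgroup H) : Set H) = E ⊓ bor φ := by
  haveI : (E).Normal := inferInstance
  refine le_antisymm ?_ ?_
  · intro g hg
    refine ⟨hg.1, ?_⟩
    obtain ⟨x, hx, hx1⟩ : up (1 : F) ∈ (E).map φ.ρ := by
      rw [hU.map_res φ]
      show _ ∈ BlockSL2.R F
      rw [BlockSL2.R_eq_top hbig]; exact mem_top _
    have hxS : x ∈ (S : Subgroup H) := (hU.mem_S_iff φ).2 ⟨1, hx1⟩
    obtain ⟨c, hc⟩ := φ.mem_up _ ((mem_normalizer_iff.1 hg.2 x).1 ⟨hxS, hx⟩).1
    rw [_root_.map_mul, _root_.map_mul, _root_.map_inv, hx1, mul_inv_eq_iff_eq_mul] at hc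
    have h := congrFun (congrFun (congrArg Subtype.val hc) 1) 1
    simp [Matrix.mul_apply, Fin.sum_univ_two, up_coe] at h
    exact (mem_bor φ).2 h
  · intro g hg
    refine ⟨hg.1, ?_⟩
    refine mem_normalizer_fintype fun s hs => ⟨?_, Subgroup.Normal.conj_mem inferInstance s hs.2 g⟩
    have hn : g ∈ normalizer ((S : Subgroup H) : Set H) := (hU.bor_le_normalizer φ) hg.2
    exact (mem_normalizer_iff.1 hn s).1 hs.1

/-- The case `|F| = 3`. -/
theorem bor_res_three (h2 : (2 : F) ≠ 0) (hbig : ¬ ∃ t : F, t ≠ 0 ∧ t * t ≠ 1) {g : H}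
    (hg : g ∈ E) : g ∈ bor φ ↔ ∀ x ∈ E, φ.ρ g * φ.ρ x = φ.ρ x * φ.ρ g := by
  classical
  have hRmem : ∀ {x}, x ∈ E → φ.ρ x ∈ BlockSL2.R F := fun hx => by
    show _ ∈ commutator _
    rw [← hU.map_res φ]; exact mem_map_of_mem _ hx
  have hgood : BlockSL2.Good F := BlockSL2.good_of_two_ne h2
  constructor
  · intro hb x hx
    have h10 : (φ.ρ g : Matrix (Fin 2) (Fin 2) F) 1 0 = 0 := hb
    set A := φ.ρ g with hA
    have hdet : (A : Matrix (Fin 2) (Fin 2) F) 0 0 * (A : Matrix (Fin 2) (Fin 2) F) 1 1 = 1 := by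
      have := A.2
      rw [Matrix.det_fin_two, h10, mul_zero, sub_zero] at this
      exact this
    have hd : (A : Matrix (Fin 2) (Fin 2) F) 1 1 = (A : Matrix (Fin 2) (Fin 2) F) 0 0 ∧
        ((A : Matrix (Fin 2) (Fin 2) F) 0 0 = 1 ∨ (A : Matrix (Fin 2) (Fin 2) F) 0 0 = -1) := by
      rcases BlockSL2.small_cases hbig ((A : Matrix (Fin 2) (Fin 2) F) 0 0) with h | h | h
      · rw [h, zero_mul] at hdet; exact absurd hdet zero_ne_one
      · rw [h, one_mul] at hdet; exact ⟨hdet.trans h.symm, Or.inl h⟩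
      · refine ⟨?_, Or.inr h⟩
        rw [h] at hdet ⊢
        linear_combination (-1 : F) * hdet
    have h01 : (A : Matrix (Fin 2) (Fin 2) F) 0 1 = 0 := by
      by_contra hne
      haveI := hU.charP φ
      obtain ⟨k, hk⟩ := (BlockSL2.isPGroup_R_of_small h2 hbig) ⟨A, hRmem hg⟩
      have hk' : A ^ 2 ^ k = 1 := congrArg Subtype.val hk
      set a := (A : Matrix (Fin 2) (Fin 2) F) 0 0
      set b := (A : Matrix (Fin 2) (Fin 2) F) 0 1
      have hpow : ∀ n : ℕ, ((A ^ n : SpecialLinearGroup (Fin 2) F) : Matrix (Fin 2) (Fin 2) F) =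
          !![a ^ n, n * a ^ (n - 1) * b; 0, a ^ n] := by
        intro n
        induction n with
        | zero => ext i j; fin_cases i <;> fin_cases j <;> simp
        | succ n ih =>
          rw [pow_succ, Matrix.SpecialLinearGroup.coe_mul, ih]
          ext i j
          fin_cases i <;> fin_cases j <;>
            simp [Matrix.mul_apply, Fin.sum_univ_two, h10, hd.1, a, b, pow_succ]
          rcases Nat.eq_zero_or_pos n with rfl | hn
          · simp
          · rw [show (A : Matrix (Fin 2) (Fin 2) F) 0 0 ^ n =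
              (A : Matrix (Fin 2) (Fin 2) F) 0 0 ^ (n - 1) * (A : Matrix (Fin 2) (Fin 2) F) 0 0 by
              rw [← pow_succ, Nat.sub_add_cancel hn]]
            ring
      have h := congrFun (congrFun ((hpow (2 ^ k)).symm.trans (congrArg Subtype.val hk')) 0) 1
      have ha0 : a ≠ 0 := left_ne_zero_of_mul_eq_one hdet
      simp [hne, ha0, h2] at h
    refine Subtype.ext ?_
    ext i j
    rcases hd.2 with h | h <;> fin_cases i <;> fin_cases j <;>
      simp [Matrix.SpecialLinearGroup.coe_mul, Matrix.mul_apply, Fin.sum_univ_two, h10, h01, hd.1, h]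
  · intro hc
    obtain ⟨c, hc'⟩ := BlockSL2.commutant hgood
      (AddMonoidHom.mk' (fun v => (φ.ρ g : Matrix (Fin 2) (Fin 2) F).mulVec v)
        fun v w => Matrix.mulVec_add _ v w)
      (fun r hr v => by
        obtain ⟨x, hx, rfl⟩ : r ∈ (E).map φ.ρ := (hU.map_res φ).symm ▸ hr
        show (φ.ρ g : Matrix (Fin 2) (Fin 2) F).mulVec _ = Matrix.mulVec _ _
        rw [mm, hc x hx, ← mm]
        rfl)
    have h := congrFun (hc' ![1, 0]) 1
    simp [Matrix.mulVec, dotProduct, Fin.sum_univ_two] at h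
    exact (mem_bor φ).2 h

/-- The case `|F| = 2`. -/
theorem bor_res_two (h2 : (2 : F) = 0) (hbig : ¬ ∃ t : F, t ≠ 0 ∧ t * t ≠ 1) {g : H}
    (hg : g ∈ E) : g ∈ bor φ ↔ φ.ρ g = 1 := by
  classical
  refine ⟨fun hb => ?_, fun h => by rw [mem_bor, h]; simp⟩
  haveI := hU.charP φ
  have hp : p = 2 := by
    refine (Nat.prime_dvd_prime_iff_eq Fact.out Nat.prime_two).1 ?_
    exact (CharP.cast_eq_zero_iff F p 2).1 (by exact_mod_cast h2)
  have h01 : ∀ x : F, x = 0 ∨ x = 1 := fun x => by
    rcases BlockSL2.small_cases hbig x with h | h | h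
    · exact Or.inl h
    · exact Or.inr h
    · exact Or.inr (h.trans (by linear_combination (-(1 : F)) * h2))
  have h10 : (φ.ρ g : Matrix (Fin 2) (Fin 2) F) 1 0 = 0 := hb
  have hdet := (φ.ρ g).2
  rw [Matrix.det_fin_two, h10, mul_zero, sub_zero] at hdet
  have h00 : (φ.ρ g : Matrix (Fin 2) (Fin 2) F) 0 0 = 1 :=
    (h01 _).resolve_left (left_ne_zero_of_mul_eq_one hdet)
  obtain ⟨c, hc⟩ : ∃ c, φ.ρ g = up c := by
    refine eq_up_of_fix _ ?_
    funext i
    fin_cases i <;> simp [Matrix.mulVec, dotProduct, Fin.sum_univ_two, h00, h10]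
  rcases h01 c with rfl | rfl
  · rw [hc, SL2Pair.up_zero]
  · exfalso
    -- a sign on six points
    have hR : up (1 : F) ∈ commutator (SpecialLinearGroup (Fin 2) F) := by
      rw [← hU.map_res φ, ← hc]; exact mem_map_of_mem _ hg
    subst hp
    rw [← pResidual_SL (p := 2)] at hR
    set N := (zpowers (up (1 : F) * low 1) : Subgroup (SpecialLinearGroup (Fin 2) F))
    have hl : low (1 : F) * up 1 = (up 1 * low 1) * (up 1 * low 1) := by
      refine Subtype.ext ?_
      ext i j
      fin_cases i <;> fin_cases j <;>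
        simp [Matrix.SpecialLinearGroup.coe_mul, up_coe, low_coe, Matrix.mul_apply, Fin.sum_univ_two]
      all_goals grind
    haveI hN : N.Normal := by
      refine normalizer_eq_top_iff.1 (top_le_iff.1 ?_)
      rw [← SL2Pair.sup_eq_top (k := F)]
      refine sup_le (fun x hx => ?_) (fun x hx => ?_)
      · obtain ⟨c, rfl⟩ := mem_lower.1 hx
        rcases h01 c with rfl | rfl
        · rw [SL2Pair.low_zero]; exact one_mem _
        refine mem_normalizer_fintype ?_
        rintro _ ⟨n, rfl⟩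
        show _ ∈ N
        simp only
        rw [← conj_zpow, SL2Pair.low_inv, show (-1 : F) = 1 by linear_combination (-(1 : F)) * h2,
          show low (1 : F) * (up 1 * low 1) * low 1 = low 1 * up 1 by
            rw [mul_assoc, mul_assoc (up (1 : F)), SL2Pair.low_mul,
              show (1 : F) + 1 = 0 by linear_combination h2, SL2Pair.low_zero, mul_one], hl]
        exact zpow_mem (mul_mem (mem_zpowers _) (mem_zpowers _)) n
      · obtain ⟨c, rfl⟩ := mem_upper.1 hx
        rcases h01 c with rfl | rfl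
        · rw [SL2Pair.up_zero]; exact one_mem _
        refine mem_normalizer_fintype ?_
        rintro _ ⟨n, rfl⟩
        show _ ∈ N
        simp only
        rw [← conj_zpow, SL2Pair.up_inv, show (-1 : F) = 1 by linear_combination (-(1 : F)) * h2,
          show up (1 : F) * (up 1 * low 1) * up 1 = low 1 * up 1 by
            rw [← mul_assoc (up (1 : F)) (up 1), SL2Pair.up_mul,
              show (1 : F) + 1 = 0 by linear_combination h2, SL2Pair.up_zero, one_mul], hl]
        exact zpow_mem (mul_mem (mem_zpowers _) (mem_zpowers _)) n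
    have h3 : (up (1 : F) * low 1) ^ 3 = 1 := by
      refine Subtype.ext ?_
      ext i j
      fin_cases i <;> fin_cases j <;>
        simp [pow_succ, Matrix.SpecialLinearGroup.coe_mul, up_coe, low_coe, Matrix.mul_apply,
          Fin.sum_univ_two]
      all_goals grind
    have hle : Cfsg.pResidual 2 (SpecialLinearGroup (Fin 2) F) ≤ N := by
      refine (closure_le _).2 fun x hx => ?_
      have h6 : x ^ 2 ∈ N := by
        have htop : (⊤ : Subgroup (SpecialLinearGroup (Fin 2) F)) ≤ zpowers (up (1 : F)) ⊔ N := by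
          rw [← SL2Pair.sup_eq_top (k := F)]
          refine sup_le (fun y hy => ?_) (fun y hy => ?_)
          · obtain ⟨c, rfl⟩ := mem_lower.1 hy
            rcases h01 c with rfl | rfl
            · rw [SL2Pair.low_zero]; exact one_mem _
            · have := mul_mem (mem_sup_left (inv_mem (mem_zpowers (up (1 : F)))) :
                (up (1 : F))⁻¹ ∈ zpowers (up (1 : F)) ⊔ N) (mem_sup_right (mem_zpowers (up (1 : F) * low 1)))
              rwa [inv_mul_cancel_left] at this
          · obtain ⟨c, rfl⟩ := mem_upper.1 hy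
            rcases h01 c with rfl | rfl
            · rw [SL2Pair.up_zero]; exact one_mem _
            · exact mem_sup_left (mem_zpowers _)
        obtain ⟨y, ⟨n, rfl⟩, z, hz, rfl⟩ := mem_sup_of_normal_right.1 (htop (mem_top x))
        rw [← QuotientGroup.eq_one_iff, QuotientGroup.mk_pow, QuotientGroup.mk_mul,
          (QuotientGroup.eq_one_iff z).2 hz, mul_one, ← QuotientGroup.mk_pow, ← zpow_natCast,
          ← _root_.zpow_mul, mul_comm, _root_.zpow_mul, zpow_natCast, sq, SL2Pair.up_mul,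
          show (1 : F) + 1 = 0 by linear_combination h2, SL2Pair.up_zero, _root_.one_zpow]
        rfl
      obtain ⟨a, b, hab⟩ := Int.isCoprime_iff_gcd_eq_one.2
        (show Int.gcd (orderOf x : ℤ) (2 : ℕ) = 1 from hx)
      have hx2 : x = (x ^ (2 : ℕ)) ^ b := by
        rw [← zpow_natCast, ← _root_.zpow_mul]
        conv_lhs => rw [← _root_.zpow_one x, ← hab, _root_.zpow_add, mul_comm a, _root_.zpow_mul,
          zpow_natCast, pow_orderOf_eq_one, _root_.one_zpow, one_mul, mul_comm b]
      rw [SetLike.mem_coe, hx2]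
      exact zpow_mem h6 b
    obtain ⟨n, hn⟩ := hle hR
    have h4 : (up (1 : F)) ^ 3 = 1 := by
      rw [← hn, ← zpow_natCast, ← _root_.zpow_mul, mul_comm, _root_.zpow_mul, zpow_natCast, h3,
        _root_.one_zpow]
    rw [PushL2.up_pow] at h4
    have := congrFun (congrFun (congrArg Subtype.val h4) 0) 1
    simp [up_coe] at this
    exact one_ne_zero (α := F) (by linear_combination this - h2)

end PC

local notation "E" => Cfsg.pResidual p H

/-- Transfer: an element of `O^p ∩ O_p` lies in any normal subgroup modulo which `O^p` centralises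
`O_p` and has an abelian Sylow subgroup. -/
theorem mem_of_central_mod (N : NoChar p S q M₀) {X : Subgroup H} [X.Normal]
    (hmove : ∀ g ∈ E, ∀ x ∈ Cfsg.pCore p H, g * x * g⁻¹ * x⁻¹ ∈ X)
    (habel : ∀ x ∈ (S : Subgroup H) ⊓ E, ∀ y ∈ (S : Subgroup H) ⊓ E, x * y * x⁻¹ * y⁻¹ ∈ X) {z : H}
    (hz : z ∈ E ⊓ Cfsg.pCore p H) : z ∈ X := by
  classical
  haveI hEn : (E).Normal := inferInstance
  set π := (QuotientGroup.mk' (X.subgroupOf (E))) with hπ
  set K := ↥(E) ⧸ X.subgroupOf (E)
  set P := ((S : Subgroup H).subgroupOf (E)).map π with hP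
  haveI : IsMulCommutative ↥P := ⟨⟨by
    rintro ⟨_, a, ha, rfl⟩ ⟨_, b, hb, rfl⟩
    refine Subtype.ext ?_
    show π a * π b = π b * π a
    exact (commute_mk.2 (mem_subgroupOf.2 (show ((a : H) * b * (a : H)⁻¹ * (b : H)⁻¹) ∈ X from
      habel _ ⟨ha, a.2⟩ _ ⟨hb, b.2⟩))).eq⟩⟩
  letI : CommGroup ↥P := { (inferInstance : Group ↥P) with mul_comm := fun a b => mul_comm' a b }
  -- the transfer
  have hzc : ∀ k : K, k * π ⟨z, hz.1⟩ = π ⟨z, hz.1⟩ * k := by
    intro k
    obtain ⟨g, rfl⟩ := QuotientGroup.mk'_surjective _ k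
    exact (commute_mk.2 (mem_subgroupOf.2 (show ((g : H) * z * (g : H)⁻¹ * z⁻¹) ∈ X from
      hmove _ g.2 _ hz.2))).eq
  have hzP : π ⟨z, hz.1⟩ ∈ P := ⟨_, N.core.le_S hz.2, rfl⟩
  let τ : K →* ↥P := MonoidHom.transfer (MonoidHom.id ↥P)
  have hτ : τ (π ⟨z, hz.1⟩) = ⟨π ⟨z, hz.1⟩, hzP⟩ ^ P.index := by
    rw [MonoidHom.transfer_eq_pow (MonoidHom.id ↥P) _ fun k g₀ _ => by
      rw [mul_assoc, ← ((show Commute g₀ (π ⟨z, hz.1⟩) from hzc g₀).pow_right k).eq,
        inv_mul_cancel_left]]
    exact Subtype.ext rfl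
  have hPp : IsPGroup p ↥P := ((S.isPGroup').comap_subtype (K := E)).map π
  have hone : τ (π ⟨z, hz.1⟩) = 1 := by
    have hle : E ≤ ((τ.comp π).ker).map (E).subtype := (closure_le _).2 fun g hg => by
      refine ⟨⟨g, PResidual.mem_pResidual p hg⟩, ?_, rfl⟩
      obtain ⟨k, hk⟩ := hPp (τ (π ⟨g, PResidual.mem_pResidual p hg⟩))
      exact orderOf_eq_one_iff.1 (Nat.eq_one_of_dvd_coprimes
        (Nat.Coprime.pow_right k (show (orderOf g).Coprime p from hg))
        ((orderOf_map_dvd (τ.comp π) _).trans (dvd_of_eq (Subgroup.orderOf_mk g _)))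
        (orderOf_dvd_of_pow_eq_one hk))
    obtain ⟨g, hg, hgz⟩ := hle hz.1
    have : g = ⟨z, hz.1⟩ := Subtype.ext hgz
    exact this ▸ hg
  -- the index is prime to `p`
  have hidx : ¬ p ∣ P.index := by
    intro hd
    have h1 : ((S : Subgroup H).subgroupOf (E)).index = (S : Subgroup H).index := by
      have h2 := card_sup_inf_in (H := (⊤ : Subgroup H)) (X := E) (Y := (S : Subgroup H)) le_top le_top
        (fun a _ x hx => hEn.conj_mem x hx a) (PC.res_sup (S := S)).ge
      have h3 := ((S : Subgroup H).subgroupOf (E)).card_mul_index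
      rw [show Nat.card ((S : Subgroup H).subgroupOf (E)) = Nat.card ↥(E ⊓ (S : Subgroup H)) by
        rw [← inf_subgroupOf_left, Nat.card_congr (subgroupOfEquivOfLe inf_le_left).toEquiv]] at h3
      have h4 := (S : Subgroup H).card_mul_index
      rw [Subgroup.card_top, ← h4] at h2
      refine Nat.eq_of_mul_eq_mul_left (Nat.mul_pos (Nat.card_pos (α := ↥(E ⊓ (S : Subgroup H))))
        (Nat.card_pos (α := ↥(S : Subgroup H)))) ?_
      calc _ = Nat.card (↥(E)) * Nat.card ↥(S : Subgroup H) := by rw [← h3]; ring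
        _ = _ := by rw [← h2]; ring
    exact S.not_dvd_index (h1 ▸ hd.trans (index_map_dvd _ (QuotientGroup.mk'_surjective _)))
  rw [hτ] at hone
  obtain ⟨k, hk⟩ := hPp ⟨π ⟨z, hz.1⟩, hzP⟩
  have h7 : orderOf (⟨π ⟨z, hz.1⟩, hzP⟩ : ↥P) = 1 := Nat.eq_one_of_dvd_coprimes
    (Nat.Coprime.pow_left k ((Fact.out : p.Prime).coprime_iff_not_dvd.2 hidx))
    (orderOf_dvd_of_pow_eq_one hk) (orderOf_dvd_of_pow_eq_one hone)
  exact mem_subgroupOf.1 ((QuotientGroup.eq_one_iff _).1
    (congrArg Subtype.val (orderOf_eq_one_iff.1 h7)))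

end Piece

end CfsgLib.PushUpB
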