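import Cfsg.Agent.PushUpB.PieceOne
import Cfsg.Agent.LocalB.BlockBasic
import Cfsg.Agent.PushL2.TwoStep
import Cfsg.Agent.PushL2.Two
import Cfsg.Agent.Solvable.PGroupBasic

/-!
Pushing up: the piece in class three.
-/

set_option autoImplicit false
set_option linter.style.haveILetI false
set_option linter.unusedSectionVars false

namespace CfsgLib.PushUpB.Piece

open Subgroup Matrix CfsgLib.PushL2
open CfsgLib.SL2Pair (up low up_coe low_coe)
open scoped commutatorElement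

universe u

variable {H : Type u} [Group H] [Finite H] {p : ℕ} [Fact p.Prime] {S : Sylow p H} {q : ℕ}
  {M₀ U E0 : Subgroup H} {α : ↥(S : Subgroup H) ≃* ↥(S : Subgroup H)} {h : H}

theorem res_res : Cfsg.pResidualOf p (Cfsg.pResidual p H) = Cfsg.pResidual p H :=
  le_antisymm (map_subtype_le _) ((closure_le _).2 fun g hg =>
    ⟨⟨g, PResidual.mem_pResidual p hg⟩, PResidual.mem_pResidual p
      ((Subgroup.orderOf_mk g _).symm ▸ hg), rfl⟩)

/-- `O_p ∩ α(O_p)`. -/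
abbrev c1 (α : ↥(S : Subgroup H) ≃* ↥(S : Subgroup H)) : Subgroup H :=
  Cfsg.pCore p H ⊓ PushL2.img α (Cfsg.pCore p H)

/-- `O_p ∩ α(O_p) ∩ α(O_p)ʰ`. -/
abbrev c0 (α : ↥(S : Subgroup H) ≃* ↥(S : Subgroup H)) (h : H) : Subgroup H :=
  c1 α ⊓ (PushL2.img α (Cfsg.pCore p H)).map (MulAut.conj h).toMonoidHom

/-- `[O_p, O^p]`. -/
abbrev u2 (p : ℕ) [Fact p.Prime] (H : Type u) [Group H] [Finite H] : Subgroup H :=
  ⁅Cfsg.pCore p H, Cfsg.pResidual p H⁆

/-- `[O_p, O^p]'`. -/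
abbrev u3 (p : ℕ) [Fact p.Prime] (H : Type u) [Group H] [Finite H] : Subgroup H :=
  ⁅u2 p H, u2 p H⁆

/-- The class three piece. -/
structure Tw (p : ℕ) [Fact p.Prime] (S : Sylow p H) (q : ℕ) (M₀ U E0 : Subgroup H)
    (α : ↥(S : Subgroup H) ≃* ↥(S : Subgroup H)) (h : H) : Prop where
  pc : PC p S q M₀ U
  far : Far p S M₀ α
  hh : h ∉ M₀
  mid : Mid p S q M₀ (c1 α) (c0 α h) E0

theorem exists_tw (hU : PC p S q M₀ U) (hn : ¬ Twisted p S) :
    ∃ (α : ↥(S : Subgroup H) ≃* ↥(S : Subgroup H)) (h : H) (E0 : Subgroup H),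
      Tw p S q M₀ U E0 α h := by
  rcases hU.nc.cases with hA | ⟨hall, α, h1, h2⟩
  · exact absurd hA hn
  · obtain ⟨h, hh⟩ := hU.nc.exists_not_mem
    have hF : Far p S M₀ α := ⟨hall, h1, h2⟩
    obtain ⟨E0, D⟩ := mid' hU.nc hF hh
    exact ⟨α, h, E0, hU, hF, hh, D⟩

namespace Tw

variable (D : Tw p S q M₀ U E0 α h)
include D

local notation "E" => Cfsg.pResidual p H
local notation "Q" => Cfsg.pCore p H
local notation "A" => PushL2.img α (omega p H)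
local notation "U2" => u2 p H
local notation "U3" => u3 p H

theorem hVS {v : H} (hv : v ∈ omega p H) : v ∈ (S : Subgroup H) := D.pc.nc.core.le_S (omega_le hv)

theorem u2_le_Q : U2 ≤ Q := commutator_le_left Q E

theorem u2_le_res : U2 ≤ E := commutator_le_right Q E

theorem u3_le_u2 : U3 ≤ U2 := commutator_le_left _ _

theorem fix0 {g x : H} (hg : g ∈ E) (hx : x ∈ E0) : g * x = x * g := by
  have hle : E ≤ centralizer {x} :=
    (closure_le _).2 fun g hg => mem_centralizer_singleton_iff.2 (D.mid.fixE g hg x hx)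
  exact mem_centralizer_singleton_iff.1 (hle hg)

theorem shift_mem {g x : H} (hg : (orderOf g).Coprime p)
    (hcV : g * x * g⁻¹ * x⁻¹ ∈ omega p H) : g * x * g⁻¹ * x⁻¹ ∈ U := by
  haveI := D.pc.normal
  set c := g * x * g⁻¹ * x⁻¹ with hc
  obtain ⟨a, ha, z, hz, haz⟩ := mem_sup_of_normal_right.1 (D.pc.cover hcV)
  set π := QuotientGroup.mk' U
  have hgp : (orderOf (π g)).Coprime p :=
    Nat.Coprime.coprime_dvd_left (orderOf_map_dvd π g) hg
  have hcomm : π g * π c = π c * π g := by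
    rw [← haz, _root_.map_mul, show π a = 1 from (QuotientGroup.eq_one_iff a).2 ha, one_mul,
      ← _root_.map_mul, ← _root_.map_mul, z0_central hz g]
  refine (QuotientGroup.eq_one_iff _).1 ?_
  show π c = 1
  refine eq_one_of_shift (g := π g) (x := π x) ?_ hcomm hgp (k := 1) ?_
  · rw [← _root_.map_inv, ← _root_.map_mul, ← _root_.map_mul, ← _root_.map_mul, hc]
    congr 1
    group
  · rw [pow_one, ← _root_.map_pow, hcV.2, _root_.map_one]

/-- `O^p` moves `C₀` into `U`. -/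
theorem move0 {g x : H} (hg : g ∈ E) (hx : x ∈ c0 α h) : g * x * g⁻¹ * x⁻¹ ∈ U := by
  haveI := D.pc.normal
  refine mem_kerOf.1 ((closure_le _).2 (fun g hg => ?_) hg) x hx
  exact mem_kerOf.2 fun x hx => D.shift_mem hg (D.mid.triv g hg x hx)

theorem U_le_u2 : U ≤ U2 := by
  rw [← D.pc.com_res]
  exact commutator_mono (D.pc.le.trans omega_le) le_rfl

/-- `[O_p, O^p]` centralises `C₀`. -/
theorem comm0 {a c : H} (ha : a ∈ U2) (hc : c ∈ c0 α h) : a * c = c * a := by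
  have h3 : ⁅⁅Q, E⁆, c0 α h⁆ = ⊥ := by
    refine commutator_commutator_eq_bot_of_rotate ?_ ?_
    · rw [eq_bot_iff]
      refine commutator_le.2 fun x hx r hr => ?_
      have hxV : x ∈ omega p H := D.pc.le ((commutator_le.2 fun g hg c hc => by
        rw [commutatorElement_def]; exact D.move0 hg hc : ⁅E, c0 α h⁆ ≤ U) hx)
      exact mem_bot.2 (commutatorElement_eq_one_iff_mul_comm.2 (omega_commute hxV hr))
    · rw [eq_bot_iff]
      refine commutator_le.2 fun x hx g hg => ?_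
      have hx0 : x ∈ E0 := (commutator_le.2 fun c hc r hr => by
        rw [commutatorElement_def]; exact D.mid.abel c hc.1.1 r hr : ⁅c0 α h, Q⁆ ≤ E0) hx
      exact mem_bot.2 (commutatorElement_eq_one_iff_mul_comm.2 (D.fix0 hg hx0).symm)
  have := h3.le (commutator_mem_commutator ha hc)
  exact commutatorElement_eq_one_iff_mul_comm.1 (mem_bot.1 this)

theorem res_u2 : ⁅U2, E⁆ = U2 := by
  haveI : (Cfsg.pResidual p H).Normal := inferInstance
  exact BlockBasic.commutator_commutator_eq res_res (CfsgLib.Solvable.isPGroup_pCore p)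
    (fun g _ => by rw [Subgroup.normalizer_eq_top (H := Q)]; exact mem_top g)
    (fun g _ => by rw [Subgroup.normalizer_eq_top (H := E)]; exact mem_top g)

variable {F : Type} [Field F] [Fintype F] (hF : Nat.card F = q)
variable (φ : Nat2 p S F (omega p H) (zs S) (z0 p H))
  [hn0 : (c0 α h).Normal] (φ2 : Nat2 p S F (Cfsg.pCore p H) (c1 α) (c0 α h))

include hF in
theorem three : p = 3 := (caseTwo' D.pc.nc.toStd D.mid.toMid0 F hF).1

include hF φ in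
theorem two_ne : (2 : F) ≠ 0 := by
  have h3 : p = 3 := D.three hF
  haveI := D.pc.charP φ
  intro h2
  have := (CharP.cast_eq_zero_iff F p 2).1 (by exact_mod_cast h2)
  rw [h3] at this
  norm_num at this

include φ in
/-- Both natural modules have kernel `O_p`. -/
theorem ker2 {g : H} : φ2.ρ g = 1 ↔ g ∈ Q := by
  have hQ : Q ≤ φ2.ρ.ker := by rw [φ2.ker]; exact D.mid.lines.core_le_kerOf
  have h1 : φ.ρ.ker = Q := φ.ker.trans D.pc.ker
  have h2 : φ2.ρ.ker.index = φ.ρ.ker.index := by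
    rw [Subgroup.index_ker, Subgroup.index_ker, MonoidHom.range_eq_top.2 φ2.surj,
      MonoidHom.range_eq_top.2 φ.surj]
  have h3 : Q = φ2.ρ.ker := by
    refine eq_of_le_of_card_ge hQ (Nat.le_of_mul_le_mul_right ?_
      (Nat.pos_of_ne_zero φ2.ρ.ker.index_ne_zero_of_finite))
    rw [φ2.ρ.ker.card_mul_index, h2, ← h1, φ.ρ.ker.card_mul_index]
  rw [← MonoidHom.mem_ker, ← h3]

include φ φ2 in
/-- `O_p = [O_p, O^p] C₀`. -/
theorem sup_c0 : Q ≤ U2 ⊔ c0 α h := by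
  haveI : (Cfsg.pResidual p H).Normal := inferInstance
  haveI : (U2).Normal := commutator_normal _ _
  rcases (D.mid.lines.isChiefFactor D.pc.nc.ctx).2.2.2 (U2 ⊔ c0 α h) inferInstance le_sup_right
    (sup_le D.u2_le_Q (inf_le_left.trans inf_le_left)) with hc | hc
  · exfalso
    have hEker : E ≤ kerOf Q (c0 α h) := fun g hg => mem_kerOf.2 fun r hr => by
      have := inv_mem (hc.le (mem_sup_left (commutator_mem_commutator hr hg)))
      rwa [commutatorElement_def, show (r * g * r⁻¹ * g⁻¹)⁻¹ = g * r * g⁻¹ * r⁻¹ by group] at this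
    exact D.pc.res_not_le fun g hg => (D.ker2 φ φ2).1 (by
      rw [← MonoidHom.mem_ker, φ2.ker]; exact hEker hg)
  · exact hc.ge

theorem A_le_c1 {a : H} (ha : a ∈ A) : a ∈ c1 α :=
  ⟨Far.hA D.pc.nc D.far ha, Far.A_le_R D.pc.nc D.far ha⟩

theorem c0_le_Q {c : H} (hc : c ∈ c0 α h) : c ∈ Q := hc.1.1

theorem ap_not_c0 {v : H} (hv : v ∈ omega p H) (hvz : v ∉ zs S) : ap α v ∉ c0 α h := fun hc =>
  hvz (Far.zs_of_ap D.pc.nc D.far hv (Far.fib1 D.pc.nc D.far D.hh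
    (ap_mem_img α hv (D.hVS hv)) fun b hb =>
      (Far.mem_conjR D.pc.nc D.far hc.1.1).1 hc.2 b hb))

theorem commA_iff {v : H} (hv : v ∈ omega p H) (hvz : v ∉ zs S) {r : H} (hr : r ∈ Q) :
    Commute r (ap α v) ↔ r ∈ c1 α := by
  have hrS := D.pc.nc.core.le_S hr
  constructor
  · intro hc
    refine ⟨hr, (PushL2.mem_img α).2 ⟨ap α.symm r, ?_, ap_mem α.symm hrS, symm_ap α hrS⟩⟩
    by_contra hn
    refine hvz (D.pc.nc.toStd.mem_zs_of_commute (ap_mem α.symm hrS) hn hv ?_)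
    have := ap_comm α.symm hrS (ap_mem α (D.hVS hv)) hc.eq
    rwa [ap_symm α (D.hVS hv)] at this
  · exact fun hc => ((Far.mem_R D.pc.nc D.far).1 hc.2).2 _ (ap_mem_img α hv (D.hVS hv))

theorem commA_c0 {a c : H} (ha : a ∈ A) (hc : c ∈ c0 α h) : Commute c a :=
  ((Far.mem_R D.pc.nc D.far).1 hc.1.2).2 a ha

omit D in
theorem exists_v (N : NoChar p S q M₀) : ∃ v ∈ omega p H, v ∉ zs S :=
  SetLike.not_le_iff_exists.1 N.toStd.zs_ne_V

include φ2 in
/-- Every element outside `C₀` is conjugate to a fixed one modulo `C₀`. -/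
theorem trans2 {a x : H} (ha : a ∈ c1 α) (ha0 : a ∉ c0 α h) (hx : x ∈ Q) (hx0 : x ∉ c0 α h) :
    ∃ g : H, (g * a * g⁻¹)⁻¹ * x ∈ c0 α h := by
  have haQ : a ∈ Q := ha.1
  have h1 : φ2.ψ a 1 = 0 := (φ2.axis a haQ).1 ha
  have h0 : φ2.ψ a 0 ≠ 0 := fun h0 => ha0 ((φ2.eq_zero a haQ).1
    (funext fun i => by fin_cases i <;> simp [h0, h1]))
  obtain ⟨t, ht⟩ := exists_col (φ2.ψ x) (fun h => hx0 ((φ2.eq_zero x hx).1 h))
  let d : SpecialLinearGroup (Fin 2) F :=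
    ⟨!![(φ2.ψ a 0)⁻¹, 0; 0, φ2.ψ a 0], by simp [Matrix.det_fin_two, h0]⟩
  have hd : (d : Matrix (Fin 2) (Fin 2) F).mulVec (φ2.ψ a) = ![1, 0] := by
    show (!![(φ2.ψ a 0)⁻¹, 0; 0, φ2.ψ a 0] : Matrix (Fin 2) (Fin 2) F).mulVec (φ2.ψ a) = _
    funext i
    fin_cases i <;> simp [Matrix.mulVec, dotProduct, Fin.sum_univ_two, h0, h1]
  obtain ⟨g, hg⟩ := φ2.surj (t * d)
  have hgQ : g * a * g⁻¹ ∈ Q := pCore_isNormal.conj_mem a haQ g
  refine ⟨g, (φ2.eq_zero _ (Subgroup.mul_mem _ (inv_mem hgQ) hx)).1 ?_⟩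
  rw [φ2.map_mul _ (inv_mem hgQ) _ hx, φ2.map_inv hgQ, φ2.equiv g a haQ, hg, ← mm, hd, ht,
    neg_add_cancel]

include φ φ2 in
/-- `|[O_p, O^p]'| = q` and it is the set of commutators with a twist. -/
theorem u3_spec : Nat.card ↥(U3) = q ∧ U3 ≤ z0 p H ∧
    ∀ a ∈ A, ∀ r ∈ Q, r * a * r⁻¹ * a⁻¹ ∈ U3 := by
  classical
  haveI : (U2).Normal := commutator_normal _ _
  haveI : (U3).Normal := commutator_normal _ _
  have hS : ∀ r ∈ Q, ∃ u ∈ U2, ∃ c ∈ c0 α h, u * c = r := fun r hr =>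
    mem_sup_of_normal_left.1 (D.sup_c0 φ φ2 hr)
  -- commutators with elements of `A` lie in `U3`
  have hI : ∀ a ∈ A, ∀ r ∈ Q, r * a * r⁻¹ * a⁻¹ ∈ U3 := by
    intro a ha r hr
    obtain ⟨u, hu, c, hc, rfl⟩ := hS r hr
    obtain ⟨u', hu', c', hc', rfl⟩ := hS a (Far.hA D.pc.nc D.far ha)
    have e1 : u * c * (u' * c') * (u * c)⁻¹ * (u' * c')⁻¹ =
        u * (c * (u' * c') * c⁻¹) * u⁻¹ * (u' * c')⁻¹ := by group
    rw [e1, (D.commA_c0 ha hc).eq, mul_inv_cancel_right,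
      show u * (u' * c') * u⁻¹ * (u' * c')⁻¹ = u * u' * (c' * u⁻¹) * c'⁻¹ * u'⁻¹ by group,
      ← D.comm0 (inv_mem hu) hc', show u * u' * (u⁻¹ * c') * c'⁻¹ * u'⁻¹ = ⁅u, u'⁆ by
        rw [commutatorElement_def]; group]
    exact commutator_mem_commutator hu hu'
  obtain ⟨v, hv, hvz⟩ := exists_v D.pc.nc
  set a := ap α v with hadef
  have ha : a ∈ A := ap_mem_img α hv (D.hVS hv)
  let f : ↥(Q) →* ↥(z0 p H) := MonoidHom.mk'
    (fun r => ⟨r * a * (r : H)⁻¹ * a⁻¹, Far.QA_z0 D.pc.nc D.far r.2 ha⟩) fun r s => Subtype.ext (by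
      show (r : H) * s * a * ((r : H) * s)⁻¹ * a⁻¹ =
        r * a * (r : H)⁻¹ * a⁻¹ * (s * a * (s : H)⁻¹ * a⁻¹)
      have hc := Far.QA_z0 D.pc.nc D.far s.2 ha
      rw [show (r : H) * s * a * ((r : H) * s)⁻¹ * a⁻¹ =
        (r : H) * (s * a * (s : H)⁻¹ * a⁻¹) * (r : H)⁻¹ * (r * a * (r : H)⁻¹ * a⁻¹) by group,
        z0_central hc, mul_inv_cancel_right, z0_central hc])
  set I := f.range.map (z0 p H).subtype with hIdef
  have hIU3 : I ≤ U3 := by
    rintro _ ⟨_, ⟨r, rfl⟩, rfl⟩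
    exact hI a ha r r.2
  have hcard : Nat.card ↥I = q := by
    rw [hIdef, card_map_of_injective (z0 p H).subtype_injective]
    have hk : f.ker = (c1 α).subgroupOf (Q) := by
      ext r
      rw [MonoidHom.mem_ker, mem_subgroupOf, ← D.commA_iff hv hvz r.2, Subtype.ext_iff]
      show (r : H) * a * (r : H)⁻¹ * a⁻¹ = 1 ↔ _
      rw [mul_inv_eq_one, mul_inv_eq_iff_eq_mul]
      rfl
    have h1 := f.ker.card_mul_index
    rw [Subgroup.index_ker, hk, Nat.card_congr (subgroupOfEquivOfLe inf_le_left).toEquiv,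
      D.mid.lines.cardU, mul_comm q] at h1
    exact Nat.eq_of_mul_eq_mul_left Nat.card_pos h1
  have hle : U3 ≤ I := by
    refine commutator_le.2 fun r hr x hx => ?_
    by_cases hx0 : x ∈ c0 α h
    · rw [commutatorElement_eq_one_iff_mul_comm.2 (D.comm0 hr hx0)]; exact one_mem _
    obtain ⟨g, hg⟩ := D.trans2 φ2 (D.A_le_c1 ha) (D.ap_not_c0 hv hvz) (D.u2_le_Q hx) hx0
    set c := (g * a * g⁻¹)⁻¹ * x
    have hrc : r * c = c * r := D.comm0 hr hg
    have hr' : g⁻¹ * r * g ∈ Q := by simpa using pCore_isNormal.conj_mem r (D.u2_le_Q hr) g⁻¹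
    refine ⟨f ⟨_, hr'⟩, ⟨_, rfl⟩, ?_⟩
    show g⁻¹ * r * g * a * (g⁻¹ * r * g)⁻¹ * a⁻¹ = ⁅r, x⁆
    have hz := Far.QA_z0 D.pc.nc D.far hr' ha
    calc g⁻¹ * r * g * a * (g⁻¹ * r * g)⁻¹ * a⁻¹
        = g * (g⁻¹ * r * g * a * (g⁻¹ * r * g)⁻¹ * a⁻¹) * g⁻¹ := by
          rw [z0_central hz, mul_inv_cancel_right]
      _ = r * (g * a * g⁻¹) * r⁻¹ * (g * a * g⁻¹)⁻¹ := by group
      _ = ⁅r, g * a * g⁻¹ * c⁆ := by
          rw [commutatorElement_def, show r * (g * a * g⁻¹ * c) * r⁻¹ * (g * a * g⁻¹ * c)⁻¹ =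
            r * (g * a * g⁻¹) * (c * r⁻¹ * c⁻¹) * (g * a * g⁻¹)⁻¹ by group,
            show c * r⁻¹ * c⁻¹ = r⁻¹ by
              rw [← (show Commute r c from hrc).inv_left.eq, mul_inv_cancel_right]]
      _ = _ := by rw [mul_inv_cancel_left]
  refine ⟨(le_antisymm hle hIU3) ▸ hcard, hle.trans ?_, hI⟩
  rintro _ ⟨z, -, rfl⟩
  exact z.2

include φ φ2 in
theorem Q_move_u2 {r x : H} (hr : r ∈ Q) (hx : x ∈ U2) : r * x * r⁻¹ * x⁻¹ ∈ U3 := by
  haveI : (U2).Normal := commutator_normal _ _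
  obtain ⟨u, hu, c, hc, rfl⟩ := mem_sup_of_normal_left.1 (D.sup_c0 φ φ2 hr)
  rw [show u * c * x * (u * c)⁻¹ * x⁻¹ = u * (c * x) * c⁻¹ * u⁻¹ * x⁻¹ by group, ← D.comm0 hx hc,
    show u * (x * c) * c⁻¹ * u⁻¹ * x⁻¹ = ⁅u, x⁆ by rw [commutatorElement_def]; group]
  exact commutator_mem_commutator hu hx

include φ φ2 in
/-- The centre of `[O_p, O^p]` lies in `C₀`. -/
theorem center_le_c0 {z : H} (hz : z ∈ Q) (hc : ∀ r ∈ U2, r * z = z * r) : z ∈ c0 α h := by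
  haveI hn2 : (U2).Normal := commutator_normal _ _
  by_contra hz0
  obtain ⟨v, hv, hvz⟩ := exists_v D.pc.nc
  set a := ap α v
  have ha : a ∈ A := ap_mem_img α hv (D.hVS hv)
  obtain ⟨g, hg⟩ := D.trans2 φ2 (D.A_le_c1 ha) (D.ap_not_c0 hv hvz) hz hz0
  set c := (g * a * g⁻¹)⁻¹ * z
  have hall : Q ≤ c1 α := fun r hr => by
    refine (D.commA_iff hv hvz hr).1 ?_
    obtain ⟨u, hu, c', hc', rfl⟩ := mem_sup_of_normal_left.1 (D.sup_c0 φ φ2 hr)
    refine Commute.mul_left ?_ (D.commA_c0 ha hc')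
    have e : a = g⁻¹ * (z * c⁻¹) * g := by simp only [c]; group
    have hu' : g * u * g⁻¹ ∈ U2 := hn2.conj_mem u hu g
    have h1 : Commute (g * u * g⁻¹) (z * c⁻¹) :=
      (show Commute (g * u * g⁻¹) z from hc _ hu').mul_right
        (show Commute (g * u * g⁻¹) c from D.comm0 hu' hg).inv_right
    have h2 := h1.map (MulAut.conj g⁻¹).toMonoidHom
    simp only [MulEquiv.coe_toMonoidHom, MulAut.conj_apply, inv_inv] at h2
    rw [← e, show g⁻¹ * (g * u * g⁻¹) * g = u by group] at h2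
    exact h2
  exact D.mid.lines.not_le_C D.pc.nc.ctx hall

include hF φ φ2 in
theorem exists_neg : ∃ t ∈ E, (φ.ρ t : Matrix (Fin 2) (Fin 2) F) = -1 ∧
    (φ2.ρ t : Matrix (Fin 2) (Fin 2) F) = -1 := by
  have h2 := D.two_ne hF φ
  obtain ⟨t, ht, he⟩ : (-1 : SpecialLinearGroup (Fin 2) F) ∈ (E).map φ.ρ := by
    rw [D.pc.map_res φ]; exact BlockSL2.neg_one_mem (BlockSL2.good_of_two_ne h2)
  refine ⟨t, ht, by rw [he]; rfl, ?_⟩
  have hne : φ2.ρ t ≠ 1 := fun h => by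
    have h1 := (D.pc.rho_ker φ).2 ((D.ker2 φ φ2).1 h)
    rw [he] at h1
    have h3 := congrFun (congrFun (congrArg Subtype.val h1) 0) 0
    simp at h3
    exact h2 (by linear_combination (-1 : F) * h3)
  have hsq : φ2.ρ t * φ2.ρ t = 1 := by
    rw [← _root_.map_mul, D.ker2 φ φ2, ← D.pc.rho_ker φ, _root_.map_mul, he, neg_mul_neg, one_mul]
  generalize φ2.ρ t = y at hne hsq
  have hy := inv_eq_of_mul_eq_one_left hsq
  have e := congrArg Subtype.val hy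
  rw [Matrix.SpecialLinearGroup.coe_inv, Matrix.adjugate_fin_two] at e
  have e00 := congrFun (congrFun e 0) 0
  have e01 := congrFun (congrFun e 0) 1
  have e10 := congrFun (congrFun e 1) 0
  simp at e00 e01 e10
  have h01 : (y : Matrix (Fin 2) (Fin 2) F) 0 1 = 0 :=
    (mul_eq_zero.1 (show (2 : F) * (y : Matrix (Fin 2) (Fin 2) F) 0 1 = 0 by
      linear_combination (-1 : F) * e01)).resolve_left h2
  have h10 : (y : Matrix (Fin 2) (Fin 2) F) 1 0 = 0 :=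
    (mul_eq_zero.1 (show (2 : F) * (y : Matrix (Fin 2) (Fin 2) F) 1 0 = 0 by
      linear_combination (-1 : F) * e10)).resolve_left h2
  have hdet := y.2
  rw [Matrix.det_fin_two, h01, zero_mul, sub_zero, e00] at hdet
  rcases mul_self_eq_one_iff.1 hdet with h | h
  · exact absurd (Subtype.ext (by
      ext i j; fin_cases i <;> fin_cases j <;> simp [h01, h10, h, e00])) hne
  · ext i j; fin_cases i <;> fin_cases j <;> simp [h01, h10, h, e00]

include hF φ φ2 in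
/-- `[O_p, O^p] ∩ C₀ = U [O_p, O^p]'`. -/
theorem inf_c0 : U2 ⊓ c0 α h = U ⊔ U3 := by
  classical
  haveI := D.pc.normal
  haveI hn2 : (U2).Normal := commutator_normal _ _
  haveI : (U3).Normal := commutator_normal _ _
  obtain ⟨hq, hz0, -⟩ := D.u3_spec φ φ2
  refine le_antisymm ?_ (le_inf (sup_le D.U_le_u2 D.u3_le_u2)
    ((sup_le D.pc.le (hz0.trans (fix_le _))).trans D.mid.V_le))
  obtain ⟨t, htE, ht1, ht2⟩ := D.exists_neg hF φ φ2
  set X := U ⊔ U3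
  set π := QuotientGroup.mk' X
  have hπ : ∀ {x}, x ∈ X → π x = 1 := fun hx => (QuotientGroup.eq_one_iff _).2 hx
  have habel : ∀ {x y}, x ∈ U2 → y ∈ U2 → Commute (π x) (π y) := fun hx hy =>
    commute_mk.2 (mem_sup_right (by
      rw [← commutatorElement_def]; exact commutator_mem_commutator hx hy))
  -- `E` fixes `U2 ∩ C₀` modulo `X`
  have hc0 : ∀ {g c}, g ∈ E → c ∈ c0 α h → π (g * c * g⁻¹) = π c := fun {g c} hg hc => by
    rw [show g * c * g⁻¹ = g * c * g⁻¹ * c⁻¹ * c by group, _root_.map_mul,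
      hπ (mem_sup_left (D.move0 hg hc)), one_mul]
  have hQ : ∀ {r x}, r ∈ Q → x ∈ U2 → π (r * x * r⁻¹) = π x := fun {r x} hr hx => by
    rw [show r * x * r⁻¹ = r * x * r⁻¹ * x⁻¹ * x by group, _root_.map_mul,
      hπ (mem_sup_right (D.Q_move_u2 φ φ2 hr hx)), one_mul]
  let Am : Subgroup H :=
    { carrier := {x | x ∈ U2 ∧ π (t * x * t⁻¹) = (π x)⁻¹}
      one_mem' := ⟨one_mem _, by simp⟩
      mul_mem' := fun {x y} hx hy => ⟨mul_mem hx.1 hy.1, by
        rw [show t * (x * y) * t⁻¹ = (t * x * t⁻¹) * (t * y * t⁻¹) by group, _root_.map_mul, hx.2,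
          hy.2, _root_.map_mul π x y, _root_.mul_inv_rev]
        exact (habel hx.1 hy.1).inv_inv.eq⟩
      inv_mem' := fun {x} hx => ⟨inv_mem hx.1, by
        rw [show t * x⁻¹ * t⁻¹ = (t * x * t⁻¹)⁻¹ by group, _root_.map_inv, hx.2, _root_.map_inv]⟩ }
  have hAm : U2 ≤ Am := by
    conv_lhs => rw [← D.res_u2]
    refine commutator_le.2 fun u hu g hg => ⟨D.res_u2.le (commutator_mem_commutator hu hg), ?_⟩
    · obtain ⟨b, hb⟩ : ∃ b, b = g * u⁻¹ * g⁻¹ := ⟨_, rfl⟩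
      have hbU : b ∈ U2 := hb ▸ hn2.conj_mem _ (inv_mem hu) g
      rw [commutatorElement_def, show u * g * u⁻¹ * g⁻¹ = u * b by rw [hb]; group]
      have htu : t * u * t⁻¹ ∈ U2 := hn2.conj_mem u hu t
      obtain ⟨c, hc⟩ : ∃ c, c = t * u * t⁻¹ * u := ⟨_, rfl⟩
      have hcU : c ∈ U2 := hc ▸ mul_mem htu hu
      have hc' : c ∈ c0 α h := by
        refine (φ2.eq_zero _ (D.u2_le_Q hcU)).1 ?_
        rw [hc, φ2.map_mul _ (D.u2_le_Q htu) _ (D.u2_le_Q hu), φ2.equiv t u (D.u2_le_Q hu), ht2,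
          Matrix.neg_mulVec, Matrix.one_mulVec, neg_add_cancel]
      -- `t g = g t κ` with `κ ∈ O_p`
      set κ := t⁻¹ * g⁻¹ * t * g with hκ
      have hκQ : κ ∈ Q := by
        refine (D.pc.rho_ker φ).1 ?_
        have hcom : φ.ρ t * φ.ρ g = φ.ρ g * φ.ρ t := Subtype.ext (by
          simp [Matrix.SpecialLinearGroup.coe_mul, ht1])
        rw [hκ, _root_.map_mul, _root_.map_mul, _root_.map_mul, _root_.map_inv, _root_.map_inv,
          mul_assoc _ (φ.ρ t) (φ.ρ g), hcom]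
        group
      have h1 : π (t * b * t⁻¹) = π (g * (t * u⁻¹ * t⁻¹) * g⁻¹) := by
        have e : t * b * t⁻¹ = g * (t * (κ * u⁻¹ * κ⁻¹) * t⁻¹) * g⁻¹ := by rw [hκ, hb]; group
        rw [e]
        simp only [_root_.map_mul, _root_.map_inv]
        have h2 := hQ hκQ (inv_mem hu)
        simp only [_root_.map_mul, _root_.map_inv] at h2
        rw [h2]
      rw [show t * (u * b) * t⁻¹ = (t * u * t⁻¹) * (t * b * t⁻¹) by group, _root_.map_mul, h1,
        show t * u⁻¹ * t⁻¹ = u * c⁻¹ by rw [hc]; group,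
        show g * (u * c⁻¹) * g⁻¹ = b⁻¹ * (g * c * g⁻¹)⁻¹ by rw [hb]; group,
        _root_.map_mul π b⁻¹, _root_.map_inv π (g * c * g⁻¹), hc0 hg hc', show t * u * t⁻¹ = c * u⁻¹ by rw [hc]; group,
        _root_.map_mul π c, _root_.map_mul π u, _root_.map_inv, _root_.map_inv, _root_.mul_inv_rev]
      have c1' : Commute (π c) ((π u)⁻¹ * (π b)⁻¹) :=
        ((habel hcU hu).inv_right).mul_right (habel hcU hbU).inv_right
      have c2 : Commute ((π b)⁻¹) ((π u)⁻¹) := (habel hbU hu).inv_inv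
      rw [show π c * (π u)⁻¹ * ((π b)⁻¹ * (π c)⁻¹) = π c * ((π u)⁻¹ * (π b)⁻¹) * (π c)⁻¹ by group,
        c1'.eq, mul_inv_cancel_right, c2.eq]
  rintro c ⟨hc, hc'⟩
  have h3 := (hAm hc).2
  rw [hc0 htE hc', eq_inv_iff_mul_eq_one] at h3
  have h4 : π c = 1 := by
    obtain ⟨k, hk⟩ := CfsgLib.Solvable.isPGroup_pCore (G := H) p ⟨c, D.u2_le_Q hc⟩
    have hk' : c ^ p ^ k = 1 := congrArg Subtype.val hk
    have hp2 : ¬ p ∣ 2 := by rw [D.three hF]; norm_num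
    refine orderOf_eq_one_iff.1 (Nat.eq_one_of_dvd_coprimes
      (Nat.Coprime.pow_left k ((Fact.out : p.Prime).coprime_iff_not_dvd.2 hp2))
      (orderOf_dvd_of_pow_eq_one ?_) (orderOf_dvd_of_pow_eq_one (by rw [sq]; exact h3)))
    rw [← _root_.map_pow, hk', _root_.map_one]
  exact (QuotientGroup.eq_one_iff c).1 h4

include hF φ φ2 in
/-- `U` has no fixed points. -/
theorem inf_z0 : U ⊓ z0 p H = ⊥ := by
  classical
  haveI hUn := D.pc.normal
  obtain ⟨t, htE, ht1, -⟩ := D.exists_neg hF φ φ2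
  let Am : Subgroup H :=
    { carrier := {x | x ∈ U ∧ t * x * t⁻¹ = x⁻¹}
      one_mem' := ⟨one_mem _, by simp⟩
      mul_mem' := fun {x y} hx hy => ⟨mul_mem hx.1 hy.1, by
        rw [show t * (x * y) * t⁻¹ = (t * x * t⁻¹) * (t * y * t⁻¹) by group, hx.2, hy.2,
          _root_.mul_inv_rev]
        exact (show Commute x⁻¹ y⁻¹ from
          omega_commute (D.pc.le (inv_mem hx.1)) (omega_le (D.pc.le (inv_mem hy.1)))).eq⟩
      inv_mem' := fun {x} hx => ⟨inv_mem hx.1, by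
        rw [show t * x⁻¹ * t⁻¹ = (t * x * t⁻¹)⁻¹ by group, hx.2]⟩ }
  have hAm : U ≤ Am := by
    conv_lhs => rw [← D.pc.com_res]
    refine commutator_le.2 fun u hu g hg => ⟨D.pc.com_res.le (commutator_mem_commutator hu hg), ?_⟩
    obtain ⟨b, hb⟩ : ∃ b, b = g * u⁻¹ * g⁻¹ := ⟨_, rfl⟩
    have hbU : b ∈ U := hb ▸ hUn.conj_mem _ (inv_mem hu) g
    rw [commutatorElement_def, show u * g * u⁻¹ * g⁻¹ = u * b by rw [hb]; group]
    have htu : t * u * t⁻¹ ∈ U := hUn.conj_mem u hu t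
    obtain ⟨c, hc⟩ : ∃ c, c = t * u * t⁻¹ * u := ⟨_, rfl⟩
    have hcU : c ∈ U := hc ▸ mul_mem htu hu
    have hc' : c ∈ z0 p H := by
      refine (φ.eq_zero _ (D.pc.le hcU)).1 ?_
      rw [hc, φ.map_mul _ (D.pc.le htu) _ (D.pc.le hu), φ.equiv t u (D.pc.le hu), ht1,
        Matrix.neg_mulVec, Matrix.one_mulVec, neg_add_cancel]
    set κ := t⁻¹ * g⁻¹ * t * g with hκ
    have hκQ : κ ∈ Q := by
      refine (D.pc.rho_ker φ).1 ?_
      have hcom : φ.ρ t * φ.ρ g = φ.ρ g * φ.ρ t := Subtype.ext (by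
        simp [Matrix.SpecialLinearGroup.coe_mul, ht1])
      rw [hκ, _root_.map_mul, _root_.map_mul, _root_.map_mul, _root_.map_inv, _root_.map_inv,
        mul_assoc _ (φ.ρ t) (φ.ρ g), hcom]
      group
    have h1 : t * b * t⁻¹ = b⁻¹ * c⁻¹ := by
      have e : t * b * t⁻¹ = g * (t * (κ * u⁻¹ * κ⁻¹) * t⁻¹) * g⁻¹ := by rw [hκ, hb]; group
      rw [e, ← omega_commute (D.pc.le (inv_mem hu)) hκQ, mul_inv_cancel_right,
        show t * u⁻¹ * t⁻¹ = u * c⁻¹ by rw [hc]; group,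
        show g * (u * c⁻¹) * g⁻¹ = b⁻¹ * (g * c * g⁻¹)⁻¹ by rw [hb]; group, z0_central hc' g,
        mul_inv_cancel_right]
    rw [show t * (u * b) * t⁻¹ = (t * u * t⁻¹) * (t * b * t⁻¹) by group, h1,
      show t * u * t⁻¹ = c * u⁻¹ by rw [hc]; group, _root_.mul_inv_rev,
      show c * u⁻¹ * (b⁻¹ * c⁻¹) = c * (u⁻¹ * b⁻¹) * c⁻¹ by group, ← z0_central hc',
      mul_inv_cancel_right]
    exact omega_commute (D.pc.le (inv_mem hu)) (omega_le (D.pc.le (inv_mem hbU)))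
  refine (eq_bot_iff).2 ?_
  rintro z ⟨hz, hz'⟩
  have h3 := (hAm hz).2
  rw [z0_central hz', mul_inv_cancel_right, eq_inv_iff_mul_eq_one] at h3
  have hp2 : ¬ p ∣ 2 := by rw [D.three hF]; norm_num
  refine mem_bot.2 (orderOf_eq_one_iff.1 (Nat.eq_one_of_dvd_coprimes
    ((Fact.out : p.Prime).coprime_iff_not_dvd.2 hp2)
    (orderOf_dvd_of_pow_eq_one (D.pc.le hz).2) (orderOf_dvd_of_pow_eq_one (by rw [sq]; exact h3))))


include hF φ φ2 in
theorem pow_u3 {u : H} (hu : u ∈ U2) : u ^ p ∈ U3 := by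
  haveI := D.pc.normal
  haveI : (U3).Normal := commutator_normal _ _
  have hE0 := D.mid.pow u (D.u2_le_Q hu)
  obtain ⟨a, ha, z, hz, haz⟩ := mem_sup_of_normal_left.1
    ((D.inf_c0 hF φ φ2).le ⟨pow_mem hu p, D.mid.hE hE0⟩)
  have hzc := (D.u3_spec φ φ2).2.1 hz
  have hac : a ∈ U ⊓ z0 p H := ⟨ha, D.pc.fixed_le (D.pc.le ha) fun g hg => by
    have h1 : Commute g (u ^ p) := D.fix0 hg hE0
    have h2 : Commute g z := z0_central hzc g
    have := h1.mul_right h2.inv_right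
    rwa [← haz, mul_inv_cancel_right] at this⟩
  rw [D.inf_z0 hF φ φ2, mem_bot] at hac
  rwa [← haz, hac, one_mul]

include hF φ φ2 in
theorem omega_u2 : Cfsg.omegaOneCenter p (U2) = U ⊔ U3 := by
  have hz0 := (D.u3_spec φ φ2).2.1
  have hV : U ⊔ U3 ≤ omega p H := sup_le D.pc.le (hz0.trans (fix_le _))
  refine le_antisymm (fun z hz => ?_) fun z hz => ?_
  · obtain ⟨hzU, hc, -⟩ := mem_omegaOneCenter hz
    rw [← D.inf_c0 hF φ φ2]
    exact ⟨hzU, D.center_le_c0 φ φ2 (D.u2_le_Q hzU) hc⟩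
  · refine Subgroup.subset_closure ⟨⟨sup_le D.U_le_u2 D.u3_le_u2 hz,
      mem_centralizer_iff.2 fun r hr => ?_⟩, (hV hz).2⟩
    exact (omega_commute (hV hz) (D.u2_le_Q hr)).symm

include hF φ φ2 in
theorem W_inf_centralizer : (U ⊔ U3) ⊓ centralizer (E : Set H) = U3 := by
  haveI := D.pc.normal
  haveI : (U3).Normal := commutator_normal _ _
  have hz0 := (D.u3_spec φ φ2).2.1
  refine le_antisymm ?_ (le_inf le_sup_right fun z hz =>
    mem_centralizer_iff.2 fun g _ => z0_central (hz0 hz) g)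
  rintro x ⟨hx, hxc⟩
  obtain ⟨a, ha, z, hz, rfl⟩ := mem_sup_of_normal_left.1 hx
  have hac : a ∈ U ⊓ z0 p H := ⟨ha, D.pc.fixed_le (D.pc.le ha) fun g hg => by
    have h1 : Commute g (a * z) := mem_centralizer_iff.1 hxc g hg
    have h2 : Commute g z := z0_central (hz0 hz) g
    have := h1.mul_right h2.inv_right
    rwa [mul_inv_cancel_right] at this⟩
  rw [D.inf_z0 hF φ φ2, mem_bot] at hac
  rwa [hac, one_mul]

include hF φ φ2 in
theorem frattini_u2 : (frattini ↥(U2)).map (U2).subtype = U3 := by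
  haveI : (U3).Normal := commutator_normal _ _
  have hP : IsPGroup p ↥(U2) :=
    (CfsgLib.Solvable.isPGroup_pCore p : IsPGroup p (Q)).to_le D.u2_le_Q
  have h1 : (commutator ↥(U2)).map (U2).subtype = U3 := by
    rw [commutator_def, map_commutator, ← MonoidHom.range_eq_map, Subgroup.range_subtype]
  refine le_antisymm ?_ ?_
  · rw [map_le_iff_le_comap]
    haveI : ((U3).comap (U2).subtype).Normal := Subgroup.Normal.comap inferInstance _
    refine CfsgLib.PGroupBasic.frattini_le_of_elementary (p := p) _ ?_ fun x => ?_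
    · rw [← map_le_iff_le_comap, h1]
    · rw [mem_comap, _root_.map_pow]
      exact D.pow_u3 hF φ φ2 x.2
  · conv_lhs => rw [← h1]
    exact map_mono (CfsgLib.PGroupBasic.commutator_pow_le_frattini hP).1

theorem e_mem_Q {a : H} (ha : a ∈ A) : h * a * h⁻¹ ∈ Q :=
  pCore_isNormal.conj_mem a (Far.hA D.pc.nc D.far ha) h

include φ φ2 in
theorem comm_e {a r : H} (ha : a ∈ A) (hr : r ∈ Q) :
    (h * a * h⁻¹) * r * (h * a * h⁻¹)⁻¹ * r⁻¹ ∈ U3 := by
  haveI hn3 : (U3).Normal := commutator_normal _ _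
  obtain ⟨-, -, hI⟩ := D.u3_spec φ φ2
  have h1 := inv_mem (hI a ha (h⁻¹ * r * h) (by simpa using pCore_isNormal.conj_mem r hr h⁻¹))
  have h2 := hn3.conj_mem _ h1 h
  rwa [show h * (h⁻¹ * r * h * a * (h⁻¹ * r * h)⁻¹ * a⁻¹)⁻¹ * h⁻¹ =
    h * a * h⁻¹ * r * (h * a * h⁻¹)⁻¹ * r⁻¹ by group] at h2

theorem e_mem_S {a : H} (ha : a ∈ A) : h * a * h⁻¹ ∈ (S : Subgroup H) :=
  D.pc.nc.core.le_S (D.e_mem_Q ha)

include φ φ2 in
/-- `α` carries `[O_p, O^p]'` into `U`. -/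
theorem alpha_u3 {z : H} (hz : z ∈ U3) : ap α z ∈ U := by
  classical
  haveI hUn := D.pc.normal
  have N := D.pc.nc
  obtain ⟨hq, hz0, -⟩ := D.u3_spec φ φ2
  obtain ⟨s, hs, hsQ⟩ := SetLike.not_le_iff_exists.1 N.core.ne
  obtain ⟨a, ha, hq'⟩ := Far.coverX N D.far D.hh hs
  set e := h * a * h⁻¹ with he
  set x := ap α e with hxdef
  have heS : e ∈ (S : Subgroup H) := D.e_mem_S ha
  have hxS : x ∈ (S : Subgroup H) := ap_mem α heS
  have hxQ : x ∉ Q := fun hx => hsQ (by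
    have := (Q).mul_mem hx hq'; rwa [mul_inv_cancel_left] at this)
  let f : ↥U →* ↥(zs S) := MonoidHom.mk'
    (fun u => ⟨x * u * x⁻¹ * (u : H)⁻¹, N.quad u (D.pc.le u.2) x hxS⟩) fun u u' => Subtype.ext (by
      show x * (u * u' : H) * x⁻¹ * (u * u' : H)⁻¹ =
        x * u * x⁻¹ * (u : H)⁻¹ * (x * u' * x⁻¹ * (u' : H)⁻¹)
      have hc := ((mem_zs N.core).1 (N.quad u' (D.pc.le u'.2) x hxS)).2.2 (u : H)⁻¹
        (inv_mem (D.hVS (D.pc.le u.2)))
      rw [show x * u * x⁻¹ * (u : H)⁻¹ * (x * u' * x⁻¹ * (u' : H)⁻¹) =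
        x * u * x⁻¹ * ((u : H)⁻¹ * (x * u' * x⁻¹ * (u' : H)⁻¹)) by group, hc]
      group)
  have hker : f.ker = (zs S).subgroupOf U := by
    ext u
    rw [MonoidHom.mem_ker, mem_subgroupOf, Subtype.ext_iff]
    show x * u * x⁻¹ * (u : H)⁻¹ = 1 ↔ _
    rw [mul_inv_eq_one, mul_inv_eq_iff_eq_mul]
    exact ⟨fun hc => N.toStd.mem_zs_of_commute hxS hxQ (D.pc.le u.2) hc,
      fun hz => ((mem_zs N.core).1 hz).2.2 x hxS⟩
  have hfq : Nat.card f.range = q := by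
    have h1 := f.ker.card_mul_index
    rw [Subgroup.index_ker, hker] at h1
    have h2 : Nat.card ((zs S).subgroupOf U) = Nat.card ↥(U ⊓ zs S) := by
      rw [← inf_subgroupOf_left, Nat.card_congr (subgroupOfEquivOfLe inf_le_left).toEquiv]
    have hsup : omega p H ≤ U ⊔ zs S := D.pc.cover.trans (sup_le_sup_left z0_le_zs _)
    have h3 := card_sup_inf_in (H := omega p H) D.pc.le zs_le_V
      (fun b _ y hy => hUn.conj_mem y hy b) hsup
    rw [N.card_V, ← h1, h2] at h3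
    have h4 : (Nat.card (zs S) * Nat.card ↥(U ⊓ zs S)) * q =
        (Nat.card (zs S) * Nat.card ↥(U ⊓ zs S)) * Nat.card f.range := by
      calc (Nat.card (zs S) * Nat.card ↥(U ⊓ zs S)) * q
          = q * Nat.card (zs S) * Nat.card ↥(U ⊓ zs S) := by ring
        _ = _ := by rw [h3]; ring
    exact (Nat.eq_of_mul_eq_mul_left (Nat.mul_pos Nat.card_pos Nat.card_pos) h4).symm
  set R := f.range.map (zs S).subtype with hR
  have hRimg : R ≤ PushL2.img α (U3) := by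
    rintro _ ⟨_, ⟨u, rfl⟩, rfl⟩
    show x * u * x⁻¹ * (u : H)⁻¹ ∈ _
    have huS := D.hVS (D.pc.le u.2)
    have hu' : ap α.symm (u : H) ∈ Q := D.far.inQ α.symm (ap_mem_img α.symm (D.pc.le u.2) huS)
    have h5 := D.comm_e φ φ2 ha hu'
    refine (PushL2.mem_img α).2 ⟨_, h5, N.core.le_S (D.u2_le_Q (D.u3_le_u2 h5)), ?_⟩
    rw [ap_commutator α heS (N.core.le_S hu'), symm_ap α huS]
  have heq : R = PushL2.img α (U3) := eq_of_le_of_card_ge hRimg (by
    rw [PushL2.card_img α ((D.u3_le_u2.trans D.u2_le_Q).trans N.core.le_S), hq, hR,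
      card_map_of_injective (zs S).subtype_injective, hfq])
  obtain ⟨_, ⟨u, rfl⟩, hu⟩ : ap α z ∈ R :=
    heq ▸ ap_mem_img α hz (N.core.le_S (D.u2_le_Q (D.u3_le_u2 hz)))
  rw [← hu]
  show x * u * x⁻¹ * (u : H)⁻¹ ∈ U
  exact mul_mem (hUn.conj_mem u u.2 x) (inv_mem u.2)

include φ φ2 in
/-- The Sylow subgroup of `O^p` is abelian modulo `[O_p, O^p]`. -/
theorem comm_mod {x y : H} (hx : x ∈ (S : Subgroup H) ⊓ E) (hy : y ∈ (S : Subgroup H) ⊓ E) :
    x * y * x⁻¹ * y⁻¹ ∈ U2 := by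
  haveI hn2 : (U2).Normal := commutator_normal _ _
  have N := D.pc.nc
  have hQE : ∀ {g r}, g ∈ E → r ∈ Q → g * r * g⁻¹ * r⁻¹ ∈ U2 := fun {g r} hg hr => by
    have := inv_mem (commutator_mem_commutator hr hg)
    rwa [commutatorElement_def, show (r * g * r⁻¹ * g⁻¹)⁻¹ = g * r * g⁻¹ * r⁻¹ by group] at this
  obtain ⟨a, ha, hr⟩ := Far.coverX N D.far D.hh hx.1
  obtain ⟨a', ha', hr'⟩ := Far.coverX N D.far D.hh hy.1
  set e := h * a * h⁻¹ with he
  set e' := h * a' * h⁻¹ with he'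
  have heS := D.e_mem_S ha
  have heS' := D.e_mem_S ha'
  set π := QuotientGroup.mk' (U2)
  have h1 : Commute (π (ap α e)) (π (ap α e')) := by
    refine Commute.map (show Commute (ap α e) (ap α e') from ap_comm α heS heS' ?_) π
    exact ((show Commute a a' from Far.commA N D.far ha ha').map (MulAut.conj h).toMonoidHom).eq
  obtain ⟨u, hu, c, hc, huc⟩ := mem_sup_of_normal_left.1 (D.sup_c0 φ φ2 hr')
  have h2 : Commute (π (ap α e)) (π ((ap α e')⁻¹ * y)) := by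
    rw [← huc, _root_.map_mul, show π u = 1 from (QuotientGroup.eq_one_iff u).2 hu, one_mul]
    refine commute_mk.2 (D.U_le_u2 ?_)
    obtain ⟨c', hc', hcS, rfl⟩ := (PushL2.mem_img α).1 hc.1.2
    rw [← ap_commutator α heS hcS]
    exact D.alpha_u3 φ φ2 (D.comm_e φ φ2 ha hc')
  have h3 : Commute (π (ap α e)) (π y) := by
    have := h1.mul_right h2
    rwa [← _root_.map_mul, mul_inv_cancel_left] at this
  have h4 : Commute (π ((ap α e)⁻¹ * x)) (π y) := (commute_mk.2 (hQE hy.2 hr) : Commute _ _).symm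
  have h5 := h3.mul_left h4
  rw [← _root_.map_mul, mul_inv_cancel_left] at h5
  exact commute_mk.1 h5

include φ φ2 in
theorem res_inf_core : E ⊓ Q = U2 := by
  haveI : (U2).Normal := commutator_normal _ _
  refine le_antisymm (fun z hz => mem_of_central_mod D.pc.nc (fun g hg x hx => ?_)
    (fun x hx y hy => D.comm_mod φ φ2 hx hy) hz) (le_inf D.u2_le_res D.u2_le_Q)
  have := inv_mem (commutator_mem_commutator hx hg)
  rwa [commutatorElement_def, show (x * g * x⁻¹ * g⁻¹)⁻¹ = g * x * g⁻¹ * x⁻¹ by group] at this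

include φ φ2 in
theorem core_eq : Cfsg.pCoreOf p (E) = U2 := by
  rw [D.pc.pCoreOf_res, D.res_inf_core φ φ2]

include hF φ φ2 in
theorem center_res : E ⊓ centralizer (E : Set H) = U3 := by
  refine le_antisymm ?_ (le_inf (D.u3_le_u2.trans D.u2_le_res) fun z hz =>
    mem_centralizer_iff.2 fun g _ => z0_central ((D.u3_spec φ φ2).2.1 hz) g)
  rintro z ⟨hzE, hzc⟩
  have hzQ : z ∈ Q := by
    rw [← D.pc.ker]
    refine mem_kerOf.2 fun v hv => ?_
    obtain ⟨a, ha, w, hw, rfl⟩ := mem_sup_of_normal_right.1 (D.pc.cover hv)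
    rw [show z * (a * w) * z⁻¹ * (a * w)⁻¹ = (z * a) * (w * z⁻¹) * w⁻¹ * a⁻¹ by group,
      ← mem_centralizer_iff.1 hzc a (D.pc.U_le_res ha), ← z0_central hw z⁻¹,
      show a * z * (z⁻¹ * w) * w⁻¹ * a⁻¹ = 1 by group]
    exact one_mem _
  have hz2 : z ∈ U2 := (D.res_inf_core φ φ2).le ⟨hzE, hzQ⟩
  rw [← D.W_inf_centralizer hF φ φ2, ← D.inf_c0 hF φ φ2]
  exact ⟨⟨hz2, D.center_le_c0 φ φ2 (D.u2_le_Q hz2) fun r hr =>
    mem_centralizer_iff.1 hzc r (D.u2_le_res hr)⟩, hzc⟩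

include φ φ2 in
theorem map_res2 : (E).map φ2.ρ = commutator (SpecialLinearGroup (Fin 2) F) := by
  haveI := D.pc.charP φ
  rw [← pResidual_SL (p := p)]
  haveI : (Cfsg.pResidual p H).Normal := inferInstance
  haveI : ((E).map φ2.ρ).Normal := Subgroup.Normal.map inferInstance _ φ2.surj
  obtain ⟨k, hk⟩ := PResidual.exists_index_pResidual (G := H) (p := p)
  obtain ⟨j, -, hj⟩ := (Nat.dvd_prime_pow Fact.out).1 (hk ▸ (E).index_map_dvd φ2.surj)
  exact le_antisymm (PResidual.map_pResidual_le φ2.ρ) (PResidual.pResidual_le hj)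

include hF φ φ2 in
theorem acts2 : Cfsg.ActsAsSL2OnSection F (commutator (SpecialLinearGroup (Fin 2) F)) (E) (U2)
    (U ⊔ U3) := by
  haveI hn2 : (U2).Normal := commutator_normal _ _
  refine ⟨fun g _ => by rw [Subgroup.normalizer_eq_top (H := U2)]; exact mem_top g,
    sup_le D.U_le_u2 D.u3_le_u2,
    φ2.ρ.comp (E).subtype, MonoidHom.mk' (fun u : ↥(U2) => Multiplicative.ofAdd (φ2.ψ u))
      fun u v => by
        rw [Subgroup.coe_mul, φ2.map_mul _ (D.u2_le_Q u.2) _ (D.u2_le_Q v.2), ofAdd_add],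
    ?_, fun y => ?_, fun u => ?_, fun g u => ?_⟩
  · rw [MonoidHom.range_comp, Subgroup.range_subtype, D.map_res2 φ φ2]
  · obtain ⟨v, hv, hvy⟩ := φ2.onto (Multiplicative.toAdd y)
    obtain ⟨a, ha, z, hz, rfl⟩ := mem_sup_of_normal_left.1 (D.sup_c0 φ φ2 hv)
    refine ⟨⟨a, ha⟩, ?_⟩
    rw [φ2.map_mul _ (D.u2_le_Q ha) _ (D.c0_le_Q hz), (φ2.eq_zero _ (D.c0_le_Q hz)).2 hz,
      add_zero] at hvy
    show Multiplicative.ofAdd (φ2.ψ a) = y
    rw [hvy, ofAdd_toAdd]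
  · show Multiplicative.ofAdd (φ2.ψ u) = 1 ↔ _
    rw [ofAdd_eq_one, φ2.eq_zero _ (D.u2_le_Q u.2), ← D.inf_c0 hF φ φ2]
    exact ⟨fun h => ⟨u.2, h⟩, fun h => h.2⟩
  · exact ⟨⟨_, hn2.conj_mem u u.2 g⟩, rfl, φ2.equiv g u (D.u2_le_Q u.2)⟩

include φ φ2 in
/-- A twisted element outside `O_p` is exactly quadratic off `C₁`. -/
theorem twist_two {a y : H} (ha : a ∈ A) (hxQ : ap α (h * a * h⁻¹) ∉ Q) (hy : y ∈ Q) :
    let x := ap α (h * a * h⁻¹)
    x * (x * y * x⁻¹ * y⁻¹) * x⁻¹ * (x * y * x⁻¹ * y⁻¹)⁻¹ ∈ U ∧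
      (x * (x * y * x⁻¹ * y⁻¹) * x⁻¹ * (x * y * x⁻¹ * y⁻¹)⁻¹ = 1 ↔ y ∈ c1 α) := by
  intro x
  have N := D.pc.nc
  set e := h * a * h⁻¹ with he
  have heS := D.e_mem_S ha
  have hxS : x ∈ (S : Subgroup H) := ap_mem α heS
  by_cases hy1 : y ∈ c1 α
  · have hz := Far.moveR N D.far (h := h) ha hy1.2
    have h1 : x * (x * y * x⁻¹ * y⁻¹) * x⁻¹ * (x * y * x⁻¹ * y⁻¹)⁻¹ = 1 := by
      rw [((mem_zs N.core).1 hz).2.2 x hxS, mul_inv_cancel_right, mul_inv_cancel]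
    exact ⟨h1 ▸ one_mem _, iff_of_true h1 hy1⟩
  have hyS := N.core.le_S hy
  set s := ap α.symm y with hs
  have hsS : s ∈ (S : Subgroup H) := ap_mem α.symm hyS
  have hsQ : s ∉ Q := fun h' => hy1 ⟨hy, (PushL2.mem_img α).2 ⟨s, h', hsS, symm_ap α hyS⟩⟩
  have heQ : e ∈ Q := D.e_mem_Q ha
  have he1 : e ∉ c1 α := fun h' => by
    have h0 : e ∈ c0 α h := D.mid.lines.inf_conj D.hh
      ⟨h', a, D.A_le_c1 ha, by simp [he]⟩
    have ha0 : a ∈ c0 α h := by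
      have := D.mid.lines.normalW.conj_mem e h0 h⁻¹
      rwa [he, show h⁻¹ * (h * a * h⁻¹) * h⁻¹⁻¹ = a by group] at this
    obtain ⟨v, hv, hvS, rfl⟩ := (PushL2.mem_img α).1 ha
    by_cases hvz : v ∈ zs S
    · have hz : ap α v ∈ omega p H := zs_le_V (zs_inv N.core α hvz)
      exact hxQ (D.far.inQ α (ap_mem_img α (omega_normal.conj_mem _ hz h)
        (D.hVS (omega_normal.conj_mem _ hz h))))
    · exact D.ap_not_c0 hv hvz ha0
  set w := e * s * e⁻¹ * s⁻¹ with hw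
  have hw1 : w ∈ c1 α := by
    have := inv_mem (D.mid.lines.moveU s hsS e heQ)
    rwa [show (s * e * s⁻¹ * e⁻¹)⁻¹ = e * s * e⁻¹ * s⁻¹ by group] at this
  have hw0 : w ∉ c0 α h := fun h' => he1 (D.mid.lines.key N.ctx hsS hsQ heQ (by
    have := inv_mem h'
    rwa [hw, show (e * s * e⁻¹ * s⁻¹)⁻¹ = s * e * s⁻¹ * e⁻¹ by group] at this))
  have hz3 := D.comm_e φ φ2 ha hw1.1
  rw [← he] at hz3
  have hne : e * w * e⁻¹ * w⁻¹ ≠ 1 := fun h' => by
    have hc : Commute e w := mul_inv_eq_iff_eq_mul.1 (mul_inv_eq_one.1 h')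
    obtain ⟨v, hv, hvS, rfl⟩ := (PushL2.mem_img α).1 ha
    have hvz : v ∉ zs S := fun hvz => he1 (by
      have hz : ap α v ∈ omega p H := zs_le_V (zs_inv N.core α hvz)
      exact ⟨heQ, Far.V_le_R N D.far (omega_normal.conj_mem _ hz h)⟩)
    have hw' : h⁻¹ * w * h ∈ Q := by simpa using pCore_isNormal.conj_mem w hw1.1 h⁻¹
    have h2 := hc.symm.map (MulAut.conj h⁻¹).toMonoidHom
    simp only [MulEquiv.coe_toMonoidHom, MulAut.conj_apply, inv_inv] at h2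
    rw [he, show h⁻¹ * (h * ap α v * h⁻¹) * h = ap α v by group] at h2
    exact hw0 (D.mid.lines.inf_conj D.hh ⟨hw1, _, (D.commA_iff hv hvz hw').1 h2, by
      simp [mul_assoc]⟩)
  have hwS := N.core.le_S hw1.1
  have hT : x * (x * y * x⁻¹ * y⁻¹) * x⁻¹ * (x * y * x⁻¹ * y⁻¹)⁻¹ = ap α (e * w * e⁻¹ * w⁻¹) := by
    rw [ap_commutator α heS hwS, hw, ap_commutator α heS hsS, hs, symm_ap α hyS]
  refine ⟨hT ▸ D.alpha_u3 φ φ2 hz3, iff_of_false (fun h1 => hne ?_) hy1⟩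
  rw [hT] at h1
  have hzS : e * w * e⁻¹ * w⁻¹ ∈ (S : Subgroup H) := N.core.le_S (D.u2_le_Q (D.u3_le_u2 hz3))
  rw [← ap_symm α hzS, h1, ap_one]

include hF φ φ2 in
/-- No element of `S` outside `O_p` is quadratic. -/
theorem nonquad {b : H} (hb : b ∈ (S : Subgroup H)) (hbQ : b ∉ Q) :
    ∃ u ∈ U2, ⁅⁅u, b⁆, b⁆ ∉ U3 := by
  classical
  haveI hn2 : (U2).Normal := commutator_normal _ _
  haveI : (U3).Normal := commutator_normal _ _
  have N := D.pc.nc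
  obtain ⟨a, ha, hr⟩ := Far.coverX N D.far D.hh hb
  have hxQ : ap α (h * a * h⁻¹) ∉ Q := fun hx => hbQ (by
    have := (Q).mul_mem hx hr; rwa [mul_inv_cancel_left] at this)
  obtain ⟨y, hy, hy1⟩ : ∃ y ∈ U2, y ∉ c1 α := SetLike.not_le_iff_exists.1 fun hle =>
    D.mid.lines.not_le_C N.ctx ((D.sup_c0 φ φ2).trans (sup_le hle inf_le_left))
  obtain ⟨hTU, hT1⟩ := D.twist_two φ φ2 ha hxQ (D.u2_le_Q hy)
  set x := ap α (h * a * h⁻¹) with hx
  set r := x⁻¹ * b with hrdef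
  refine ⟨y, hy, fun hbad => hy1 (hT1.1 ?_)⟩
  -- work modulo `U3`
  set π := QuotientGroup.mk' (U3)
  have habel : ∀ {u v}, u ∈ U2 → v ∈ U2 → Commute (π u) (π v) := fun hu hv =>
    commute_mk.2 (by rw [← commutatorElement_def]; exact commutator_mem_commutator hu hv)
  have hbx : ∀ {v}, v ∈ U2 → π (b * v * b⁻¹) = π (x * v * x⁻¹) := fun {v} hv => by
    have h1 : π (r * v * r⁻¹) = π v := by
      rw [show r * v * r⁻¹ = r * v * r⁻¹ * v⁻¹ * v by group, _root_.map_mul,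
        show π (r * v * r⁻¹ * v⁻¹) = 1 from (QuotientGroup.eq_one_iff _).2
          (D.Q_move_u2 φ φ2 hr hv), one_mul]
    rw [show b * v * b⁻¹ = x * (r * v * r⁻¹) * x⁻¹ by rw [hrdef]; group, _root_.map_mul,
      _root_.map_mul, h1, ← _root_.map_mul, ← _root_.map_mul]
  obtain ⟨w, hw⟩ : ∃ w, w = x * y * x⁻¹ * y⁻¹ := ⟨_, rfl⟩
  rw [← hw] at hTU hT1 ⊢
  have hwU : w ∈ U2 := hw ▸ mul_mem (hn2.conj_mem y hy x) (inv_mem hy)
  obtain ⟨k, hk⟩ : ∃ k, k = ⁅y, b⁆ := ⟨_, rfl⟩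
  rw [← hk] at hbad
  have hk' : k = y * (b * y⁻¹ * b⁻¹) := by rw [hk, commutatorElement_def]; group
  have hkU : k ∈ U2 := hk' ▸ mul_mem hy (hn2.conj_mem _ (inv_mem hy) b)
  have hkw : π k = (π w)⁻¹ := by
    rw [hk', _root_.map_mul, hbx (inv_mem hy), ← _root_.map_mul, ← _root_.map_inv π w, hw]
    congr 1
    group
  have h3 : π ⁅k, b⁆ = π (x * w * x⁻¹ * w⁻¹) := by
    rw [commutatorElement_def, show k * b * k⁻¹ * b⁻¹ = k * (b * k⁻¹ * b⁻¹) by group,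
      _root_.map_mul, hbx (inv_mem hkU)]
    have hcz : Commute (π w)⁻¹ (π (x * w * x⁻¹)) :=
      (habel hwU (hn2.conj_mem w hwU x)).inv_left
    rw [_root_.map_mul, _root_.map_mul, _root_.map_inv π k, hkw, inv_inv, ← _root_.map_mul,
      ← _root_.map_mul, hcz.eq, ← _root_.map_inv π w, ← _root_.map_mul]
  have h4 : x * w * x⁻¹ * w⁻¹ ∈ U3 := (QuotientGroup.eq_one_iff _).1 (by
    show π (x * w * x⁻¹ * w⁻¹) = 1
    rw [← h3]; exact (QuotientGroup.eq_one_iff _).2 hbad)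
  have h5 : x * w * x⁻¹ * w⁻¹ ∈ U ⊓ z0 p H := ⟨hTU, (D.u3_spec φ φ2).2.1 h4⟩
  rwa [D.inf_z0 hF φ φ2, mem_bot] at h5

include hF φ φ2 in
/-- Second commutators with twisted elements detect `C₁` modulo `E₀`. -/
theorem mem_c1_of_twisted {a r y y' : H} (ha : a ∈ A) (hxQ : ap α (h * a * h⁻¹) ∉ Q) (hr : r ∈ Q)
    (hy : y ∈ Q) (hy' : y' ∈ Q)
    (heq : let x := ap α (h * a * h⁻¹)
      (x * r) * ((x * r) * y' * (x * r)⁻¹ * y'⁻¹) * (x * r)⁻¹ *
          ((x * r) * y' * (x * r)⁻¹ * y'⁻¹)⁻¹ =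
        x * (x * y * x⁻¹ * y⁻¹) * x⁻¹ * (x * y * x⁻¹ * y⁻¹)⁻¹) :
    y' * y⁻¹ ∈ c1 α := by
  haveI := D.mid.normalE
  set x := ap α (h * a * h⁻¹)
  obtain ⟨hTU, hT1⟩ := D.twist_two φ φ2 ha hxQ (Subgroup.mul_mem _ hy' (inv_mem hy))
  refine hT1.1 ?_
  set π := QuotientGroup.mk' E0
  have habel : ∀ {u v}, u ∈ Q → v ∈ Q → Commute (π u) (π v) := fun hu hv =>
    commute_mk.2 (D.mid.abel _ hu _ hv)
  -- conjugation by `x` on `O_p/E₀`
  set c := fun v : H ⧸ E0 => π x * v * (π x)⁻¹ with hc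
  have hr' : ∀ {u}, u ∈ Q → π (x * r) * π u * (π (x * r))⁻¹ = c (π u) := fun {u} hu => by
    rw [_root_.map_mul, show π x * π r * π u * (π x * π r)⁻¹ = π x * (π r * π u * (π r)⁻¹) * (π x)⁻¹ by
      group, (habel hr hu).eq, mul_inv_cancel_right]
  have hmem : ∀ {u}, u ∈ Q → x * u * x⁻¹ * u⁻¹ ∈ Q := fun {u} hu =>
    Subgroup.mul_mem _ (pCore_isNormal.conj_mem u hu x) (inv_mem hu)
  have hmem' : ∀ {u}, u ∈ Q → x * r * u * (x * r)⁻¹ * u⁻¹ ∈ Q := fun {u} hu =>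
    Subgroup.mul_mem _ (pCore_isNormal.conj_mem u hu (x * r)) (inv_mem hu)
  set Sq := fun v : H ⧸ E0 => c (c v * v⁻¹) * (c v * v⁻¹)⁻¹ with hSq
  have hT : ∀ {u}, u ∈ Q → π (x * (x * u * x⁻¹ * u⁻¹) * x⁻¹ * (x * u * x⁻¹ * u⁻¹)⁻¹) = Sq (π u) := by
    intro u _
    simp only [Sq, c, _root_.map_mul, _root_.map_inv]
  have hT' : π (x * r * (x * r * y' * (x * r)⁻¹ * y'⁻¹) * (x * r)⁻¹ *
      (x * r * y' * (x * r)⁻¹ * y'⁻¹)⁻¹) = Sq (π y') := by
    have h1 := hr' (hmem' hy')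
    have h2 := hr' hy'
    have h3 : π (x * r * y' * (x * r)⁻¹ * y'⁻¹) = c (π y') * (π y')⁻¹ := by
      rw [_root_.map_mul, _root_.map_mul, _root_.map_mul π (x * r), _root_.map_inv, _root_.map_inv, h2]
    rw [_root_.map_mul, _root_.map_mul, _root_.map_mul π (x * r), _root_.map_inv, _root_.map_inv,
      h1, h3]
  have hxr := congrArg π heq
  rw [hT', hT hy] at hxr
  -- the second commutator is a homomorphism on the abelian quotient
  set d := y' * y⁻¹ with hd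
  have hdQ : d ∈ Q := Subgroup.mul_mem _ hy' (inv_mem hy)
  have hsplit : Sq (π y') = Sq (π d) * Sq (π y) := by
    have e1 : c (π y') * (π y')⁻¹ = (c (π d) * (π d)⁻¹) * (c (π y) * (π y)⁻¹) := by
      have hyd : π y' = π d * π y := by rw [← _root_.map_mul, hd]; congr 1; group
      have hcm : Commute (c (π y) * (π y)⁻¹) (π d)⁻¹ := by
        have := (habel (hmem hy) (inv_mem hdQ))
        simpa only [c, _root_.map_mul, _root_.map_inv] using this
      rw [hyd]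
      simp only [c] at hcm ⊢
      rw [show π x * (π d * π y) * (π x)⁻¹ * (π d * π y)⁻¹ = π x * π d * (π x)⁻¹ *
        ((π x * π y * (π x)⁻¹ * (π y)⁻¹) * (π d)⁻¹) by group, hcm.eq]
      group
    have hA := hmem hdQ
    have hB := hmem hy
    have hcm2 : Commute (c (c (π y) * (π y)⁻¹) * (c (π y) * (π y)⁻¹)⁻¹) (c (π d) * (π d)⁻¹)⁻¹ := by
      have := habel (hmem hB) (inv_mem hA)
      simpa only [c, _root_.map_mul, _root_.map_inv] using this
    simp only [Sq]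
    rw [e1]
    generalize c (π d) * (π d)⁻¹ = A' at hcm2 ⊢
    generalize c (π y) * (π y)⁻¹ = B' at hcm2 ⊢
    simp only [c] at hcm2 ⊢
    rw [show π x * (A' * B') * (π x)⁻¹ * (A' * B')⁻¹ =
      π x * A' * (π x)⁻¹ * ((π x * B' * (π x)⁻¹ * B'⁻¹) * A'⁻¹) by group, hcm2.eq]
    group
  rw [hsplit, mul_eq_right, ← hT hdQ] at hxr
  have hE : x * (x * d * x⁻¹ * d⁻¹) * x⁻¹ * (x * d * x⁻¹ * d⁻¹)⁻¹ ∈ E0 :=
    (QuotientGroup.eq_one_iff _).1 hxr
  have h0 : x * (x * d * x⁻¹ * d⁻¹) * x⁻¹ * (x * d * x⁻¹ * d⁻¹)⁻¹ ∈ U ⊓ z0 p H :=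
    ⟨hTU, D.pc.fixed_le (D.pc.le hTU) fun g hg => D.fix0 hg hE⟩
  rwa [D.inf_z0 hF φ φ2, mem_bot] at h0

end Tw

end CfsgLib.PushUpB.Piece
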