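import Cfsg.Agent.PushUpB.Local
import Cfsg.Agent.PushUpB.PieceTwo

/-!
Pushing up: the piece of the group over a local piece.
-/

set_option autoImplicit false
set_option linter.style.haveILetI false
set_option linter.unusedSectionVars false

namespace CfsgLib.PushUpB

open Subgroup Matrix CfsgLib.PMinFF CfsgLib.OffGen
open CfsgLib.SL2Pair (up low up_coe low_coe)
open scoped commutatorElement

universe u

variable {G : Type u} [Group G] [Finite G] {p : ℕ} [Fact p.Prime] {T : Sylow p G} {M : Subgroup G}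
  {P : Type u} [Group P] [Finite P] {π : G →* P} {W : Type u} [AddCommGroup W] [Finite W]
  [DistribMulAction P W] {e : W ≃ Vo p G} {T' : Sylow p P} {𝓔 : Set (Subgroup P)}
  {E' : Subgroup P} {F : Type} [Field F] [Fintype F]

namespace PU

variable (D : PU T M π e T' 𝓔)

/-- The commutator of `Ω₁Z(O_p(G))` with a piece. -/
def wc (E' : Subgroup P) : Subgroup G := D.quot.img (com W E')

variable (Λ : Loc W T' (M.map π) 𝓔 (Jb T π) E' F) {X : Subgroup G} (hX : LX T π E' X)

theorem wc_le_Vo (E' : Subgroup P) : D.wc E' ≤ Vo p G := by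
  rintro _ ⟨k, -, rfl⟩
  exact (e k).2

include D Λ hX

theorem Vo_le_X : Vo p G ≤ X := (D.V_le_Qz.trans inf_le_right).trans hX.B_le

/-- `O_p` of the piece acts trivially on the natural quotient. -/
theorem core_proj {x : ↥X} (hx : x ∈ Cfsg.pCore p ↥X) : Λ.proj hX.image x = 1 := by
  haveI := Λ.sld.charP
  haveI : (Cfsg.pCore p ↥X).Normal := CfsgLib.Solvable.pCore_normal p
  set B := Cfsg.baumannSubgroupOf p (T : Subgroup G)
  have hBp : IsPGroup p (B.subgroupOf X) := (T.isPGroup'.to_le inf_le_left).comap_subtype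
  set R := Cfsg.pCore p ↥X ⊔ B.subgroupOf X with hR
  have hRp : IsPGroup p R := (CfsgLib.Solvable.isPGroup_pCore p).to_sup_of_normal_left hBp
  have hJR : ∀ c, up c ∈ R.map (Λ.proj hX.image) := fun c =>
    map_mono le_sup_right (Λ.up_mem hX.image hX.B_le D.map_B.ge c)
  have key : ∀ y ∈ Cfsg.pCore p ↥X, ∃ c, Λ.proj hX.image y = up c := fun y hy =>
    eq_up_of_pGroup _ (hRp.map _) hJR ⟨y, mem_sup_left hy, rfl⟩
  obtain ⟨c, hc⟩ := key x hx
  obtain ⟨g, hg⟩ := Λ.proj_surjective hX.image (low 1)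
  obtain ⟨d, hd⟩ := key _ ((CfsgLib.Solvable.pCore_normal p).conj_mem x hx g)
  rw [map_mul, map_mul, map_inv, hg, hc] at hd
  have h10 := congrFun (congrFun (congrArg Subtype.val hd) 1) 0
  simp [Matrix.SpecialLinearGroup.coe_mul, SL2Pair.low_inv, up_coe, low_coe, Matrix.mul_apply,
    Fin.sum_univ_two] at h10
  rw [hc, h10, SL2Pair.up_zero]

/-- The piece is normalised. -/
theorem wc_smul {g : G} (hg : g ∈ X) {v : W} (hv : v ∈ com W E') : π g • v ∈ com W E' := by
  obtain ⟨a, ha, r, -, hrc, hr, har⟩ := Λ.mem_split (hX.image.le ⟨g, hg, rfl⟩)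
  rw [← har, mul_smul, fix_com_of_commute hrc hr hv]
  exact smul_mem_com_self ha hv

theorem core_fix_com {x : ↥X} (hx : x ∈ Cfsg.pCore p ↥X) {v : W} (hv : v ∈ com W E') :
    π (x : G) • v = v := by
  obtain ⟨a, ha, r, -, hrc, hr, har⟩ := Λ.mem_split (hX.image.le ⟨x.1, x.2, rfl⟩)
  have h1 := Λ.proj_split hX.image x ha hr har
  rw [D.core_proj Λ hX hx, eq_comm, MulEquiv.map_eq_one_iff] at h1
  have ha1 : a = 1 := congrArg Subtype.val h1
  rw [← har, ha1, one_mul]
  exact fix_com_of_commute hrc hr hv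

theorem wc_le_omega : (D.wc E').subgroupOf X ≤ PushL2.omega p ↥X := by
  intro x hx
  obtain ⟨k, hk, hkx⟩ := hx
  have hxV : (x : G) ∈ Vo p G := D.wc_le_Vo E' ⟨k, hk, hkx⟩
  have hxp : x ^ p = 1 := Subtype.ext (by
    rw [Subgroup.coe_pow, Subgroup.coe_one]
    exact (mem_omegaOneCenter hxV).2.2)
  haveI := D.Qz_normal
  have hxQ : x ∈ Cfsg.pCore p ↥X := CfsgLib.Solvable.le_pCore p
    (Subgroup.Normal.comap (inferInstance : (Qz p (T : Subgroup G)).Normal) X.subtype)
    ((T.isPGroup'.to_le (inf_le_left.trans D.Q_le_T)).comap_subtype) (D.V_le_Qz hxV)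
  refine ⟨⟨hxQ, mem_centralizer_iff.2 fun y hy => Subtype.ext ?_⟩, hxp⟩
  have h := D.core_fix_com Λ hX hy hk
  rw [D.quot.smul_eq_iff] at h
  change (e k : G) = (x : G) at hkx
  rw [hkx] at h
  exact h

theorem wc_normal : ((D.wc E').subgroupOf X).Normal := by
  refine ⟨fun x hx g => ?_⟩
  obtain ⟨k, hk, hkx⟩ := hx
  refine ⟨π (g : G) • k, D.wc_smul Λ hX g.2 hk, ?_⟩
  change (e k : G) = (x : G) at hkx
  rw [D.quot.smul, hkx]
  simp

theorem wc_com : ⁅(D.wc E').subgroupOf X, (⊤ : Subgroup ↥X)⁆ = (D.wc E').subgroupOf X := by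
  haveI := D.wc_normal Λ hX
  set U := (D.wc E').subgroupOf X with hU
  refine le_antisymm (commutator_le_left U ⊤) fun x hx => ?_
  obtain ⟨k, hk, hkx⟩ := hx
  change (e k : G) = (x : G) at hkx
  have hV := D.Vo_le_X Λ hX
  suffices h : ∀ k ∈ com W E', ∀ x : ↥X, (x : G) = (e k : G) → x ∈ ⁅U, (⊤ : Subgroup ↥X)⁆ from
    h k hk x hkx.symm
  intro k hk
  induction hk using AddSubgroup.closure_induction with
  | mem w hw =>
    obtain ⟨g, hg, v, rfl⟩ := hw
    intro x hx
    obtain ⟨u, hu, huv⟩ := Λ.sld.onto (Λ.sld.ψ v)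
    have hfix : v - u ∈ fix W E' := (Λ.sld.ker _).1 (by rw [map_sub, huv, sub_self])
    have heq : g • v - v = g • u - u := by
      have := hfix g hg
      rw [smul_sub] at this
      linear_combination (norm := abel_nf) this
    obtain ⟨gh, hgh, rfl⟩ := hX.image.ge (mem_sup_left hg)
    let u' : ↥X := ⟨(e u : G), hV (e u).2⟩
    have hu' : u' ∈ U := ⟨u, hu, rfl⟩
    have e1 : x = ⁅u', (⟨gh, hgh⟩ : ↥X)⁆⁻¹ := Subtype.ext (by
      rw [hx, heq, D.quot.val_sub, D.quot.smul]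
      simp only [commutatorElement_def, Subgroup.coe_inv, Subgroup.coe_mul, u']
      group)
    rw [e1]
    exact inv_mem (commutator_mem_commutator hu' (mem_top _))
  | zero =>
    intro x hx
    rw [show x = 1 from Subtype.ext (hx.trans D.quot.val_zero)]
    exact one_mem _
  | add y z _ _ hy hz =>
    intro x hx
    rw [show x = ⟨(e y : G), hV (e y).2⟩ * ⟨(e z : G), hV (e z).2⟩ from Subtype.ext (by
      rw [hx, D.quot.add]; rfl)]
    exact mul_mem (hy _ rfl) (hz _ rfl)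
  | neg y _ hy =>
    intro x hx
    have h1 : (e (-y) : G) = (e y : G)⁻¹ := by
      rw [← zero_sub, D.quot.val_sub, D.quot.val_zero, one_mul]
    rw [show x = (⟨(e y : G), hV (e y).2⟩ : ↥X)⁻¹ from Subtype.ext (hx.trans h1)]
    exact inv_mem (hy _ rfl)

theorem wc_cover {S : Sylow p ↥X} {M₀ : Subgroup ↥X}
    (N : PushL2.NoChar p S (Nat.card F) M₀) :
    PushL2.omega p ↥X ≤ (D.wc E').subgroupOf X ⊔ PushL2.z0 p ↥X := by
  classical
  set U := (D.wc E').subgroupOf X with hU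
  set z := PushL2.z0 p ↥X
  have hUV := D.wc_le_omega Λ hX
  have hzV : z ≤ PushL2.omega p ↥X := PushL2.fix_le _
  haveI : U.Normal := D.wc_normal Λ hX
  -- the coordinates
  have hmem : ∀ u : ↥U, ∃ k ∈ com W E', (e k : G) = ((u : ↥X) : G) := fun u => u.2
  choose kk hkk hkke using hmem
  have hadd : ∀ u v : ↥U, kk (u * v) = kk u + kk v := fun u v => e.injective (Subtype.ext (by
    rw [hkke, D.quot.add]
    simp only [Subgroup.coe_mul, hkke]))
  let f : ↥U →* Multiplicative (Fin 2 → F) :=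
    MonoidHom.mk' (fun u => Multiplicative.ofAdd (Λ.sld.ψ (kk u))) fun u v => by
      rw [hadd, map_add, ofAdd_add]
  have hf : Function.Surjective f := fun y => by
    obtain ⟨k, hk, hky⟩ := Λ.sld.onto (Multiplicative.toAdd y)
    let u : ↥U := ⟨⟨(e k : G), D.Vo_le_X Λ hX (e k).2⟩, ⟨k, hk, rfl⟩⟩
    refine ⟨u, ?_⟩
    have hk' : kk u = k := e.injective (Subtype.ext (hkke u))
    show Multiplicative.ofAdd (Λ.sld.ψ (kk u)) = y
    rw [hk', hky, ofAdd_toAdd]
  have hker : z.subgroupOf U ≤ f.ker := by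
    intro u hu
    show Multiplicative.ofAdd (Λ.sld.ψ (kk u)) = 1
    rw [ofAdd_eq_one, Λ.sld.ker]
    intro a ha
    obtain ⟨g, hg, rfl⟩ := hX.image.ge (mem_sup_left ha)
    rw [D.quot.smul_eq_iff, hkke]
    exact congrArg Subtype.val (PushL2.z0_central (mem_subgroupOf.1 hu) ⟨g, hg⟩)
  have h1 := f.ker.card_mul_index
  rw [Subgroup.index_ker, MonoidHom.range_eq_top.2 hf, Subgroup.card_top,
    Nat.card_congr Multiplicative.toAdd, Nat.card_fun, Nat.card_fin] at h1
  have h2 : Nat.card ↥(U ⊓ z) ≤ Nat.card f.ker := by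
    rw [← Nat.card_congr (subgroupOfEquivOfLe (inf_le_left : U ⊓ z ≤ U)).toEquiv,
      inf_subgroupOf_left]
    exact Subgroup.card_le_of_le hker
  have h3 := PushL2.card_sup_inf_in (H := U ⊔ z) (X := U) (Y := z) le_sup_left le_sup_right
    (fun a _ x hx => (inferInstance : U.Normal).conj_mem x hx a) le_rfl
  refine (eq_of_le_of_card_ge (sup_le hUV hzV) ?_).ge
  refine Nat.le_of_mul_le_mul_right ?_ (Nat.card_pos (α := ↥(U ⊓ z)))
  rw [h3, N.card_V, N.card_zs, ← h1]
  calc Nat.card F * (Nat.card F * Nat.card ↥z) * Nat.card ↥(U ⊓ z)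
      = Nat.card ↥(U ⊓ z) * Nat.card F ^ 2 * Nat.card ↥z := by ring
    _ ≤ Nat.card f.ker * Nat.card F ^ 2 * Nat.card ↥z :=
        Nat.mul_le_mul_right _ (Nat.mul_le_mul_right _ h2)

/-- The piece inside the rank one group. -/
theorem exists_pc : ∃ (S : Sylow p ↥X) (M₀ : Subgroup ↥X),
    (S : Subgroup ↥X) = (Cfsg.baumannSubgroupOf p (T : Subgroup G)).subgroupOf X ∧
    Piece.PC p S (Nat.card F) M₀ ((D.wc E').subgroupOf X) := by
  obtain ⟨S, M₀, hS, N, hcase⟩ := D.exists_rankOne Λ hX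
  exact ⟨S, M₀, hS, N, hcase.elim (fun h => h.ker) (fun h => h.ker), D.wc_normal Λ hX,
    D.wc_le_omega Λ hX, D.wc_cover Λ hX N, D.wc_com Λ hX⟩

end PU

end CfsgLib.PushUpB
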