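import Cfsg.Agent.PushUpB.PieceBase

/-!
Pushing up: the piece in class two.
-/

set_option autoImplicit false
set_option linter.style.haveILetI false
set_option linter.unusedSectionVars false

namespace CfsgLib.PushUpB.Piece

open Subgroup Matrix CfsgLib.PushL2
open scoped commutatorElement

universe u

variable {H : Type u} [Group H] [Finite H] {p : ℕ} [Fact p.Prime] {S : Sylow p H} {q : ℕ}
  {M₀ U : Subgroup H}

/-- The class two piece: some twist of `Ω₁Z(O_p)` lies outside `O_p`. -/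
def Twisted (p : ℕ) [Fact p.Prime] (S : Sylow p H) : Prop :=
  ∃ α : ↥(S : Subgroup H) ≃* ↥(S : Subgroup H), ¬ img α (omega p H) ≤ Cfsg.pCore p H

namespace PC

variable (hU : PC p S q M₀ U) (hT : Twisted p S)
include hU hT

local notation "E" => Cfsg.pResidual p H

theorem one : One p S := caseOne hU.nc hT.choose hT.choose_spec

/-- `O^p` moves `O_p` into `U`. -/
theorem move_le {g : H} (hg : g ∈ E) {x : H} (hx : x ∈ Cfsg.pCore p H) :
    g * x * g⁻¹ * x⁻¹ ∈ U := by
  haveI := hU.normal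
  refine mem_kerOf.1 ((closure_le _).2 (fun g hg => ?_) hg) x hx
  refine mem_kerOf.2 fun x hx => ?_
  set c := g * x * g⁻¹ * x⁻¹ with hc
  have hcV : c ∈ omega p H := (hU.one hT).top g hg x hx
  obtain ⟨a, ha, z, hz, haz⟩ := mem_sup_of_normal_right.1 (hU.cover hcV)
  set π := QuotientGroup.mk' U
  have hgp : (orderOf (π g)).Coprime p :=
    Nat.Coprime.coprime_dvd_left (orderOf_map_dvd π g) hg
  have hcomm : π g * π c = π c * π g := by
    rw [← haz, _root_.map_mul, show π a = 1 from (QuotientGroup.eq_one_iff a).2 ha, one_mul,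
      ← _root_.map_mul, ← _root_.map_mul, z0_central hz g]
  refine (QuotientGroup.eq_one_iff _).1 ?_
  show π c = 1
  refine eq_one_of_shift (g := π g) (x := π x) ?_ hcomm hgp (k := 1) ?_
  · rw [← _root_.map_inv, ← _root_.map_mul, ← _root_.map_mul, ← _root_.map_mul, hc]
    congr 1
    group
  · rw [pow_one, ← _root_.map_pow, hcV.2, _root_.map_one]

/-- A twist of `Ω₁Z(O_p)` moves `S` into `U`. -/
theorem twist_move (α : ↥(S : Subgroup H) ≃* ↥(S : Subgroup H))
    (hα : ¬ img α (omega p H) ≤ Cfsg.pCore p H) {v : H} (hv : v ∈ omega p H) {s : H}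
    (hs : s ∈ (S : Subgroup H)) : s * ap α v * s⁻¹ * (ap α v)⁻¹ ∈ U := by
  classical
  have N := hU.nc
  set V := omega p H with hV
  have hVS : ∀ {v}, v ∈ V → v ∈ (S : Subgroup H) := fun hv => N.core.le_S (omega_le hv)
  set y := ap α v with hy
  have hyS : y ∈ (S : Subgroup H) := ap_mem α (hVS hv)
  by_cases hvz : v ∈ zs S
  · have hyz : y ∈ zs S := zs_inv N.core α hvz
    rw [((mem_zs N.core).1 hyz).2.2 s hs]
    simp
  -- the twist is outside `O_p`
  obtain ⟨w₀, hw₀, hw₀Q⟩ : ∃ w ∈ V, ap α.symm w ∉ Cfsg.pCore p H := by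
    by_contra hall
    push Not at hall
    obtain ⟨_, hy₀, hy₀Q⟩ := SetLike.not_le_iff_exists.1 hα
    obtain ⟨v₀, hv₀, -, rfl⟩ := (mem_img α).1 hy₀
    refine hy₀Q (N.commute_conj_mem (ap_mem α (hVS hv₀)) fun w hw => ?_)
    have := ap_comm α (hVS hv₀) (ap_mem α.symm (hVS hw)) (omega_commute hv₀ (hall w hw))
    rwa [symm_ap α (hVS hw)] at this
  have hyQ : y ∉ Cfsg.pCore p H := fun hq => hvz (by
    refine N.mem_zs_of_commute (ap_mem α.symm (hVS hw₀)) hw₀Q hv ?_
    have := ap_comm α.symm (ap_mem α (hVS hv)) (hVS hw₀) (omega_commute hw₀ hq).symm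
    rw [ap_symm α (hVS hv)] at this
    exact this.symm)
  -- both images of the commutator map have order `q`
  let f : ↥(S : Subgroup H) →* ↥(zs S) := MonoidHom.mk'
    (fun t => ⟨t * y * (t : H)⁻¹ * y⁻¹, N.quad_ap α hv t.2⟩) fun s t => Subtype.ext (by
      have hc := ((mem_zs N.core).1 (N.quad_ap α hv t.2)).2.2 s s.2
      show (s : H) * t * y * ((s : H) * t)⁻¹ * y⁻¹ = s * y * (s : H)⁻¹ * y⁻¹ * (t * y * (t : H)⁻¹ * y⁻¹)
      rw [show (s : H) * t * y * ((s : H) * t)⁻¹ * y⁻¹ =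
        (s : H) * (t * y * (t : H)⁻¹ * y⁻¹) * (s : H)⁻¹ * (s * y * (s : H)⁻¹ * y⁻¹) by group, hc,
        mul_inv_cancel_right]
      exact (((mem_zs N.core).1 (N.quad_ap α hv s.2)).2.2 _ ((mem_zs N.core).1 (N.quad_ap α hv t.2)).1))
  have hk : ∀ t : ↥(S : Subgroup H), f t = 1 ↔ Commute (t : H) y := fun t => by
    rw [Subtype.ext_iff]
    show (t : H) * y * (t : H)⁻¹ * y⁻¹ = 1 ↔ _
    rw [mul_inv_eq_one, mul_inv_eq_iff_eq_mul]
    rfl
  -- the kernel is the twist of `O_p`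
  have hkerS : f.ker = ((Cfsg.pCore p H).subgroupOf (S : Subgroup H)).map α.toMonoidHom := by
    ext t
    rw [MonoidHom.mem_ker, hk]
    constructor
    · intro hc
      refine ⟨α.symm t, mem_subgroupOf.2 ?_, α.apply_symm_apply t⟩
      by_contra hnQ
      refine hvz (N.mem_zs_of_commute (α.symm t).2 hnQ hv ?_)
      have h1 := ap_comm α.symm t.2 hyS hc.eq
      rw [hy, ap_symm α (hVS hv), ap_eq α.symm t.2] at h1
      exact h1
    · rintro ⟨r, hr, rfl⟩
      have h1 := ap_comm α r.2 (hVS hv) (omega_commute hv (mem_subgroupOf.1 hr)).symm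
      rw [ap_eq α r.2] at h1
      exact h1
  have hf : Nat.card f.range = q := by
    have h1 := f.ker.card_mul_index
    rw [Subgroup.index_ker, hkerS, card_map_of_injective α.injective,
      Nat.card_congr (subgroupOfEquivOfLe N.core.le_S).toEquiv, N.ctx.card_S, mul_comm q] at h1
    exact Nat.eq_of_mul_eq_mul_left Nat.card_pos h1
  have hUS : U ≤ (S : Subgroup H) := fun a ha => hVS (hU.le ha)
  set fU := (f.range.subtype.comp (f.rangeRestrict.comp (Subgroup.inclusion hUS))) with hfU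
  have hfUq : Nat.card fU.range = q := by
    have hkU : fU.ker = (zs S).subgroupOf U := by
      ext a
      rw [MonoidHom.mem_ker]
      show f (Subgroup.inclusion hUS a) = 1 ↔ _
      rw [hk, mem_subgroupOf]
      constructor
      · exact fun hc => N.mem_zs_of_commute hyS hyQ (hU.le a.2) hc.eq.symm
      · exact fun hz => (((mem_zs N.core).1 hz).2.2 y hyS).symm
    have h1 := fU.ker.card_mul_index
    rw [Subgroup.index_ker, hkU] at h1
    have h2 : Nat.card ((zs S).subgroupOf U) = Nat.card ↥(U ⊓ zs S) := by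
      rw [← inf_subgroupOf_left, Nat.card_congr (subgroupOfEquivOfLe inf_le_left).toEquiv]
    have hsup : omega p H ≤ U ⊔ zs S := hU.cover.trans (sup_le_sup_left z0_le_zs _)
    have h3 := card_sup_inf_in (H := omega p H) hU.le zs_le_V
      (fun a _ x hx => hU.normal.conj_mem x hx a) hsup
    rw [N.card_V, ← h1, h2] at h3
    -- h3 : q * |zs| * |U ∩ zs| = |U ∩ zs| * |range| * |zs|
    have h4 : (Nat.card (zs S) * Nat.card ↥(U ⊓ zs S)) * q =
        (Nat.card (zs S) * Nat.card ↥(U ⊓ zs S)) * Nat.card fU.range := by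
      calc (Nat.card (zs S) * Nat.card ↥(U ⊓ zs S)) * q
          = q * Nat.card (zs S) * Nat.card ↥(U ⊓ zs S) := by ring
        _ = _ := by rw [h3]; ring
    exact (Nat.eq_of_mul_eq_mul_left (Nat.mul_pos Nat.card_pos Nat.card_pos) h4).symm
  have hle : fU.range ≤ f.range := by
    rintro _ ⟨a, rfl⟩
    exact ⟨Subgroup.inclusion hUS a, rfl⟩
  have heq := eq_of_le_of_card_ge hle (hf.trans hfUq.symm).le
  obtain ⟨a, ha⟩ : f ⟨s, hs⟩ ∈ fU.range := heq ▸ ⟨_, rfl⟩
  have h5 : (a : H) * y * (a : H)⁻¹ * y⁻¹ = s * y * s⁻¹ * y⁻¹ := congrArg Subtype.val ha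
  rw [← h5, show (a : H) * y * (a : H)⁻¹ * y⁻¹ = a * (y * (a : H)⁻¹ * y⁻¹) by group]
  exact U.mul_mem a.2 (hU.normal.conj_mem _ (U.inv_mem a.2) y)

/-- The Sylow subgroup of `O^p` is abelian modulo `U`. -/
theorem comm_mod {x y : H} (hx : x ∈ (S : Subgroup H) ⊓ E) (hy : y ∈ (S : Subgroup H) ⊓ E) :
    x * y * x⁻¹ * y⁻¹ ∈ U := by
  classical
  haveI := hU.normal
  have N := hU.nc
  obtain ⟨α, hα⟩ := hT
  have hVS : ∀ {v}, v ∈ omega p H → v ∈ (S : Subgroup H) := fun hv => N.core.le_S (omega_le hv)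
  have hfib : ∀ v ∈ omega p H, ap α v ∈ Cfsg.pCore p H → v ∈ zs S := by
    intro v hv hq
    obtain ⟨w₀, hw₀, hw₀Q⟩ : ∃ w ∈ omega p H, ap α.symm w ∉ Cfsg.pCore p H := by
      by_contra hall
      push Not at hall
      obtain ⟨_, hy₀, hy₀Q⟩ := SetLike.not_le_iff_exists.1 hα
      obtain ⟨v₀, hv₀, -, rfl⟩ := (mem_img α).1 hy₀
      refine hy₀Q (N.commute_conj_mem (ap_mem α (hVS hv₀)) fun w hw => ?_)
      have := ap_comm α (hVS hv₀) (ap_mem α.symm (hVS hw)) (omega_commute hv₀ (hall w hw))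
      rwa [symm_ap α (hVS hw)] at this
    refine N.mem_zs_of_commute (ap_mem α.symm (hVS hw₀)) hw₀Q hv ?_
    have := ap_comm α.symm (ap_mem α (hVS hv)) (hVS hw₀) (omega_commute hw₀ hq).symm
    rw [ap_symm α (hVS hv)] at this
    exact this.symm
  obtain ⟨⟨v, hvV⟩, hr⟩ := Amb.cover N (fun v => ⟨ap α v, ap_mem α (hVS v.2)⟩)
    ((Cfsg.pCore p H).subgroupOf (S : Subgroup H))
    (Nat.card_congr (subgroupOfEquivOfLe N.core.le_S).toEquiv)
    (fun u v huv => hfib _ ((omega p H).mul_mem ((omega p H).inv_mem u.2) v.2) (by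
      rw [ap_mul α ((S : Subgroup H).inv_mem (hVS u.2)) (hVS v.2), ap_inv α (hVS u.2)]
      exact huv)) ⟨x, hx.1⟩
  set π := QuotientGroup.mk' U
  have hr' : (ap α v)⁻¹ * x ∈ Cfsg.pCore p H := hr
  refine commute_mk.1 ?_
  have h1 : Commute (π y) (π (ap α v)) :=
    commute_mk.2 (hU.twist_move ⟨α, hα⟩ α hα hvV hy.1)
  have h2 : Commute (π y) (π ((ap α v)⁻¹ * x)) :=
    commute_mk.2 (hU.move_le ⟨α, hα⟩ hy.2 hr')
  have h3 := h1.mul_right h2
  rw [← _root_.map_mul, mul_inv_cancel_left] at h3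
  exact h3.symm

/-- `O_p` meets `O^p` in `U`. -/
theorem res_inf_core : E ⊓ Cfsg.pCore p H = U := by
  classical
  haveI := hU.normal
  haveI hEn : (E).Normal := inferInstance
  exact le_antisymm (fun z hz => mem_of_central_mod hU.nc
    (fun g hg x hx => hU.move_le hT hg hx) (fun x hx y hy => hU.comm_mod hT hx hy) hz)
    (le_inf hU.U_le_res (hU.le.trans omega_le))

theorem core_eq_U : Cfsg.pCoreOf p (E) = U := by
  rw [hU.pCoreOf_res, hU.res_inf_core hT]

theorem omega_eq : Cfsg.omegaOneCenter p U = U := by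
  refine le_antisymm (fun x hx => (mem_omegaOneCenter hx).1) fun x hx => ?_
  refine Subgroup.subset_closure ⟨⟨hx, mem_centralizer_iff.2 fun y hy => ?_⟩, (hU.le hx).2⟩
  exact (omega_commute (hU.le hy) (omega_le (hU.le hx)))

end PC

end CfsgLib.PushUpB.Piece
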