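import Cfsg.Agent.PMinFF.Generate
import Cfsg.Agent.PMinFF.QBridge
import Cfsg.Agent.PLocal.Thompson
import Cfsg.Agent.CharP.LargestPReduced
import Cfsg.Agent.LocalB.BaumannBlock
import Cfsg.Agent.SelfThree.Tools

/-!
Pushing up in `p`-minimal groups: the standing data.
-/

set_option autoImplicit false
set_option linter.style.haveILetI false
set_option linter.unusedSectionVars false

namespace CfsgLib.PushUpB

open Subgroup CfsgLib.PMinFF CfsgLib.OffGen
open CfsgLib.Thompson (maxIn)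

universe u

variable {G : Type u} [Group G]

/-- `Ω₁(Z(O_p(G)))`. -/
abbrev Vo (p : ℕ) (G : Type u) [Group G] : Subgroup G :=
  Cfsg.omegaOneCenter p (Cfsg.pCore p G)

/-- `Ω₁(Z(J(T)))`. -/
abbrev Yt (p : ℕ) (T : Subgroup G) : Subgroup G := Cfsg.omegaOne p (Cfsg.centerThompsonOf p T)

/-- `O_p(G) ∩ B(T)`. -/
abbrev Qz (p : ℕ) (T : Subgroup G) : Subgroup G :=
  Cfsg.pCore p G ⊓ Cfsg.baumannSubgroupOf p T

/-- The subgroup generated by the conjugates of `B(T)`. -/
abbrev Lt (p : ℕ) (T : Subgroup G) : Subgroup G := Cfsg.thompsonSubgroup p G ⊔ Qz p T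

variable [Finite G] {p : ℕ} [Fact p.Prime]

/-- The quotient on `Ω₁(Z(O_p(G)))` with its blocks. -/
structure PU (T : Sylow p G) (M : Subgroup G) {P : Type u} [Group P] [Finite P] (π : G →* P)
    {W : Type u} [AddCommGroup W] [Finite W] [DistribMulAction P W] (e : W ≃ Vo p G)
    (T' : Sylow p P) (𝓔 : Set (Subgroup P)) : Prop where
  hG : centralizer (Cfsg.pCore p G : Set G) ≤ Cfsg.pCore p G
  hover : CfsgLib.PMin.Over (T : Subgroup G) M
  cstar : Cfsg.cStarOf p (T : Subgroup G) ≤ M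
  hchar : ∀ C : Subgroup G, C ≤ Cfsg.baumannSubgroupOf p (T : Subgroup G) → C ≠ ⊥ →
    (C.subgroupOf (Cfsg.baumannSubgroupOf p (T : Subgroup G))).Characteristic → ¬ C.Normal
  quot : IsQuotModule (Vo p G) π e
  hT' : (T' : Subgroup P) = (T : Subgroup G).map π
  hyp : Hyp W p T' (M.map π)
  blk : Blocks W p T' 𝓔
  inf_C : (T : Subgroup G) ⊓ π.ker ≤ Cfsg.pCore p G
  image : (Cfsg.thompsonSubgroup p G).map π = sSup 𝓔
  ker_le : π.ker ≤ M

theorem elab_Vo : Cfsg.IsElementaryAbelian p (Vo p G) :=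
  CfsgLib.Thompson.elab_omegaOne fun _ hx _ hy => mem_centralizer_iff.1 hy.2 _ hx.1

theorem mem_omegaOneCenter {U : Subgroup G} {x : G} (h : x ∈ Cfsg.omegaOneCenter p U) :
    x ∈ U ∧ (∀ u ∈ U, u * x = x * u) ∧ x ^ p = 1 :=
  ⟨(CfsgLib.Thompson.omegaOne_le _ h).1,
    mem_centralizer_iff.1 (CfsgLib.Thompson.omegaOne_le _ h).2,
    CfsgLib.Baumann.exponent_omegaOneCenter.2 x h⟩

theorem Vo_normal : (Vo p G).Normal := by
  haveI : (Cfsg.pCore p G).Normal := CfsgLib.Solvable.pCore_normal p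
  haveI : (Cfsg.pCore p G ⊓ centralizer (Cfsg.pCore p G : Set G)).Normal :=
    Subgroup.normal_inf_normal _ _
  refine ⟨fun x hx g => ?_⟩
  have h1 := Subgroup.mem_map_of_mem (MulAut.conj g).toMonoidHom hx
  rw [Vo, Cfsg.omegaOneCenter, CfsgLib.Thompson.map_omegaOne _ (MulAut.conj g).injective] at h1
  refine CfsgLib.Thompson.omegaOne_mono ?_ h1
  rintro _ ⟨z, hz, rfl⟩
  exact Subgroup.Normal.conj_mem inferInstance z hz g

theorem pCore_le_centralizer_Vo :
    Cfsg.pCore p G ≤ centralizer (Vo p G : Set G) := fun q hq => mem_centralizer_iff.2 fun _ hv =>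
  ((mem_omegaOneCenter hv).2.1 q hq).symm

theorem thompsonOf_baumann (T : Subgroup G) :
    Cfsg.thompsonSubgroupOf p (Cfsg.baumannSubgroupOf p T) = Cfsg.thompsonSubgroupOf p T := by
  have hJB := CfsgLib.Baumann.thompson_le_baumann (p := p) T
  have hBT : Cfsg.baumannSubgroupOf p T ≤ T := inf_le_left
  obtain ⟨A, hA⟩ := CfsgLib.Thompson.exists_maxIn (p := p) T
  have hAB : A ≤ Cfsg.baumannSubgroupOf p T := le_trans (by
    rw [CfsgLib.Thompson.thompsonSubgroupOf_eq]; exact le_sSup hA) hJB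
  refine le_antisymm (CfsgLib.Thompson.thompsonSubgroupOf_mono hBT hA hAB) ?_
  rw [CfsgLib.Thompson.thompsonSubgroupOf_eq, CfsgLib.Thompson.thompsonSubgroupOf_eq]
  refine sSup_le_sSup fun D hD => ⟨le_trans (by
    rw [CfsgLib.Thompson.thompsonSubgroupOf_eq]; exact le_sSup hD) hJB, hD.2.1,
    fun E hE hE' => hD.2.2 E (hE.trans hBT) hE'⟩

theorem thompson_char_baumann (T : Subgroup G) :
    ((Cfsg.thompsonSubgroupOf p T).subgroupOf (Cfsg.baumannSubgroupOf p T)).Characteristic := by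
  rw [← thompsonOf_baumann, Cfsg.thompsonSubgroupOf, Subgroup.subgroupOf,
    Subgroup.comap_map_eq_self_of_injective (Subgroup.subtype_injective _)]
  infer_instance

theorem Z_le_Vo (T : Sylow p G)
    (hG : centralizer (Cfsg.pCore p G : Set G) ≤ Cfsg.pCore p G) :
    Cfsg.omegaOneCenter p (T : Subgroup G) ≤ Vo p G :=
  CfsgLib.Thompson.omegaOne_mono fun _ hz =>
    have h1 := Subgroup.centralizer_le (CfsgLib.Fitting.pCore_le_sylow T) hz.2
    ⟨hG h1, h1⟩

/-- The standing data exists. -/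
theorem exists_pu (hmin : Cfsg.IsPMinimal p G)
    (hG : centralizer (Cfsg.pCore p G : Set G) ≤ Cfsg.pCore p G) (T : Sylow p G)
    (hchar : ∀ C : Subgroup G, C ≤ Cfsg.baumannSubgroupOf p (T : Subgroup G) → C ≠ ⊥ →
      (C.subgroupOf (Cfsg.baumannSubgroupOf p (T : Subgroup G))).Characteristic → ¬ C.Normal)
    (hz : ¬ (Cfsg.omegaOneCenter p (T : Subgroup G)).Normal) :
    ∃ (M : Subgroup G) (P : Type u) (_ : Group P) (_ : Finite P) (π : G →* P) (W : Type u)
      (_ : AddCommGroup W) (_ : Finite W) (_ : DistribMulAction P W) (e : W ≃ Vo p G)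
      (T' : Sylow p P) (𝓔 : Set (Subgroup P)), PU T M π e T' 𝓔 := by
  classical
  set Q := Cfsg.pCore p G with hQ
  set V := Vo p G with hVdef
  haveI hQn : Q.Normal := CfsgLib.Solvable.pCore_normal p
  haveI hVn : V.Normal := Vo_normal
  have hVel : Cfsg.IsElementaryAbelian p V := elab_Vo
  have hQT : Q ≤ (T : Subgroup G) := CfsgLib.Fitting.pCore_le_sylow T
  have hVle : V ≤ Q ⊓ centralizer (Q : Set G) := CfsgLib.Thompson.omegaOne_le _
  set C := centralizer (V : Set G) with hC
  have hQC : Q ≤ C := pCore_le_centralizer_Vo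
  have hVC : V ≤ C := (hVle.trans inf_le_left).trans hQC
  obtain ⟨hTn, M, ⟨hM, hTM⟩, -⟩ := hmin T
  have hover := CfsgLib.PMin.over_of_isPMinimal hmin T hM hTM
  set Z := Cfsg.omegaOneCenter p (T : Subgroup G) with hZ
  set J := Cfsg.thompsonSubgroupOf p (T : Subgroup G) with hJdef
  set B := Cfsg.baumannSubgroupOf p (T : Subgroup G) with hBdef
  have hTZ : (T : Subgroup G) ≤ centralizer (Z : Set G) := fun t ht =>
    mem_centralizer_iff.2 fun z hz => ((mem_omegaOneCenter hz).2.1 t ht).symm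
  have hCZ : centralizer (Z : Set G) ≤ M := (hover.2.2 _ hTZ).resolve_left fun h => hz (by
    refine ⟨fun z hz g => ?_⟩
    have hg : g ∈ centralizer (Z : Set G) := h ▸ mem_top g
    rwa [← mem_centralizer_iff.1 hg z hz, mul_inv_cancel_right])
  have hTB : (T : Subgroup G) ≤ normalizer (B : Set G) :=
    CfsgLib.Baumann.le_normalizer_baumann T T.isPGroup' inf_le_left
  have hcs : Cfsg.cStarOf p (T : Subgroup G) ≤ M := sup_le hCZ (iSup_le fun ⟨D, hDB, hD, hDc⟩ => by
    haveI := hDc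
    refine (hover.2.2 _ (hTB.trans ((CfsgLib.SelfThree.normalizer_le_of_char (D.subgroupOf B)).trans
      (le_of_eq (by rw [Subgroup.subgroupOf_map_subtype, inf_eq_left.2 hDB]))))).resolve_left
      fun h => hchar D hDB hD hDc (Subgroup.normalizer_eq_top_iff.1 h))
  have hZV : Z ≤ V := Z_le_Vo T hG
  have hCM : C ≤ M := (centralizer_le hZV).trans hCZ
  have hnorm : ∀ D : Subgroup G, D.Normal → D ≤ M → (T : Subgroup G) ⊓ D ≤ Q := by
    intro D hD hDM
    haveI := hD
    refine CfsgLib.Solvable.le_pCore p ?_ (T.isPGroup'.to_le inf_le_left)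
    rw [← Subgroup.normalizer_eq_top_iff]
    refine (hover.2.2 _ (CfsgLib.CharP.sylow_le_normalizer_inf T D
      Subgroup.le_normalizer_of_normal)).resolve_right fun h => hover.2.1 (top_le_iff.1 ?_)
    rw [← CfsgLib.CharP.normalizer_inf_sup T D]
    exact sup_le h hDM
  set π := QuotientGroup.mk' C with hπ
  have hπs : Function.Surjective π := QuotientGroup.mk'_surjective C
  obtain ⟨W, iW, iWf, iA, e, hadd, hsmul⟩ := exists_quot_module V hVel.1
  have he : IsQuotModule V π e := ⟨hadd, hsmul, hπs, QuotientGroup.ker_mk' _⟩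
  let T' : Sylow p (G ⧸ C) := T.mapSurjective hπs
  have hT' : (T' : Subgroup (G ⧸ C)) = (T : Subgroup G).map π := rfl
  have hcomapM : (M.map π).comap π = M := by
    rw [Subgroup.comap_map_eq, QuotientGroup.ker_mk', sup_eq_left.2 hCM]
  have hover' : CfsgLib.PMin.Over (T' : Subgroup (G ⧸ C)) (M.map π) := by
    refine ⟨Subgroup.map_mono hTM, fun h => hover.2.1 ?_, fun Y hY => ?_⟩
    · rw [← hcomapM, h, Subgroup.comap_top]
    · rcases hover.2.2 (Y.comap π) (Subgroup.map_le_iff_le_comap.1 hY) with h | h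
      · left; rw [← Subgroup.map_comap_eq_self_of_surjective hπs Y, h,
          Subgroup.map_top_of_surjective π hπs]
      · right; rw [← Subgroup.map_comap_eq_self_of_surjective hπs Y]; exact Subgroup.map_mono h
  have H : Hyp W p T' (M.map π) :=
    { exp := he.elem_exp hVel.2
      faithful := he.faithful
      hover := hover'
      core := by
        set N := Cfsg.pCore p (G ⧸ C) with hN
        haveI : N.Normal := CfsgLib.Solvable.pCore_normal p
        set D := N.comap π with hD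
        haveI hDn : D.Normal := Subgroup.Normal.comap inferInstance π
        have hNT : N ≤ (T : Subgroup G).map π := CfsgLib.Fitting.pCore_le_sylow T'
        have hDle : D ≤ (T : Subgroup G) ⊔ C := by
          rw [← QuotientGroup.ker_mk' C, ← Subgroup.comap_map_eq]
          exact Subgroup.comap_mono hNT
        have h1 : (T : Subgroup G) ⊓ D ≤ C :=
          (hnorm D hDn (hDle.trans (sup_le hTM hCM))).trans hQC
        rw [eq_bot_iff]
        intro x hx
        obtain ⟨g, hg⟩ := hπs x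
        have hgD : g ∈ D := Subgroup.mem_comap.2 (by rwa [hg])
        obtain ⟨t, ht, c, hc, rfl⟩ := Subgroup.mem_sup_of_normal_right.1 (hDle hgD)
        have hcD : c ∈ D := Subgroup.mem_comap.2 (by
          rw [show π c = 1 from (QuotientGroup.eq_one_iff c).2 hc]; exact one_mem N)
        have htD : t ∈ D := (D.mul_mem_cancel_right hcD).1 hgD
        rw [Subgroup.mem_bot, ← hg]
        exact (QuotientGroup.eq_one_iff _).2 (mul_mem (h1 ⟨ht, htD⟩) hc)
      nt := fun h => hTn (by
        rw [hT', Subgroup.map_eq_bot_iff, QuotientGroup.ker_mk'] at h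
        have h1 := hnorm C inferInstance hCM
        rw [inf_eq_left.2 h] at h1
        rw [le_antisymm h1 hQT]
        exact hQn)
      cent := fun g hg => by
        obtain ⟨a, rfl⟩ := hπs g
        refine Subgroup.mem_map_of_mem π (hCZ
          (Subgroup.mem_centralizer_iff.2 fun z hz => ?_))
        obtain ⟨x, rfl⟩ := he.exists_of_mem (hZV hz)
        refine (he.smul_eq_iff.1 (hg x ?_)).symm
        rintro - ⟨t, ht, rfl⟩
        exact he.smul_eq_iff.2 (Subgroup.mem_centralizer_iff.1 (hTZ ht) _ hz).symm }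
  have hJ : J = sSup (maxIn p (T : Subgroup G)) := CfsgLib.Thompson.thompsonSubgroupOf_eq _
  obtain ⟨A, hA, hAC⟩ : ∃ A ∈ maxIn p (T : Subgroup G), ¬ A ≤ C := by
    by_contra hcon
    push Not at hcon
    have hRQ : (T : Subgroup G) ⊓ C ≤ Q := hnorm C inferInstance hCM
    have hR : ∀ A ∈ maxIn p (T : Subgroup G), A ≤ Q :=
      fun A hA => (le_inf hA.1 (hcon A hA)).trans hRQ
    refine hchar J (CfsgLib.Baumann.thompson_le_baumann _) (fun hbot => ?_)
      (thompson_char_baumann _) ⟨fun j hj g => ?_⟩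
    · obtain ⟨A, hA⟩ := CfsgLib.Thompson.exists_maxIn (p := p) (T : Subgroup G)
      have hA0 : A ≤ ⊥ := hbot ▸ hJ ▸ le_sSup hA
      have h1 := hA.2.2 V ((hVle.trans inf_le_left).trans hQT) hVel
      rw [le_bot_iff.1 hA0, Subgroup.card_bot] at h1
      have hV1 : V = ⊥ := Subgroup.eq_bot_of_card_le V h1
      refine hz ?_
      rw [le_bot_iff.1 (hV1 ▸ hZV : Z ≤ ⊥)]
      infer_instance
    · have h1 : cj g J ≤ J := by
        rw [hJ, cj_le_iff, sSup_le_iff]
        intro A hA
        rw [← cj_le_iff]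
        refine le_sSup ⟨?_, CfsgLib.Thompson.elab_map _ hA.2.1, fun B hB hB' => ?_⟩
        · rintro - ⟨a, ha, rfl⟩
          exact hQT (hQn.conj_mem a (hR A hA ha) g)
        · rw [card_cj]; exact hA.2.2 B hB hB'
      exact h1 (conj_mem_cj hj)
  have hVT : V ≤ (T : Subgroup G) := (hVle.trans inf_le_left).trans hQT
  have hoff : ∀ A ∈ maxIn p (T : Subgroup G), ¬ A ≤ C →
      Elem p (A.map π) ∧ A.map π ≠ ⊥ ∧ Nat.card W ≤ meas W (A.map π) := by
    rintro A ⟨hAT, hAel, hAmax⟩ hAC
    refine he.offender (fun a ha b hb => CfsgLib.Thompson.elab_commute hAel ha hb) hAel.2 hAC ?_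
    have hc : A ⊓ C ≤ centralizer (V : Set G) := inf_le_right
    have hel := CfsgLib.Thompson.elab_sup (CfsgLib.Thompson.elab_mono hAel inf_le_left) hVel hc
    have h1 := hAmax _ (sup_le (inf_le_left.trans hAT) hVT) hel
    have h2 := CfsgLib.Solvable.card_sup_mul_card_inf (A := A ⊓ C) (K := V)
      Subgroup.le_normalizer_of_normal
    rw [inf_assoc, inf_eq_right.2 hVC] at h2
    rw [mul_comm (Nat.card V), ← h2]
    exact Nat.mul_le_mul_right _ h1
  obtain ⟨hel, hAne, hm⟩ := hoff A hA hAC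
  obtain ⟨B₀, hBA, hB₀, -⟩ := exists_mem_le H.exp H.faithful hel hAne hm
  obtain ⟨𝓔, hb⟩ := H.exists_blocks hB₀
  haveI := hb.normal
  set N := sSup 𝓔 with hNdef
  have hAmax : A ∈ Cfsg.maxElementaryAbelianSubgroups p G := by
    refine ⟨hA.2.1, fun D hD => ?_⟩
    obtain ⟨R, hR⟩ := (CfsgLib.Thompson.elab_isPGroup hD).exists_le_sylow
    obtain ⟨g, hg⟩ := MulAction.exists_smul_eq G R T
    rw [← card_cj g D]
    exact hA.2.2 _ (hg ▸ (smul_coe g R).symm ▸ cj_mono g hR) (CfsgLib.Thompson.elab_map _ hD)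
  have hJG : (Cfsg.thompsonSubgroup p G).map π = N := by
    refine le_antisymm ?_ ?_
    · rw [Subgroup.map_le_iff_le_comap]
      refine sSup_le fun D hD => ?_
      obtain ⟨R, hR⟩ := (CfsgLib.Thompson.elab_isPGroup hD.1).exists_le_sylow
      obtain ⟨g, hg⟩ := MulAction.exists_smul_eq G R T
      have hgD : cj g D ∈ maxIn p (T : Subgroup G) :=
        ⟨hg ▸ (smul_coe g R).symm ▸ cj_mono g hR, CfsgLib.Thompson.elab_map _ hD.1,
          fun K _ hK => by rw [card_cj]; exact hD.2 K hK⟩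
      have hle : (cj g D).map π ≤ N := by
        by_cases hDC : cj g D ≤ C
        · refine (Subgroup.map_mono hDC).trans ?_
          rw [hπ, QuotientGroup.map_mk'_self]
          exact bot_le
        · obtain ⟨e1, -, e3⟩ := hoff _ hgD hDC
          exact H.offender_le hb e1 (Subgroup.map_mono hgD.1) e3
      intro d hd
      have h1 : π (g * d * g⁻¹) ∈ N := hle (Subgroup.mem_map_of_mem π (conj_mem_cj hd))
      have h2 := hb.normal.conj_mem _ h1 (π g⁻¹)
      simpa [mul_assoc] using h2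
    · haveI : ((Cfsg.thompsonSubgroup p G).map π).Normal := Subgroup.Normal.map inferInstance π hπs
      exact H.le_normal hb hB₀
        (hBA.trans (Subgroup.map_mono (CfsgLib.Thompson.le_thompsonSubgroup hAmax)))
  refine ⟨M, G ⧸ C, inferInstance, inferInstance, π, W, iW, iWf, iA, e, T', 𝓔,
    hG, hover, hcs, hchar, he, hT', H, hb, ?_, hJG, ?_⟩
  · rw [hπ, QuotientGroup.ker_mk']; exact hnorm C inferInstance hCM
  · rw [hπ, QuotientGroup.ker_mk']; exact hCM

end CfsgLib.PushUpB
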