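import Cfsg.Agent.PushUpB.BlockSL
import Cfsg.Agent.PushUpB.BlockPermData
import Cfsg.Agent.PushUpB.Degree
import Cfsg.Agent.LocalB.BlockCompare

/-!
Pushing up in `p`-minimal groups: the block structure.
-/

set_option autoImplicit false
set_option linter.style.haveILetI false
set_option linter.unusedSectionVars false

namespace CfsgLib.PushUpB

open Subgroup Matrix CfsgLib.PMinFF CfsgLib.OffGen
open scoped commutatorElement

universe u

variable {G : Type u} [Group G] [Finite G] {p : ℕ} [Fact p.Prime] {T : Sylow p G} {M : Subgroup G}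
  {P : Type u} [Group P] [Finite P] {π : G →* P} {W : Type u} [AddCommGroup W] [Finite W]
  [DistribMulAction P W] {e : W ≃ Vo p G} {T' : Sylow p P} {𝓔 : Set (Subgroup P)}
  {E : Subgroup P}

namespace PU

variable (D : PU T M π e T' 𝓔)
include D

/-- Everything known about one block. -/
theorem block_data (hE : E ∈ 𝓔) : Cfsg.IsBaumannBlock p (T : Subgroup G) (blG T π E) ∧
    (∀ g ∈ blG T π E, (∀ b ∈ Cfsg.baumannSubgroupOf p (T : Subgroup G), b ∈ dom T π E →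
      g * b * g⁻¹ ∈ M) → g ∈ Cfsg.cStarOf p (T : Subgroup G)) ∧
    (∀ m : ℕ, Nonempty (↥(blG T π E) ⧸ Cfsg.pCore p ↥(blG T π E) ≃*
      ↥(alternatingGroup (Fin (2 * m + 1)))) → ∃ n : ℕ, 2 * m + 1 = 2 ^ n + 1) ∧
    ((∃ (F : Type) (_ : Field F) (_ : Fintype F) (m : ℕ), 3 < p ^ m ∧ Fintype.card F = p ^ m ∧
        Nonempty (↥(blG T π E) ⧸ Cfsg.pCore p ↥(blG T π E) ≃* SpecialLinearGroup (Fin 2) F) ∧
        Cfsg.cStarOf p (T : Subgroup G) ⊓ blG T π E = blG T π E ⊓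
          normalizer (((T : Subgroup G) ⊓ blG T π E : Subgroup G) : Set G)) ∨
      (p = 2 ∧ ∃ m : ℕ, Nonempty (↥(blG T π E) ⧸ Cfsg.pCore p ↥(blG T π E) ≃*
          ↥(alternatingGroup (Fin (2 * m + 1)))) ∧
        Nonempty (↥(((Cfsg.cStarOf p (T : Subgroup G) ⊓ blG T π E).subgroupOf (blG T π E)).map
          (QuotientGroup.mk' (Cfsg.pCore p ↥(blG T π E)))) ≃* ↥(alternatingGroup (Fin (2 * m))))) ∨
      (p = 3 ∧ Nonempty (↥(blG T π E) ⧸ Cfsg.pCore p ↥(blG T π E) ≃*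
          ↥(commutator (SpecialLinearGroup (Fin 2) (ZMod 3)))) ∧
        ((Cfsg.cStarOf p (T : Subgroup G) ⊓ blG T π E).subgroupOf (blG T π E)).map
          (QuotientGroup.mk' (Cfsg.pCore p ↥(blG T π E))) =
            Subgroup.center (↥(blG T π E) ⧸ Cfsg.pCore p ↥(blG T π E)))) := by
  rcases D.blk.nat E hE with h | ⟨hP, hI, hd⟩
  · obtain ⟨F, iF, iFt, ⟨Λ⟩⟩ := D.loc_sl hE h
    obtain ⟨X, hX⟩ := D.exists_LX Λ
    obtain ⟨h1, h2, ⟨K, iK, iKt, ⟨i⟩⟩, h3⟩ := D.sl_data hE Λ hX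
    refine ⟨h1, h2, fun m ⟨j⟩ => ?_, h3⟩
    rcases sl_alt (i.symm.trans j) with rfl | rfl
    · exact ⟨1, rfl⟩
    · exact ⟨2, rfl⟩
  · obtain ⟨N, ⟨Y⟩⟩ := exists_pmd D.blk hE hP hI hd
    obtain ⟨h1, h2, ⟨i⟩, h3⟩ := D.perm_data hE Y
    refine ⟨h1, h2, fun m ⟨j⟩ => ⟨Y.n, ?_⟩, Or.inr (Or.inl h3)⟩
    refine (alt_degree ?_ (j.symm.trans i)).trans Y.hN
    rw [Y.hN]
    have := Nat.pow_le_pow_right (show 1 ≤ 2 by norm_num) Y.hn
    omega

theorem blG_subnormal (hE : E ∈ 𝓔) : (blG T π E).IsSubnormal := by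
  haveI := D.Lt_normal
  exact .step _ _ blG_le_Lt (.step _ ⊤ le_top .top (Subgroup.Normal.comap inferInstance _))
    (Subgroup.normal_subgroupOf_of_le_normalizer (D.Lt_le_normalizer_blG hE))

theorem blG_commute {E' : Subgroup P} (hE : E ∈ 𝓔) (hE' : E' ∈ 𝓔) (hne : E ≠ E') :
    ⁅blG T π E, blG T π E'⁆ = ⊥ := by
  refine (CfsgLib.BlockCompare.le_or_commute D.hG (D.block_data hE').1 (D.blG_subnormal hE')
    (D.block_data hE).1 (blG_le_Lt.trans (D.Lt_le_normalizer_blG hE'))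
    (D.B_le_Lt.trans (D.Lt_le_normalizer_blG hE'))).resolve_left fun hle => ?_
  refine D.blG_not_le_M hE fun x hx => ?_
  have h1 : π x ∈ E ⊓ oth 𝓔 E := ⟨(mem_dom.1 (blG_le_dom hx)).1,
    (le_sSup (show E' ∈ 𝓔 \ {E} from ⟨hE', fun h => hne (Set.mem_singleton_iff.1 h).symm⟩) : E' ≤ oth 𝓔 E)
      (mem_dom.1 (blG_le_dom (hle hx))).1⟩
  rw [D.blk.inf_others D.hyp.faithful hE, mem_bot] at h1
  exact D.hover.1 ((D.Qz_le_core.trans D.Q_le_T) (D.mem_Qz_of_ker (blG_le_Lt hx) h1))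

theorem sSup_bset_le_Lt : sSup (bset T π 𝓔) ≤ Lt p (T : Subgroup G) :=
  sSup_le fun _ ⟨_, _, hF⟩ => hF ▸ blG_le_Lt

theorem inf_sSup_le : Cfsg.cStarOf p (T : Subgroup G) ⊓ sSup (bset T π 𝓔) ≤
    ⨆ F ∈ bset T π 𝓔, (Cfsg.cStarOf p (T : Subgroup G) ⊓ F) := by
  classical
  haveI := Fintype.ofFinite (Subgroup P)
  set C := Cfsg.cStarOf p (T : Subgroup G) with hC
  set U := ⨆ F ∈ bset T π 𝓔, (C ⊓ F) with hU
  suffices h : ∀ s : Finset (Subgroup P), (∀ E ∈ s, E ∈ 𝓔) → C ⊓ s.sup (blG T π) ≤ U by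
    refine le_trans (inf_le_inf_left C ?_) (h (Finset.univ.filter (· ∈ 𝓔)) (by simp))
    refine sSup_le ?_
    rintro _ ⟨E, hE, rfl⟩
    exact Finset.le_sup (f := blG T π) (by simp [hE])
  intro s
  induction s using Finset.induction_on with
  | empty => intro _; simp
  | insert E s hEs ih =>
    intro hs
    have hE := hs E (Finset.mem_insert_self _ _)
    have hs' : ∀ E' ∈ s, E' ∈ 𝓔 := fun E' h => hs E' (Finset.mem_insert_of_mem h)
    set R := s.sup (blG T π) with hR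
    rintro g ⟨hgC, hg⟩
    rw [Finset.sup_insert] at hg
    have hn : blG T π E ≤ normalizer (R : Set G) := by
      intro x hx
      refine mem_normalizer_of_le ?_
      rw [cj_le_iff, hR, Finset.sup_le_iff]
      intro E' hE'
      rw [← cj_le_iff]
      rintro _ ⟨y, hy, rfl⟩
      have hxy : x * y = y * x := by
        have := commutator_eq_bot_iff_le_centralizer.1
          (D.blG_commute hE (hs' E' hE') (fun h => hEs (h ▸ hE'))) hx
        exact (mem_centralizer_iff.1 this y hy).symm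
      refine (Finset.le_sup (f := blG T π) hE' : blG T π E' ≤ R) ?_
      simp only [MulEquiv.coe_toMonoidHom, MulAut.conj_apply]
      rwa [hxy, mul_inv_cancel_right]
    obtain ⟨x, hx, r, hr, rfl⟩ := (CfsgLib.Solvable.mem_sup_of_le_normalizer hn).1 hg
    have hRL : R ≤ Lt p (T : Subgroup G) := Finset.sup_le fun E' _ => blG_le_Lt
    have hπR : ∀ z ∈ R, ∀ y ∈ E, π z * y = y * π z := by
      intro z hz y hy
      have hle : R ≤ (centralizer (E : Set P)).comap π := Finset.sup_le fun E' hE' w hw =>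
        mem_comap.2 (mem_centralizer_iff.2 fun v hv =>
          D.blk.comm E hE E' (hs' E' hE') (fun h => hEs (h ▸ hE')) v hv _
            (mem_dom.1 (blG_le_dom hw)).1)
      exact (mem_centralizer_iff.1 (mem_comap.1 (hle hz)) y hy).symm
    have hxC : x ∈ C := by
      refine (D.block_data hE).2.1 x hx fun b hb hbd => ?_
      have hbM : b ∈ M := D.hover.1 hb.1
      have hz : r * b * r⁻¹ * b⁻¹ ∈ Qz p (T : Subgroup G) := D.mem_Qz_of_ker
        (mul_mem (mul_mem (mul_mem (hRL hr) hbd.2) (inv_mem (hRL hr))) (inv_mem hbd.2)) (by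
          simp only [map_mul, map_inv]
          rw [hπR r hr _ (mem_dom.1 hbd).1, mul_inv_cancel_right, mul_inv_cancel])
      have h1 := (D.Qz_normal).conj_mem _ (inv_mem hz) x
      have h2 : (x * r) * b * (x * r)⁻¹ ∈ M :=
        M.mul_mem (M.mul_mem (D.cstar hgC) hbM) (M.inv_mem (D.cstar hgC))
      have h3 := M.mul_mem (((D.Qz_le_core.trans D.Q_le_T).trans D.hover.1) h1) h2
      rwa [show x * (r * b * r⁻¹ * b⁻¹)⁻¹ * x⁻¹ * (x * r * b * (x * r)⁻¹) = x * b * x⁻¹ by group]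
        at h3
    have hrC : r ∈ C := (C.mul_mem_cancel_left hxC).1 hgC
    exact mul_mem ((le_iSup₂_of_le (blG T π E) ⟨E, hE, rfl⟩ le_rfl : C ⊓ blG T π E ≤ U) ⟨hxC, hx⟩)
      (ih hs' ⟨hrC, hr⟩)

theorem absorb {F : Subgroup G} (hF : Cfsg.IsBaumannBlock p (T : Subgroup G) F) :
    ∃ F' ∈ bset T π 𝓔, F ≤ F' := by
  haveI := D.sSup_bset_normal
  set S := sSup (bset T π 𝓔) with hS
  have hFS : F ≤ S := CfsgLib.Baumann.residual_induction hF.1 _ fun x _ hx => D.coprime_mem_bset hx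
  by_contra hno
  push Not at hno
  have hFc : S ≤ centralizer (F : Set G) := by
    refine sSup_le ?_
    rintro _ ⟨E, hE, rfl⟩
    have hFL : F ≤ Lt p (T : Subgroup G) := hFS.trans D.sSup_bset_le_Lt
    have := (CfsgLib.BlockCompare.le_or_commute D.hG (D.block_data hE).1 (D.blG_subnormal hE) hF
      (hFL.trans (D.Lt_le_normalizer_blG hE))
      (D.B_le_Lt.trans (D.Lt_le_normalizer_blG hE))).resolve_left (hno _ ⟨E, hE, rfl⟩)
    rw [commutator_comm] at this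
    exact commutator_eq_bot_iff_le_centralizer.1 this
  set Z := S ⊓ centralizer (S : Set G) with hZ
  haveI : Z.Normal := Subgroup.normal_inf_normal _ _
  have hFZ : F ≤ Z := le_inf hFS fun f hf => mem_centralizer_iff.2 fun s hs =>
    (mem_centralizer_iff.1 (hFc hs) f hf).symm
  have hbot : F = ⊥ := le_bot_iff.1 (CfsgLib.Baumann.residual_induction hF.1 _ fun f hf hco => by
    have hfC : f ∈ centralizer (Cfsg.pCore p G : Set G) := mem_centralizer_iff.2 fun q hq => by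
      have hd : f * q * f⁻¹ * q⁻¹ ∈ Cfsg.pCore p G :=
        mul_mem ((Q_normal).conj_mem q hq f) (inv_mem hq)
      have hdZ : f * q * f⁻¹ * q⁻¹ ∈ Z := by
        rw [show f * q * f⁻¹ * q⁻¹ = f * (q * f⁻¹ * q⁻¹) by group]
        exact mul_mem (hFZ hf) ((inferInstance : Z.Normal).conj_mem _ (inv_mem (hFZ hf)) q)
      exact (PushL2.commute_of_shift' hco rfl hd (mem_centralizer_iff.1 hdZ.2 f (hFS hf))).symm
    obtain ⟨k, hk⟩ := (CfsgLib.Solvable.isPGroup_pCore p : IsPGroup p (Cfsg.pCore p G)) ⟨f, D.hG hfC⟩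
    have h1 : f ^ p ^ k = 1 := congrArg Subtype.val hk
    rw [mem_bot, ← orderOf_eq_one_iff]
    exact Nat.eq_one_of_dvd_coprimes (hco.pow_right k) dvd_rfl (orderOf_dvd_of_pow_eq_one h1))
  exact hF.2.2.2.1 (by rw [hbot, commutator_bot_left])

/-- The block structure. -/
theorem structure_thm : ∃ 𝓑 : Set (Subgroup G),
    Cfsg.HasBaumannBlockStructure p (T : Subgroup G) 𝓑 ∧
      (∀ E ∈ 𝓑, ∀ m : ℕ, Nonempty (↥E ⧸ Cfsg.pCore p ↥E ≃* ↥(alternatingGroup (Fin (2 * m + 1)))) →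
        ∃ n : ℕ, 2 * m + 1 = 2 ^ n + 1) ∧
      Cfsg.cStarOf p (T : Subgroup G) =
        (Cfsg.cStarOf p (T : Subgroup G) ⊓ sSup 𝓑) ⊔ (T : Subgroup G) := by
  set C := Cfsg.cStarOf p (T : Subgroup G) with hC
  refine ⟨bset T π 𝓔, ⟨?_, ?_, ?_, ?_, fun F hF _ => D.absorb hF, ?_, ?_⟩, ?_, ?_⟩
  · rintro _ ⟨E, hE, rfl⟩; exact (D.block_data hE).1
  · rintro _ ⟨E, hE, rfl⟩ g; exact D.cj_blG_mem hE g
  · rintro _ ⟨E, hE, rfl⟩ _ ⟨E', hE', rfl⟩ hne
    exact D.blG_commute hE hE' fun h => hne (by rw [h])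
  · exact top_le_iff.1 (D.bset_sup_T.ge.trans (sup_le le_sup_right (D.T_le_cStar.trans le_sup_left)))
  · exact le_antisymm D.inf_sSup_le
      (iSup₂_le fun F hF => inf_le_inf_left _ (le_sSup hF))
  · rintro _ ⟨E, hE, rfl⟩; exact (D.block_data hE).2.2.2
  · rintro _ ⟨E, hE, rfl⟩; exact (D.block_data hE).2.2.1
  · refine le_antisymm (fun g hg => ?_) (sup_le inf_le_left D.T_le_cStar)
    haveI := D.sSup_bset_normal
    obtain ⟨s, hs, t, ht, rfl⟩ := mem_sup_of_normal_left.1 (D.bset_sup_T.ge (mem_top g))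
    exact mul_mem (mem_sup_left ⟨(C.mul_mem_cancel_right (D.T_le_cStar ht)).1 hg, hs⟩)
      (mem_sup_right ht)

end PU

end CfsgLib.PushUpB
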