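import Cfsg.Agent.PushUpB.PermData

/-!
Pushing up: the image of `J(T)` on each block.
-/

set_option autoImplicit false
set_option linter.style.haveILetI false
set_option linter.unusedSectionVars false

namespace CfsgLib.PushUpB

open Subgroup CfsgLib.PMinFF CfsgLib.OffGen CfsgLib.BlockPermCombi
open CfsgLib.Thompson (maxIn)

universe u

variable {G : Type u} [Group G] [Finite G] {p : ℕ} [Fact p.Prime] {T : Sylow p G} {M : Subgroup G}
  {P : Type u} [Group P] [Finite P] {π : G →* P} {W : Type u} [AddCommGroup W] [Finite W]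
  [DistribMulAction P W] {e : W ≃ Vo p G} {T' : Sylow p P} {𝓔 : Set (Subgroup P)}

/-- The image of `J(T)`. -/
abbrev Jb (T : Sylow p G) (π : G →* P) : Subgroup P :=
  (Cfsg.thompsonSubgroupOf p (T : Subgroup G)).map π

variable {N : ℕ}

theorem pairs_le_closure (Sw : Set (Equiv.Perm (Fin N)))
    (hdis : ∀ a b c, a ≠ b → a ≠ c → Equiv.swap a b ∈ Sw → Equiv.swap a c ∈ Sw → b = c)
    (σ : Equiv.Perm (Fin N))
    (hpair : ∀ a b, a ≠ b → Equiv.swap a b ∈ Sw → σ a = a ∨ σ a = b)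
    (hcov : ∀ a, σ a ≠ a → ∃ b, a ≠ b ∧ Equiv.swap a b ∈ Sw) : σ ∈ closure Sw := by
  classical
  suffices h : ∀ k : ℕ, ∀ τ : Equiv.Perm (Fin N), τ.support.card ≤ k →
      (∀ a, τ a ≠ a → ∃ b, a ≠ b ∧ Equiv.swap a b ∈ Sw ∧ τ a = b ∧ τ b = a) →
      τ ∈ closure Sw by
    refine h _ σ le_rfl fun a ha => ?_
    obtain ⟨b, hab, hsw⟩ := hcov a ha
    have hσa : σ a = b := (hpair a b hab hsw).resolve_left ha
    refine ⟨b, hab, hsw, hσa, (hpair b a hab.symm (by rwa [Equiv.swap_comm])).resolve_left ?_⟩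
    intro e
    exact hab (σ.injective (hσa.trans e.symm))
  intro k
  induction k with
  | zero =>
    intro τ hτ _
    rw [Equiv.Perm.support_eq_empty_iff.1 (Finset.card_eq_zero.1 (Nat.le_zero.1 hτ))]
    exact one_mem _
  | succ k ih =>
    intro τ hτ hp
    by_cases h1 : τ = 1
    · rw [h1]; exact one_mem _
    obtain ⟨a, ha⟩ : ∃ a, τ a ≠ a := by
      by_contra hno
      push Not at hno
      exact h1 (Equiv.ext hno)
    obtain ⟨b, hab, hsw, hτa, hτb⟩ := hp a ha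
    have hlt := Equiv.Perm.card_support_swap_mul (f := τ) (x := a) ha
    rw [hτa] at hlt
    have hsame : ∀ x, x ≠ a → x ≠ b → (Equiv.swap a b * τ) x = τ x := fun x hxa hxb => by
      rw [Equiv.Perm.mul_apply]
      refine Equiv.swap_apply_of_ne_of_ne (fun e => hxb ?_) (fun e => hxa ?_)
      · exact τ.injective (e.trans hτb.symm)
      · exact τ.injective (e.trans hτa.symm)
    have hkey : Equiv.swap a b * τ ∈ closure Sw := by
      refine ih _ (by omega) fun x hx => ?_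
      have hxa : x ≠ a := fun e => hx (by rw [e, Equiv.Perm.mul_apply, hτa, Equiv.swap_apply_right])
      have hxb : x ≠ b := fun e => hx (by rw [e, Equiv.Perm.mul_apply, hτb, Equiv.swap_apply_left])
      rw [hsame x hxa hxb] at hx ⊢
      obtain ⟨y, hxy, hs, e1, e2⟩ := hp x hx
      have hya : y ≠ a := fun e => hxb (hdis a b x hab (e ▸ hxy.symm) hsw
        (by rw [← e, Equiv.swap_comm]; exact hs)).symm
      have hyb : y ≠ b := fun e => hxa (hdis b a x hab.symm (e ▸ hxy.symm)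
        (by rwa [Equiv.swap_comm]) (by rw [← e, Equiv.swap_comm]; exact hs)).symm
      exact ⟨y, hxy, hs, e1, by rw [hsame y hya hyb, e2]⟩
    have h2 := mul_mem (subset_closure hsw : Equiv.swap a b ∈ closure Sw) hkey
    rwa [← mul_assoc, Equiv.swap_mul_self, one_mul] at h2

/-- The transpositions of a symmetric block coming from `J(T)`. -/
abbrev Swp (T : Sylow p G) (π : G →* P) {E : Subgroup P} (X : PMD W T' E N) :
    Set (Equiv.Perm (Fin N)) :=
  {σ | ∃ h : E, (h : P) ∈ Jb T π ∧ X.ρ h = σ ∧ σ.IsSwap}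

/-- What each block gives. -/
structure Nice (W : Type u) [AddCommGroup W] [DistribMulAction P W] {p : ℕ} (T' : Sylow p P)
    (𝓔 : Set (Subgroup P)) (J E : Subgroup P) : Prop where
  comp : ∀ j ∈ J, ∃ g, g ∈ J ∧ IsComp 𝓔 E j g
  elem : Elem p (J ⊓ E)
  vec : ∃ v ∈ com W E, v ∈ fix W J ∧ v ∉ fix W E
  inner : ∀ g ∈ (T' : Subgroup P), cj g E = E → (∀ v ∈ fix W J, g • v = v) →
    ∃ u ∈ J ⊓ E, u⁻¹ * g ∈ modFix W E

namespace PU

variable (D : PU T M π e T' 𝓔)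
include D

theorem Jb_le_T : Jb T π ≤ (T' : Subgroup P) := D.hT'.symm ▸ Subgroup.map_mono D.J_le_T

theorem Jb_le_N : Jb T π ≤ sSup 𝓔 := D.image ▸ Subgroup.map_mono D.J_le_JG

theorem J_normalized {t : G} (ht : t ∈ (T : Subgroup G)) :
    cj t (Cfsg.thompsonSubgroupOf p (T : Subgroup G)) =
      Cfsg.thompsonSubgroupOf p (T : Subgroup G) :=
  (CfsgLib.Thompson.map_thompsonSubgroupOf (MulAut.conj t) _).trans
    (congrArg _ (PMinFF.cj_self ht))

theorem Jb_inv {t : P} (ht : t ∈ (T' : Subgroup P)) : cj t (Jb T π) = Jb T π := by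
  refine cj_eq_of_le ?_
  rw [D.hT'] at ht
  obtain ⟨t₀, ht₀, rfl⟩ := ht
  rintro - ⟨-, ⟨j, hj, rfl⟩, rfl⟩
  refine ⟨t₀ * j * t₀⁻¹, (D.J_normalized ht₀).le (conj_mem_cj hj), ?_⟩
  simp

theorem Jb_induction {motive : P → Prop}
    (mem : ∀ A ∈ maxIn p (T : Subgroup G), ∀ a ∈ A.map π, motive a) (one : motive 1)
    (mul : ∀ x ∈ Jb T π, ∀ y ∈ Jb T π, motive x → motive y → motive (x * y))
    (inv : ∀ x ∈ Jb T π, motive x → motive x⁻¹) {j : P} (hj : j ∈ Jb T π) : motive j := by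
  let S : Subgroup P :=
    { carrier := {x | x ∈ Jb T π ∧ motive x}
      one_mem' := ⟨one_mem _, one⟩
      mul_mem' := fun ha hb => ⟨mul_mem ha.1 hb.1, mul _ ha.1 _ hb.1 ha.2 hb.2⟩
      inv_mem' := fun ha => ⟨inv_mem ha.1, inv _ ha.1 ha.2⟩ }
  have hle : Jb T π ≤ S := by
    rw [Jb, CfsgLib.Thompson.thompsonSubgroupOf_eq, sSup_eq_iSup', Subgroup.map_iSup, iSup_le_iff]
    rintro ⟨A, hA⟩ a ha
    refine ⟨?_, mem A hA a ha⟩
    exact Subgroup.map_mono (maxIn_le_thompson hA) ha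
  exact (hle hj).2

theorem exists_mem_Jb : ∀ E ∈ 𝓔, ∃ B, Mem W p B ∧ B ≤ E ∧ B ≤ Jb T π := by
  obtain ⟨A, hA, hAne⟩ : ∃ A ∈ maxIn p (T : Subgroup G), A.map π ≠ ⊥ := by
    by_contra hno
    push Not at hno
    have hN : sSup 𝓔 ≤ ⊥ := by
      rw [← D.image, Subgroup.map_le_iff_le_comap]
      refine sSup_le fun K hK k hk => ?_
      obtain ⟨g, hg⟩ := maxE_conj T hK
      have h1 : π (g * k * g⁻¹) ∈ (⊥ : Subgroup P) :=
        hno _ hg ▸ Subgroup.mem_map_of_mem π (conj_mem_cj hk)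
      rw [Subgroup.mem_bot, map_mul, map_mul, map_inv, mul_inv_eq_one] at h1
      exact mul_eq_left.1 h1
    have h1 := D.blk.top
    rw [le_bot_iff.1 hN, bot_sup_eq] at h1
    exact D.hyp.hover.2.1 (top_le_iff.1 (h1 ▸ D.hyp.hover.1))
  obtain ⟨-, -, hm, hel⟩ := D.trade hA
  obtain ⟨B, hBA, hB, -⟩ := exists_mem_le D.hyp.exp D.hyp.faithful hel hAne hm
  have hBJ : B ≤ Jb T π := hBA.trans (Subgroup.map_mono (maxIn_le_thompson hA))
  obtain ⟨E₀, hE₀, hBE⟩ := D.hyp.mem_block D.blk hB (hBJ.trans D.Jb_le_T)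
  intro E hE
  obtain ⟨t, ht, rfl⟩ := D.blk.trans E₀ hE₀ E hE
  exact ⟨cj t B, hB.cj t, cj_mono t hBE, (cj_mono t hBJ).trans (D.Jb_inv ht).le⟩

theorem fix_com_Jb {E : Subgroup P} (hE : E ∈ 𝓔) {v : W} (hv : v ∈ com W E)
    (h : ∀ j ∈ Jb T π, ∀ g, IsComp 𝓔 E j g → g • v = v) : v ∈ fix W (Jb T π) := fun j hj => by
  obtain ⟨g, hg⟩ := exists_comp D.blk hE (D.Jb_le_N hj)
  rw [comp_eq_smul_com D.blk hE D.hyp hg hv, h j hj g hg]

theorem nice_sl {E : Subgroup P} (hE : E ∈ 𝓔) (hSL : SLBlock W p E) :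
    (T' : Subgroup P) ⊓ E ≤ Jb T π ∧ Nice W T' 𝓔 (Jb T π) E := by
  classical
  obtain ⟨B, hB, hBE, hBJ⟩ := D.exists_mem_Jb E hE
  obtain ⟨hBeq, F, iF, iFt, ⟨X⟩⟩ := exists_sld hSL hB hBE (hBJ.trans D.Jb_le_T)
  have hS : (T' : Subgroup P) ⊓ E ≤ Jb T π := hBeq ▸ hBJ
  haveI : CharP F p := charP_of_card_eq_prime_pow (Fintype.card_eq_nat_card.trans X.card)
  have hvec : ∀ v : W, X.ψ v 1 = 0 → ∃ u ∈ com W E, X.ψ u = X.ψ v ∧ u ∈ fix W (Jb T π) := by
    intro v hv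
    obtain ⟨u, hu, e⟩ := X.onto (X.ψ v)
    refine ⟨u, hu, e, D.fix_com_Jb hE hu fun j hj g hg => ?_⟩
    exact (X.fix_eq u).2 (by rw [e]; exact hv) g
      ⟨comp_mem_T D.blk hE D.hyp (D.Jb_le_T hj) hg, hg.1⟩
  refine ⟨hS, ⟨fun j hj => ?_, hB.elem.mono ?_, ?_, fun g hg hgE hfix => ?_⟩⟩
  · obtain ⟨g, hg⟩ := exists_comp D.blk hE (D.Jb_le_N hj)
    exact ⟨g, hS ⟨comp_mem_T D.blk hE D.hyp (D.Jb_le_T hj) hg, hg.1⟩, hg⟩
  · rw [hBeq]; exact inf_le_inf_right _ D.Jb_le_T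
  · obtain ⟨u₀, hu₀, e₀⟩ := X.onto ![1, 0]
    obtain ⟨u, hu, he, hf⟩ := hvec u₀ (by show X.ψ u₀ 1 = 0; rw [e₀]; rfl)
    refine ⟨u, hu, hf, fun h => ?_⟩
    have := congrFun ((e₀.symm.trans he.symm).trans ((X.ker u).2 h)) 0
    simp at this
  · -- the action on the natural quotient
    have hsurj : Function.Surjective X.ψ := fun y => let ⟨u, _, hu⟩ := X.onto y; ⟨u, hu⟩
    let Mg : (Fin 2 → F) → (Fin 2 → F) := fun y => X.ψ (g • Function.surjInv hsurj y)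
    have hM : ∀ v, X.ψ (g • v) = Mg (X.ψ v) := by
      intro v
      refine sub_eq_zero.1 ((map_sub X.ψ _ _).symm.trans ((X.ker _).2 ?_))
      rw [← smul_sub]
      refine smul_mem_fix_of_normalizes hgE ((X.ker _).1 ?_)
      rw [map_sub, Function.surjInv_eq hsurj, sub_self]
    have hadd : ∀ y z, Mg (y + z) = Mg y + Mg z := fun y z => by
      obtain ⟨v, rfl⟩ := hsurj y
      obtain ⟨w, rfl⟩ := hsurj z
      rw [← map_add, ← hM, ← hM, ← hM, smul_add, map_add]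
    have hinj : Function.Injective Mg := fun y z h => by
      obtain ⟨v, rfl⟩ := hsurj y
      obtain ⟨w, rfl⟩ := hsurj z
      rw [← hM, ← hM, ← sub_eq_zero, ← map_sub, X.ker, ← smul_sub] at h
      have h2 := smul_mem_fix_of_normalizes (g := g⁻¹) (by
        conv_lhs => rw [← hgE]
        exact cj_inv_cj g E) h
      rw [inv_smul_smul, ← X.ker, map_sub, sub_eq_zero] at h2
      exact h2
    have haxis : ∀ y : Fin 2 → F, y 1 = 0 → Mg y = y := fun y hy => by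
      obtain ⟨v, rfl⟩ := hsurj y
      obtain ⟨u, -, he, hf⟩ := hvec v hy
      rw [← he, ← hM, hfix u hf]
    have hconj : ∀ m : Matrix.SpecialLinearGroup (Fin 2) F, ∃ m' : Matrix.SpecialLinearGroup (Fin 2) F,
        ∀ y, Mg ((m : Matrix (Fin 2) (Fin 2) F).mulVec y) =
          (m' : Matrix (Fin 2) (Fin 2) F).mulVec (Mg y) := by
      intro m
      have hmem : g * (X.ρ.symm m : P) * g⁻¹ ∈ E := by
        have := conj_mem_cj (g := g) (X.ρ.symm m).2
        rwa [hgE] at this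
      refine ⟨X.ρ ⟨_, hmem⟩, fun y => ?_⟩
      obtain ⟨v, rfl⟩ := hsurj y
      have h1 := X.equi (X.ρ.symm m) v
      rw [X.ρ.apply_symm_apply] at h1
      rw [← h1, ← hM, ← hM, ← X.equi, ← mul_smul, ← mul_smul, inv_mul_cancel_right]
    obtain ⟨σ, c, k, hform⟩ := semilinear_form Mg hadd hinj (haxis _ rfl) hconj
    have hσ : ∀ x, σ x = x := fun x => by
      have := congrFun ((hform x 0).symm.trans (haxis ![x, 0] rfl)) 0
      simpa using this
    simp only [hσ] at hform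
    have hiter : ∀ (m : ℕ) (v : W), X.ψ (g ^ m • v) 1 = k ^ m * X.ψ v 1 := by
      intro m
      induction m with
      | zero => intro v; simp
      | succ m ih =>
        intro v
        rw [pow_succ', mul_smul, hM, show X.ψ (g ^ m • v) =
          ![X.ψ (g ^ m • v) 0, X.ψ (g ^ m • v) 1] from funext fun i => by fin_cases i <;> rfl,
          hform]
        simp [ih, pow_succ', mul_assoc]
    obtain ⟨m, hm⟩ := T'.isPGroup' ⟨g, hg⟩
    have hk1 : k = 1 := by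
      obtain ⟨v, -, hv⟩ := X.onto ![0, 1]
      have h1 := hiter (p ^ m) v
      rw [show g ^ p ^ m = 1 from congrArg Subtype.val hm, one_smul, hv] at h1
      simp at h1
      have h2 : (k - 1) ^ p ^ m = 0 := by rw [sub_pow_char_pow, ← h1, one_pow, sub_self]
      exact sub_eq_zero.1 (eq_zero_of_pow_eq_zero h2)
    subst hk1
    have huT : ((X.ρ.symm (CfsgLib.SL2Pair.up c) : E) : P) ∈ (T' : Subgroup P) :=
      (X.axis _).2 ⟨c, X.ρ.apply_symm_apply _⟩
    refine ⟨(X.ρ.symm (CfsgLib.SL2Pair.up c) : E), ⟨hS ⟨huT, Subtype.coe_prop _⟩,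
      Subtype.coe_prop _⟩, fun v => (X.ker _).1 ?_⟩
    rw [map_sub, mul_smul, ← Subgroup.coe_inv, X.equi, map_inv, X.ρ.apply_symm_apply, hM,
      show X.ψ v = ![X.ψ v 0, X.ψ v 1] from funext fun i => by fin_cases i <;> rfl, hform,
      sub_eq_zero, CfsgLib.SL2Pair.up_inv, PMinFF.up_mulVec]
    ext i
    fin_cases i <;> simp

/-- The component of a largest elementary abelian subgroup in a symmetric block. -/
theorem pmd_comp_A {E : Subgroup P} (hE : E ∈ 𝓔) (X : PMD W T' E N) {A : Subgroup G}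
    (hA : A ∈ maxIn p (T : Subgroup G)) {a g : P} (ha : a ∈ A.map π) (hg : IsComp 𝓔 E a g) :
    g ∈ Jb T π ∧ X.ρ ⟨g, hg.1⟩ ∈
      closure (Swp T π X) := by
  classical
  have hp2 := X.p2
  subst hp2
  obtain ⟨-, -, hm, hel⟩ := D.trade hA
  set Ab := A.map π
  have hAJ : Ab ≤ Jb T π := Subgroup.map_mono (maxIn_le_thompson hA)
  let H0 : Subgroup P :=
    { carrier := {g | ∃ a ∈ Ab, IsComp 𝓔 E a g}
      one_mem' := ⟨1, one_mem _, comp_self D.blk hE (one_mem E)⟩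
      mul_mem' := fun {x y} ⟨a, ha, h1⟩ ⟨b, hb, h2⟩ =>
        ⟨a * b, mul_mem ha hb, comp_mul D.blk hE h1 h2⟩
      inv_mem' := fun {x} ⟨a, ha, h1⟩ => ⟨a⁻¹, inv_mem ha, comp_inv D.blk hE h1⟩ }
  have hcomm : ∀ x ∈ H0, ∀ b ∈ Ab, x * b = b * x := by
    rintro x ⟨a, ha, h1⟩ b hb
    obtain ⟨y, h2⟩ := exists_comp D.blk hE (D.Jb_le_N (hAJ hb))
    have h3 : x * y = y * x := comp_unique D.blk hE D.hyp (comp_mul D.blk hE h1 h2)
      (hel.comm a ha b hb ▸ comp_mul D.blk hE h2 h1)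
    calc x * b = (x * y) * (y⁻¹ * b) := by group
      _ = y * (x * (y⁻¹ * b)) := by rw [h3, mul_assoc]
      _ = b * x := by rw [← oth_commute D.blk hE h2.2 h1.1]; group
  have hH0el : Elem 2 H0 := by
    refine ⟨?_, ?_⟩
    · rintro x ⟨a, ha, h1⟩ y ⟨b, hb, h2⟩
      exact comp_unique D.blk hE D.hyp (comp_mul D.blk hE h1 h2)
        (hel.comm a ha b hb ▸ comp_mul D.blk hE h2 h1)
    · rintro x ⟨a, ha, h1⟩
      exact comp_unique D.blk hE D.hyp (comp_pow D.blk hE h1 2)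
        (by rw [hel.pow a ha]; exact comp_self D.blk hE (one_mem E))
  have hfixH : fix W Ab ≤ fix W H0 := by
    rintro v hv x ⟨a, ha, h1⟩
    have h2 : x • v - v ∈ com W E ⊓ fix W E := by
      refine ⟨mem_com h1.1 v, ?_⟩
      have h4 := smul_mem_fix_of_normalizes (cj_self h1.1)
        ((oth_modFix D.blk hE D.hyp h1.2) v)
      rw [smul_sub, ← mul_smul, show x * (x⁻¹ * a) = a by group, hv a ha] at h4
      rw [← neg_sub]
      exact (fix W E).neg_mem h4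
    rw [X.sep0] at h2
    exact sub_eq_zero.1 h2
  have hH0A : H0 ≤ Ab := by
    have hsup : Elem 2 (H0 ⊔ Ab) := hH0el.sup hel hcomm
    have h1 := (D.hyp.meas_le hsup).trans hm
    have h2 : fix W Ab ≤ fix W (H0 ⊔ Ab) := fun v hv => mem_fix_sup.2 ⟨hfixH hv, hv⟩
    have h3 : Nat.card ↥(H0 ⊔ Ab) * Nat.card (fix W Ab) ≤ Nat.card Ab * Nat.card (fix W Ab) :=
      (Nat.mul_le_mul_left _ (AddSubgroup.card_le_of_le h2)).trans h1
    exact le_sup_left.trans (Subgroup.eq_of_le_of_card_ge le_sup_right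
      (Nat.le_of_mul_le_mul_right h3 Nat.card_pos)).ge
  refine ⟨hAJ (hH0A ⟨a, ha, hg⟩), ?_⟩
  -- counting
  set A'' := Ab ⊓ oth 𝓔 E
  have hcard : Nat.card Ab ≤ Nat.card H0 * Nat.card A'' := by
    haveI : Fintype Ab := Fintype.ofFinite _
    choose y hy using fun b : Ab => exists_comp D.blk hE (D.Jb_le_N (hAJ b.2))
    have hyH : ∀ b : Ab, y b ∈ H0 := fun b => ⟨b, b.2, hy b⟩
    rw [← Nat.card_prod]
    refine Nat.card_le_card_of_injective (fun b => ((⟨y b, hyH b⟩ : H0),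
      (⟨(y b)⁻¹ * b, Ab.mul_mem (Ab.inv_mem (hH0A (hyH b))) b.2, (hy b).2⟩ : A''))) fun b c h => ?_
    have h1 := congrArg (fun z => (z.1 : P)) h
    have h2 := congrArg (fun z => (z.2 : P)) h
    dsimp only at h1 h2
    rw [h1] at h2
    exact Subtype.ext (mul_left_cancel h2)
  let F : Subgroup (Equiv.Perm (Fin N)) := (H0.subgroupOf E).map X.ρ.toMonoidHom
  have hFcard : Nat.card F = Nat.card H0 := by
    rw [Subgroup.card_map_of_injective X.ρ.injective,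
      Nat.card_congr (subgroupOfEquivOfLe (show H0 ≤ E from fun x ⟨_, _, h⟩ => h.1)).toEquiv]
  set K := fix W Ab ⊓ fix W E with hK
  have h1 : Nat.card (fix W Ab) ≤
      Nat.card {v : Vec N // Ev v ∧ ∀ h ∈ F, pa h v = v} * Nat.card K := by
    rw [card_map_mul X.ψ (fix W Ab), mul_comm]
    refine Nat.mul_le_mul ?_ (le_of_eq ?_)
    · refine Nat.card_le_card_of_injective (fun y => ⟨y.1, ?_⟩) fun y z h =>
        Subtype.ext (congrArg (fun x => x.1) h :)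
      obtain ⟨v, hv, e⟩ := y.2
      rw [← e]
      refine ⟨X.zero v, ?_⟩
      rintro - ⟨h, hh, rfl⟩
      show pa (X.ρ h) (X.ψ v) = _
      rw [← X.equi]
      exact congrArg X.ψ (hfixH hv _ hh)
    · rw [hK]
      congr 2
      ext v
      exact and_congr_right' (X.ker v)
  have hA'' : Elem 2 A'' := hel.mono inf_le_left
  have h2 : Nat.card {v : Vec N // Ev v} * Nat.card K ≤ Nat.card (fix W A'') := by
    rw [card_map_mul X.ψ (fix W A''), mul_comm]
    refine Nat.mul_le_mul (AddSubgroup.card_le_of_le (le_inf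
      (inf_le_left.trans (fix_anti inf_le_left))
      (fun v hv => (X.ker v).2 hv.2))) ?_
    refine Nat.card_le_card_of_injective (fun y => ⟨y.1, ?_⟩) fun y z h =>
      Subtype.ext (congrArg (fun x => x.1) h :)
    obtain ⟨u, hu, e⟩ := X.onto y.1 y.2
    exact ⟨u, fun r hr => oth_fix_com D.blk hE D.hyp hr.2 hu, e⟩
  have hW : Nat.card W ≤ Nat.card H0 * Nat.card A'' *
      (Nat.card {v : Vec N // Ev v ∧ ∀ h ∈ F, pa h v = v} * Nat.card K) :=
    hm.trans (Nat.mul_le_mul hcard h1)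
  have hW'' : Nat.card A'' * (Nat.card {v : Vec N // Ev v} * Nat.card K) ≤ Nat.card W :=
    (Nat.mul_le_mul_left _ h2).trans (D.hyp.meas_le hA'')
  have heq : Nat.card {v : Vec N // Ev v} ≤
      Nat.card F * Nat.card {v : Vec N // Ev v ∧ ∀ h ∈ F, pa h v = v} := by
    rw [hFcard]
    refine Nat.le_of_mul_le_mul_right (c := Nat.card A'' * Nat.card K) ?_
      (Nat.mul_pos Nat.card_pos Nat.card_pos)
    calc _ = Nat.card A'' * (Nat.card {v : Vec N // Ev v} * Nat.card K) := by ring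
      _ ≤ _ := hW''.trans hW
      _ = _ := by ring
  have hexp : ∀ h ∈ F, h * h = 1 := by
    rintro - ⟨h, hh, rfl⟩
    rw [← map_mul, show h * h = 1 from Subtype.ext (by simpa [pow_two] using hH0el.pow _ hh),
      map_one]
  have hodd : Odd N := by
    rw [X.hN]; exact Even.add_one ((Nat.even_pow' (by have := X.hn; omega)).2 even_two)
  have hmem : X.ρ ⟨g, hg.1⟩ ∈ F := ⟨⟨g, hg.1⟩, ⟨a, ha, hg⟩, rfl⟩
  refine Subgroup.closure_mono ?_ (le_closure_swaps hodd F hexp heq hmem)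
  rintro σ ⟨⟨h, hh, rfl⟩, hs⟩
  exact ⟨h, hAJ (hH0A hh), rfl, hs⟩

/-- The transpositions of a symmetric block coming from `J(T)`. -/
theorem pmd_swaps {E : Subgroup P} (hE : E ∈ 𝓔) (X : PMD W T' E N) :
    (∀ a b c, a ≠ b → a ≠ c →
      (∃ h : E, (h : P) ∈ Jb T π ∧ X.ρ h = Equiv.swap a b) →
      (∃ h : E, (h : P) ∈ Jb T π ∧ X.ρ h = Equiv.swap a c) → b = c) ∧
    (∀ a, a ≠ X.c → ∃ b, a ≠ b ∧ ∃ h : E, (h : P) ∈ Jb T π ∧ X.ρ h = Equiv.swap a b) ∧
    (∀ a b, a ≠ b → (∃ h : E, (h : P) ∈ Jb T π ∧ X.ρ h = Equiv.swap a b) → a ≠ X.c) := by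
  classical
  have hp2 := X.p2
  subst hp2
  have hdis : ∀ a b c, a ≠ b → a ≠ c →
      (∃ h : E, (h : P) ∈ Jb T π ∧ X.ρ h = Equiv.swap a b) →
      (∃ h : E, (h : P) ∈ Jb T π ∧ X.ρ h = Equiv.swap a c) → b = c := by
    rintro a b c hab hac ⟨h, hh, e⟩ ⟨k, hk, e'⟩
    refine swap_disjoint (S := (((T' : Subgroup P) ⊓ E).subgroupOf E).map X.ρ.toMonoidHom)
      (((T'.isPGroup'.to_le inf_le_left).comap_subtype (K := E)).map _) hab hac
      ⟨h, ⟨D.Jb_le_T hh, h.2⟩, e⟩ ⟨k, ⟨D.Jb_le_T hk, k.2⟩, e'⟩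
  have hconj : ∀ (t : E) a b, (t : P) ∈ (T' : Subgroup P) →
      (∃ h : E, (h : P) ∈ Jb T π ∧ X.ρ h = Equiv.swap a b) →
      ∃ h : E, (h : P) ∈ Jb T π ∧ X.ρ h = Equiv.swap (X.ρ t a) (X.ρ t b) := by
    rintro t a b ht ⟨h, hh, e⟩
    refine ⟨t * h * t⁻¹, ?_, ?_⟩
    · have := conj_mem_cj (g := (t : P)) hh
      rwa [D.Jb_inv ht] at this
    · rw [map_mul, map_mul, map_inv, e, Equiv.swap_apply_apply]
  have hnotc : ∀ a b, a ≠ b →
      (∃ h : E, (h : P) ∈ Jb T π ∧ X.ρ h = Equiv.swap a b) → a ≠ X.c := by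
    rintro a b hab hsw rfl
    obtain ⟨z, hzc, hzb⟩ : ∃ z, z ≠ X.c ∧ z ≠ b := exists_third (by
      rw [X.hN]
      have := Nat.pow_le_pow_right (show 1 ≤ 2 by norm_num) X.hn
      omega) _ _
    obtain ⟨t, ht, e⟩ := X.trans b z hab.symm hzc
    have h2 := hconj t _ _ ht hsw
    rw [X.fix_c t ht, e] at h2
    exact hzb (hdis _ _ _ hab (Ne.symm hzc) hsw h2).symm
  refine ⟨hdis, fun a ha => ?_, hnotc⟩
  obtain ⟨B, hB, hBE, hBJ⟩ := D.exists_mem_Jb E hE
  obtain ⟨g, hg, hg1⟩ := (Subgroup.bot_or_exists_ne_one B).resolve_left hB.ne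
  obtain ⟨σ, hσ⟩ : ∃ h : E, (h : P) ∈ Jb T π ∧ (X.ρ h).IsSwap := by
    by_contra hno
    push Not at hno
    have hmem : ∀ A ∈ maxIn 2 (T : Subgroup G), ∀ x ∈ A.map π, ∀ y, IsComp 𝓔 E x y → y = 1 := by
      intro A hA x hx y hy
      have h := (D.pmd_comp_A hE X hA hx hy).2
      have h0 : closure (Swp T π X) = ⊥ := by
        rw [Subgroup.closure_eq_bot_iff]
        rintro σ ⟨h, hh, rfl, hs⟩
        exact absurd hs (hno h hh)
      rw [h0, mem_bot, map_eq_one_iff _ X.ρ.injective] at h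
      exact congrArg Subtype.val h
    have hall : ∀ y, IsComp 𝓔 E g y → y = 1 := by
      refine D.Jb_induction (motive := fun j => ∀ y, IsComp 𝓔 E j y → y = 1) hmem
        (fun y hy => comp_unique D.blk hE D.hyp hy (comp_self D.blk hE (one_mem E)))
        (fun x hx z hz h1 h2 y hy => ?_) (fun x hx h1 y hy => ?_) (hBJ hg)
      · obtain ⟨a, ha⟩ := exists_comp D.blk hE (D.Jb_le_N hx)
        obtain ⟨b, hb⟩ := exists_comp D.blk hE (D.Jb_le_N hz)
        rw [comp_unique D.blk hE D.hyp hy (comp_mul D.blk hE ha hb), h1 a ha, h2 b hb, one_mul]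
      · obtain ⟨a, ha⟩ := exists_comp D.blk hE (D.Jb_le_N hx)
        rw [comp_unique D.blk hE D.hyp hy (comp_inv D.blk hE ha), h1 a ha, inv_one]
    exact hg1 (hall g (comp_self D.blk hE (hBE hg)))
  obtain ⟨hσJ, x, y, hxy, e⟩ := hσ
  obtain ⟨t, ht, e'⟩ := X.trans x a (hnotc x y hxy ⟨σ, hσJ, e⟩) ha
  have h2 := hconj t x y ht ⟨σ, hσJ, e⟩
  rw [e'] at h2
  exact ⟨X.ρ t y, fun h => hxy ((X.ρ t).injective (e'.trans h)), h2⟩

theorem pmd_hall {E : Subgroup P} (hE : E ∈ 𝓔) (X : PMD W T' E N) :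
    ∀ j ∈ Jb T π, ∀ g, ∀ hg : IsComp 𝓔 E j g,
      g ∈ Jb T π ∧ X.ρ ⟨g, hg.1⟩ ∈ closure (Swp T π X) := fun j hj => by
  refine D.Jb_induction
    (motive := fun j => ∀ g, ∀ hg : IsComp 𝓔 E j g,
      g ∈ Jb T π ∧ X.ρ ⟨g, hg.1⟩ ∈ closure (Swp T π X))
    (fun A hA a ha g hg => D.pmd_comp_A hE X hA ha hg)
    (fun g hg => ?_) (fun x hx z hz h1 h2 y hy => ?_) (fun x hx h1 y hy => ?_) hj
  · have := comp_unique D.blk hE D.hyp hg (comp_self D.blk hE (one_mem E))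
    subst this
    exact ⟨one_mem _, by rw [show (⟨1, hg.1⟩ : E) = 1 from rfl, map_one]; exact one_mem _⟩
  · obtain ⟨a, ha⟩ := exists_comp D.blk hE (D.Jb_le_N hx)
    obtain ⟨b, hb⟩ := exists_comp D.blk hE (D.Jb_le_N hz)
    have := comp_unique D.blk hE D.hyp hy (comp_mul D.blk hE ha hb)
    subst this
    refine ⟨mul_mem (h1 a ha).1 (h2 b hb).1, ?_⟩
    rw [show (⟨a * b, hy.1⟩ : E) = ⟨a, ha.1⟩ * ⟨b, hb.1⟩ from rfl, map_mul]
    exact mul_mem (h1 a ha).2 (h2 b hb).2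
  · obtain ⟨a, ha⟩ := exists_comp D.blk hE (D.Jb_le_N hx)
    have := comp_unique D.blk hE D.hyp hy (comp_inv D.blk hE ha)
    subst this
    refine ⟨inv_mem (h1 a ha).1, ?_⟩
    rw [show (⟨a⁻¹, hy.1⟩ : E) = ⟨a, ha.1⟩⁻¹ from rfl, map_inv]
    exact inv_mem (h1 a ha).2

theorem pmd_gen {E : Subgroup P} (hE : E ∈ 𝓔) (X : PMD W T' E N) {g : E}
    (hg : (g : P) ∈ Jb T π) : X.ρ g ∈ closure (Swp T π X) :=
  (D.pmd_hall hE X g hg g (comp_self D.blk hE g.2)).2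

theorem swp_comm {E : Subgroup P} (hE : E ∈ 𝓔) (X : PMD W T' E N) :
    ∀ σ ∈ Swp T π X, ∀ τ ∈ Swp T π X, σ * τ = τ * σ := by
  obtain ⟨hdis, -, -⟩ := D.pmd_swaps hE X
  rintro σ ⟨h, hh, rfl, a, b, hab, e⟩ τ ⟨k, hk, rfl, x, y, hxy, e'⟩
  rw [e, e']
  have hba : X.ρ h = Equiv.swap b a := by rw [e, Equiv.swap_comm]
  have hyx : X.ρ k = Equiv.swap y x := by rw [e', Equiv.swap_comm]
  by_cases c1 : a = x
  · subst c1
    rw [hdis a b y hab hxy ⟨h, hh, e⟩ ⟨k, hk, e'⟩]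
  by_cases c2 : a = y
  · subst c2
    rw [hdis a b x hab hxy.symm ⟨h, hh, e⟩ ⟨k, hk, hyx⟩, Equiv.swap_comm]
  by_cases c3 : b = x
  · subst c3
    rw [hdis b a y hab.symm hxy ⟨h, hh, hba⟩ ⟨k, hk, e'⟩, Equiv.swap_comm]
  by_cases c4 : b = y
  · subst c4
    rw [hdis b a x hab.symm hxy.symm ⟨h, hh, hba⟩ ⟨k, hk, hyx⟩]
  refine (Equiv.Perm.disjoint_iff_eq_or_eq.2 fun z => ?_ :
    Equiv.Perm.Disjoint (Equiv.swap a b) (Equiv.swap x y)).commute
  rcases eq_or_ne z a with rfl | hza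
  · exact Or.inr (Equiv.swap_apply_of_ne_of_ne c1 c2)
  rcases eq_or_ne z b with rfl | hzb
  · exact Or.inr (Equiv.swap_apply_of_ne_of_ne c3 c4)
  exact Or.inl (Equiv.swap_apply_of_ne_of_ne hza hzb)

theorem closure_swp_comm {E : Subgroup P} (hE : E ∈ 𝓔) (X : PMD W T' E N) :
    ∀ σ ∈ closure (Swp T π X), ∀ τ ∈ closure (Swp T π X), σ * τ = τ * σ := by
  have h := (Subgroup.isMulCommutative_closure (D.swp_comm hE X)).is_comm.comm
  exact fun σ hσ τ hτ => congrArg Subtype.val (h ⟨σ, hσ⟩ ⟨τ, hτ⟩)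

theorem pmd_pair_vec {E : Subgroup P} (hE : E ∈ 𝓔) (X : PMD W T' E N) {a b : Fin N} (hab : a ≠ b)
    (hsw : Equiv.swap a b ∈ Swp T π X) :
    ∃ u ∈ com W E, X.ψ u = ed a b ∧ u ∈ fix W (Jb T π) := by
  obtain ⟨u, hu, e⟩ := X.onto (ed a b) (ev_ed a b)
  refine ⟨u, hu, e, D.fix_com_Jb hE hu fun j hj k hk => ?_⟩
  set σ := X.ρ ⟨k, hk.1⟩ with hσdef
  have hc : σ * Equiv.swap a b = Equiv.swap a b * σ :=
    D.closure_swp_comm hE X _ (D.pmd_hall hE X j hj k hk).2 _ (subset_closure hsw)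
  have hconj : Equiv.swap (σ a) (σ b) = Equiv.swap a b := by
    rw [Equiv.swap_apply_apply, hc, mul_inv_cancel_right]
  have h1 : pa σ (ed a b) = ed a b := by
    rw [pa_ed]
    have hne : σ a ≠ σ b := fun e0 => hab (σ.injective e0)
    have h3 : Equiv.swap a b (σ a) = σ b := by rw [← hconj, Equiv.swap_apply_left]
    rcases eq_or_ne (σ a) a with h4 | h4
    · rw [h4, Equiv.swap_apply_left] at h3
      rw [h4, ← h3]
    · have h5 : σ a = b := by
        by_contra h6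
        rw [Equiv.swap_apply_of_ne_of_ne h4 h6] at h3
        exact hne h3
      rw [h5, Equiv.swap_apply_right] at h3
      rw [h5, ← h3, ed_comm]
  have h2 : k • u - u ∈ com W E ⊓ fix W E := by
    refine ⟨mem_com hk.1 u, (X.ker _).1 ?_⟩
    rw [map_sub, X.equi ⟨k, hk.1⟩, e, h1, sub_self]
  rw [X.sep0] at h2
  exact sub_eq_zero.1 h2

theorem pmd_inner {E : Subgroup P} (hE : E ∈ 𝓔) (X : PMD W T' E N) {g : P}
    (hg : g ∈ (T' : Subgroup P)) (hgE : cj g E = E) (hfix : ∀ v ∈ fix W (Jb T π), g • v = v) :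
    ∃ u ∈ Jb T π ⊓ E, u⁻¹ * g ∈ modFix W E := by
  obtain ⟨hdis, hcov, hnotc⟩ := D.pmd_swaps hE X
  obtain ⟨g', hg'E, hmod⟩ := X.inner g hg hgE
  set σ := X.ρ ⟨g', hg'E⟩ with hσdef
  have hsw' : ∀ a b, a ≠ b → (∃ h : E, (h : P) ∈ Jb T π ∧ X.ρ h = Equiv.swap a b) →
      Equiv.swap a b ∈ Swp T π X := fun a b hab ⟨h, hh, e⟩ => ⟨h, hh, e, a, b, hab, rfl⟩
  have hsw'' : ∀ a b, Equiv.swap a b ∈ Swp T π X →
      ∃ h : E, (h : P) ∈ Jb T π ∧ X.ρ h = Equiv.swap a b := fun a b ⟨h, hh, e, _⟩ => ⟨h, hh, e⟩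
  have hpair : ∀ a b, a ≠ b → Equiv.swap a b ∈ Swp T π X → σ a = a ∨ σ a = b := by
    intro a b hab hsw
    obtain ⟨u, hu, e, huf⟩ := D.pmd_pair_vec hE X hab hsw
    have h3 := (X.ker _).2 (hmod u)
    rw [map_sub, sub_eq_zero, mul_smul, hfix u huf, show g'⁻¹ • u =
      ((⟨g', hg'E⟩⁻¹ : E) : P) • u from rfl, X.equi, map_inv, ← hσdef, e] at h3
    have h : pa σ (ed a b) = ed a b := by
      conv_lhs => rw [← h3, ← pa_mul, mul_inv_cancel, pa_one]
    rw [pa_ed] at h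
    have h1 := congrFun h (σ a)
    rw [ed_left (fun e0 => hab (σ.injective e0))] at h1
    exact mem_of_ed hab h1.symm
  have hc : σ X.c = X.c := by
    by_contra hne
    obtain ⟨b, hzb, hsw⟩ := hcov _ hne
    rcases hpair _ b hzb (hsw' _ b hzb hsw) with h | h
    · exact hne (σ.injective h)
    · obtain ⟨k, hk, ek⟩ := hsw
      have hsw2 : ∃ h : E, (h : P) ∈ Jb T π ∧ X.ρ h = Equiv.swap b (σ X.c) :=
        ⟨k, hk, by rw [ek, Equiv.swap_comm]⟩
      rcases hpair b _ hzb.symm (hsw' _ _ hzb.symm hsw2) with h' | h'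
      · exact hzb (σ.injective (h.trans h'.symm))
      · exact hnotc b (σ X.c) hzb.symm hsw2 (σ.injective h')
  have hcl' : σ ∈ closure (Swp T π X) := by
    refine pairs_le_closure _ (fun a b c hab hac m1 m2 =>
      hdis a b c hab hac (hsw'' a b m1) (hsw'' a c m2)) σ hpair fun a ha => ?_
    obtain ⟨b, hab, hsw⟩ := hcov a fun hac => ha (hac ▸ hc)
    exact ⟨b, hab, hsw' a b hab hsw⟩
  have hle : closure (Swp T π X) ≤ ((Jb T π).subgroupOf E).map X.ρ.toMonoidHom := by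
    rw [Subgroup.closure_le]
    rintro τ ⟨h, hh, rfl, -⟩
    exact ⟨h, hh, rfl⟩
  obtain ⟨h, hh, e⟩ := hle hcl'
  have := X.ρ.injective e
  subst this
  exact ⟨g', ⟨hh, hg'E⟩, hmod⟩

theorem nice_perm {E : Subgroup P} (hE : E ∈ 𝓔) (X : PMD W T' E N) :
    Nice W T' 𝓔 (Jb T π) E := by
  refine ⟨fun j hj => ?_, ⟨?_, ?_⟩, ?_, fun g hg hgE hfix => D.pmd_inner hE X hg hgE hfix⟩
  · obtain ⟨g, hg⟩ := exists_comp D.blk hE (D.Jb_le_N hj)
    exact ⟨g, (D.pmd_hall hE X j hj g hg).1, hg⟩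
  · intro x hx y hy
    have h2 := D.closure_swp_comm hE X _ (D.pmd_gen hE X (g := ⟨x, hx.2⟩) hx.1) _
      (D.pmd_gen hE X (g := ⟨y, hy.2⟩) hy.1)
    rw [← map_mul, ← map_mul] at h2
    exact congrArg Subtype.val (X.ρ.injective h2)
  · intro x hx
    have hsq : ∀ σ ∈ closure (Swp T π X), σ ^ p = 1 := by
      intro σ hσ
      rw [X.p2]
      induction hσ using Subgroup.closure_induction with
      | mem a ha =>
        obtain ⟨h, -, -, u, v, -, rfl⟩ := ha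
        rw [pow_two, Equiv.swap_mul_self]
      | one => simp
      | mul a b ha hb iha ihb =>
        have hab : Commute a b := D.closure_swp_comm hE X a ha b hb
        rw [hab.mul_pow, iha, ihb, one_mul]
      | inv a _ iha => rw [inv_pow, iha, inv_one]
    have := hsq _ (D.pmd_gen hE X (g := ⟨x, hx.2⟩) hx.1)
    rw [← map_pow, map_eq_one_iff _ X.ρ.injective] at this
    exact congrArg Subtype.val this
  · obtain ⟨-, hcov, -⟩ := D.pmd_swaps hE X
    obtain ⟨a, ha, -⟩ := exists_third (show 3 ≤ N by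
      rw [X.hN]
      have := Nat.pow_le_pow_right (show 1 ≤ 2 by norm_num) X.hn
      omega) X.c X.c
    obtain ⟨b, hab, k, hk, ek⟩ := hcov a ha
    obtain ⟨u, hu, e, huf⟩ := D.pmd_pair_vec hE X hab ⟨k, hk, ek, a, b, hab, rfl⟩
    refine ⟨u, hu, huf, fun h => ?_⟩
    have := congrFun (e.symm.trans ((X.ker u).2 h)) a
    rw [ed_left hab] at this
    simp at this

theorem nice {E : Subgroup P} (hE : E ∈ 𝓔) : Nice W T' 𝓔 (Jb T π) E := by
  rcases D.blk.nat E hE with h | ⟨hP, hI, hd⟩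
  · exact (D.nice_sl hE h).2
  · obtain ⟨N, ⟨X⟩⟩ := exists_pmd D.blk hE hP hI hd
    exact D.nice_perm hE X

theorem Jb_elem : Elem p (Jb T π) := by
  have hall : ∀ j ∈ Jb T π, ∀ E ∈ 𝓔, ∀ g, IsComp 𝓔 E j g → g ∈ Jb T π ⊓ E := by
    intro j hj E hE g hg
    obtain ⟨g', hg', hc⟩ := (D.nice hE).comp j hj
    rw [comp_unique D.blk hE D.hyp hg hc]
    exact ⟨hg', hc.1⟩
  have hid : ∀ x ∈ sSup 𝓔, (∀ E ∈ 𝓔, IsComp 𝓔 E x 1) → x = 1 := fun x hx h => by
    refine D.hyp.faithful x fun v => ?_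
    let S : AddSubgroup W :=
      { carrier := {v | x • v = v}
        zero_mem' := smul_zero x
        add_mem' := fun {a b} (ha : x • a = a) (hb : x • b = b) => by
          show x • (a + b) = a + b
          rw [smul_add, ha, hb]
        neg_mem' := fun {a} (ha : x • a = a) => by
          show x • -a = -a
          rw [smul_neg, ha] }
    refine (sup_le (fun w hw => hw x hx) (iSup₂_le fun E hE w hw => ?_) :
      fix W (sSup 𝓔) ⊔ ⨆ E ∈ 𝓔, com W E ≤ S) (D.blk.decomp v)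
    show x • w = w
    rw [comp_eq_smul_com D.blk hE D.hyp (h E hE) hw, one_smul]
  refine ⟨fun a ha b hb => ?_, fun a ha => ?_⟩
  · refine mul_inv_eq_one.1 (hid _ (D.Jb_le_N (mul_mem (mul_mem ha hb)
      (inv_mem (mul_mem hb ha)))) fun E hE => ?_)
    obtain ⟨g, hg⟩ := exists_comp D.blk hE (D.Jb_le_N ha)
    obtain ⟨h, hh⟩ := exists_comp D.blk hE (D.Jb_le_N hb)
    have := comp_mul D.blk hE (comp_mul D.blk hE hg hh)
      (comp_inv D.blk hE (comp_mul D.blk hE hh hg))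
    rwa [(D.nice hE).elem.comm g (hall a ha E hE g hg) h (hall b hb E hE h hh),
      mul_inv_cancel] at this
  · refine hid _ (D.Jb_le_N (pow_mem ha p)) fun E hE => ?_
    obtain ⟨g, hg⟩ := exists_comp D.blk hE (D.Jb_le_N ha)
    have := comp_pow D.blk hE hg p
    rwa [(D.nice hE).elem.pow g (hall a ha E hE g hg)] at this

/-- The Baumann subgroup has the same image as the Thompson subgroup. -/
theorem map_B : (Cfsg.baumannSubgroupOf p (T : Subgroup G)).map π = Jb T π := by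
  classical
  refine le_antisymm ?_ (Subgroup.map_mono D.J_le_B)
  rintro - ⟨b, hb, rfl⟩
  have hbT : π b ∈ (T' : Subgroup P) := D.hT'.symm ▸ Subgroup.mem_map_of_mem π (D.mem_B.1 hb).1
  have hfix : ∀ v ∈ fix W (Jb T π), π b • v = v := fun v hv =>
    D.quot.smul_eq_iff.2 ((D.mem_B.1 hb).2 _ (D.fix_le_Y hv)).symm
  have hnorm : ∀ E ∈ 𝓔, cj (π b) E = E := by
    intro E hE
    by_contra hne
    obtain ⟨v, hv, hvJ, hvE⟩ := (D.nice hE).vec
    refine hvE ?_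
    have h1 := D.blk.sep _ (D.blk.inv E hE _ hbT) E hE hne (smul_mem_com_cj (g := π b) hv)
    rwa [hfix v hvJ] at h1
  haveI := Fintype.ofFinite (Subgroup P)
  obtain ⟨g, hgJ, hgm⟩ : ∃ g ∈ Jb T π, ∀ E ∈ 𝓔, g⁻¹ * π b ∈ modFix W E := by
    suffices h : ∀ s : Finset (Subgroup P), (∀ E ∈ s, E ∈ 𝓔) →
        ∃ g ∈ Jb T π, (∀ E ∈ s, g⁻¹ * π b ∈ modFix W E) ∧
          ∀ E ∈ 𝓔, E ∉ s → g ∈ modFix W E by
      obtain ⟨g, hg, h1, -⟩ := h (Finset.univ.filter (· ∈ 𝓔)) (by simp)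
      exact ⟨g, hg, fun E hE => h1 E (by simp [hE])⟩
    intro s
    induction s using Finset.induction_on with
    | empty => exact fun _ => ⟨1, one_mem _, by simp, fun E _ _ => one_mem _⟩
    | @insert E s hEs ih =>
      intro hs
      have hE := hs E (Finset.mem_insert_self _ _)
      obtain ⟨g, hg, h1, h2⟩ := ih fun E' h' => hs E' (Finset.mem_insert_of_mem h')
      obtain ⟨u, hu, hmod⟩ := (D.nice hE).inner _ hbT (hnorm E hE) hfix
      have huo : ∀ E' ∈ 𝓔, E' ≠ E → u ∈ modFix W E' := fun E' hE' hne =>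
        D.hyp.mem_modFix_other D.blk hE hE' hne hu.2
      refine ⟨g * u, mul_mem hg hu.1, fun E' hE' => ?_, fun E' hE' hE's =>
        mul_mem (h2 E' hE' fun h => hE's (Finset.mem_insert_of_mem h))
          (huo E' hE' fun h => hE's (h ▸ Finset.mem_insert_self _ _))⟩
      rcases Finset.mem_insert.1 hE' with rfl | hE's
      · rw [D.Jb_elem.comm g hg u hu.1,
          show (u * g)⁻¹ * π b = g⁻¹ * (u⁻¹ * π b) by group]
        exact mul_mem (inv_mem (h2 _ hE hEs)) hmod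
      · rw [show (g * u)⁻¹ * π b = u⁻¹ * (g⁻¹ * π b) by group]
        exact mul_mem (inv_mem (huo E' (hs E' (Finset.mem_insert_of_mem hE's))
          fun h => hEs (h ▸ hE's))) (h1 E' hE's)
  have hgb : g⁻¹ * π b = 1 := by
    have hgN : ∀ E ∈ 𝓔, cj g E = E := fun E hE =>
      PMinFF.mem_normalizer_iff_cj.1 (N_le_normalizer D.blk hE (D.Jb_le_N hgJ))
    refine D.hyp.faithful _ fun v => ?_
    let S : AddSubgroup W :=
      { carrier := {v | (g⁻¹ * π b) • v = v}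
        zero_mem' := smul_zero _
        add_mem' := fun {a c} (ha : (g⁻¹ * π b) • a = a) (hc : (g⁻¹ * π b) • c = c) => by
          show (g⁻¹ * π b) • (a + c) = a + c
          rw [smul_add, ha, hc]
        neg_mem' := fun {a} (ha : (g⁻¹ * π b) • a = a) => by
          show (g⁻¹ * π b) • -a = -a
          rw [smul_neg, ha] }
    refine (sup_le (fun w hw => ?_) (iSup₂_le fun E hE w hw => ?_) :
      fix W (sSup 𝓔) ⊔ ⨆ E ∈ 𝓔, com W E ≤ S) (D.blk.decomp v)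
    · show (g⁻¹ * π b) • w = w
      rw [mul_smul, hfix w (fix_anti D.Jb_le_N hw)]
      exact fix_anti D.Jb_le_N hw _ (inv_mem hgJ)
    · refine D.hyp.fix_com_of_modFix (D.blk.nat E hE) ?_ (hgm E hE) hw
      rw [cj_mul, hnorm E hE]
      conv_lhs => rw [← hgN E hE]
      exact cj_inv_cj g E
  rw [← inv_mul_eq_one.1 hgb]
  exact hgJ

end PU

end CfsgLib.PushUpB
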